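import Mathlib

/-!
# Extension of a symmetric function on generators to an alternating form

`exists_form` : `N` an elementary abelian 2-group generated by `PP`; functionals `f p` (`p ∈ PP`) on `N` with
`f p q = f q p`, `f p p = 1` come from an alternating form `B` on `N`.
-/

set_option autoImplicit false

namespace Cfsg.Agent.Omega.OM.KTwo.FormOf

open Subgroup

variable {G : Type*} [Group G]

/-- pairs `(u, φ)`, `φ` the functional of `u` -/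
def Gam (PP : Set G) (f : G → G → ℤˣ) : Subgroup (G × (G → ℤˣ)) := closure {x | ∃ p ∈ PP, x = (p, f p)}

theorem exists_form {N : Subgroup G} {PP : Set G} {f : G → G → ℤˣ} (sq : ∀ u ∈ N, u * u = 1)
    (sub : ∀ p ∈ PP, p ∈ N) (gen : N ≤ closure PP)
    (mul : ∀ p ∈ PP, ∀ u ∈ N, ∀ w ∈ N, f p (u * w) = f p u * f p w)
    (symm : ∀ p ∈ PP, ∀ q ∈ PP, f p q = f q p) (self : ∀ p ∈ PP, f p p = 1) :
    ∃ B : G → G → ℤˣ, (∀ p ∈ PP, ∀ u ∈ N, B p u = f p u) ∧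
      (∀ u ∈ N, ∀ w ∈ N, ∀ w' ∈ N, B u (w * w') = B u w * B u w') ∧
      (∀ u ∈ N, ∀ w ∈ N, B u w = B w u) ∧ ∀ u ∈ N, B u u = 1 := by
  classical
  have huu : ∀ a : ℤˣ, a * a = 1 := fun a => by
    rcases Int.units_eq_one_or a with h | h <;> simp [h]
  have hone : ∀ p ∈ PP, f p 1 = 1 := by
    intro p hp
    have h := mul p hp 1 N.one_mem 1 N.one_mem
    rw [mul_one, huu] at h
    exact h
  -- elements of `Gam`
  have hG : ∀ x ∈ Gam PP f, x.1 ∈ N ∧ (∀ u ∈ N, ∀ w ∈ N, x.2 (u * w) = x.2 u * x.2 w) ∧ ∀ q ∈ PP, x.2 q = f q x.1 := by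
    intro x hx
    refine closure_induction (p := fun x _ => x.1 ∈ N ∧ (∀ u ∈ N, ∀ w ∈ N, x.2 (u * w) = x.2 u * x.2 w) ∧
      ∀ q ∈ PP, x.2 q = f q x.1) ?_ ?_ ?_ ?_ hx
    · rintro _ ⟨p, hp, rfl⟩
      exact ⟨sub p hp, mul p hp, fun q hq => symm p hp q hq⟩
    · exact ⟨N.one_mem, fun u _ w _ => by simp, fun q hq => by simpa using (hone q hq).symm⟩
    · rintro x y _ _ ⟨h1, h2, h3⟩ ⟨h1', h2', h3'⟩
      refine ⟨N.mul_mem h1 h1', fun u hu w hw => ?_, fun q hq => ?_⟩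
      · simp only [Prod.snd_mul, Pi.mul_apply]
        rw [h2 u hu w hw, h2' u hu w hw]
        exact mul_mul_mul_comm _ _ _ _
      · simp only [Prod.snd_mul, Pi.mul_apply, Prod.fst_mul]
        rw [h3 q hq, h3' q hq, mul q hq _ h1 _ h1']
    · rintro x _ ⟨h1, h2, h3⟩
      have hinv : x.1⁻¹ = x.1 := inv_eq_of_mul_eq_one_left (sq _ h1)
      have hinv2 : x.2⁻¹ = x.2 := by
        funext u
        exact inv_eq_of_mul_eq_one_left (huu _)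
      refine ⟨N.inv_mem h1, ?_, ?_⟩
      · simp only [Prod.snd_inv, hinv2]
        exact h2
      · simp only [Prod.snd_inv, Prod.fst_inv, hinv2, hinv]
        exact h3
  -- functionals agreeing on `PP`
  have huniq : ∀ φ ψ : G → ℤˣ, (∀ u ∈ N, ∀ w ∈ N, φ (u * w) = φ u * φ w) →
      (∀ u ∈ N, ∀ w ∈ N, ψ (u * w) = ψ u * ψ w) → (∀ q ∈ PP, φ q = ψ q) → ∀ u ∈ N, φ u = ψ u := by
    intro φ ψ h1 h2 h3 u hu
    have key : ∀ x ∈ closure PP, x ∈ N ∧ φ x = ψ x := by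
      intro x hx
      refine closure_induction (p := fun x _ => x ∈ N ∧ φ x = ψ x) ?_ ?_ ?_ ?_ hx
      · exact fun q hq => ⟨sub q hq, h3 q hq⟩
      · refine ⟨N.one_mem, ?_⟩
        have e1 := h1 1 N.one_mem 1 N.one_mem
        have e2 := h2 1 N.one_mem 1 N.one_mem
        rw [mul_one, huu] at e1 e2
        rw [e1, e2]
      · rintro x y _ _ ⟨hx, ex⟩ ⟨hy, ey⟩
        exact ⟨N.mul_mem hx hy, by rw [h1 x hx y hy, h2 x hx y hy, ex, ey]⟩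
      · rintro x _ ⟨hx, ex⟩
        have hinv : x⁻¹ = x := inv_eq_of_mul_eq_one_left (sq _ hx)
        rw [hinv]
        exact ⟨hx, ex⟩
    exact (key u (gen hu)).2
  -- existence
  have hex : ∀ u ∈ N, ∃ φ : G → ℤˣ, (u, φ) ∈ Gam PP f := by
    intro u hu
    refine closure_induction (p := fun u _ => ∃ φ : G → ℤˣ, (u, φ) ∈ Gam PP f) ?_ ?_ ?_ ?_ (gen hu)
    · exact fun p hp => ⟨f p, subset_closure ⟨p, hp, rfl⟩⟩
    · exact ⟨1, one_mem _⟩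
    · rintro x y _ _ ⟨φ, h1⟩ ⟨ψ, h2⟩
      exact ⟨φ * ψ, mul_mem h1 h2⟩
    · rintro x _ ⟨φ, h1⟩
      exact ⟨φ⁻¹, inv_mem h1⟩
  choose! φ hφ using hex
  have hB : ∀ u ∈ N, ∀ ψ : G → ℤˣ, (u, ψ) ∈ Gam PP f → ∀ w ∈ N, φ u w = ψ w := by
    intro u hu ψ hψ w hw
    have h1 := hG _ (hφ u hu)
    have h2 := hG _ hψ
    exact huniq _ _ h1.2.1 h2.2.1 (fun q hq => by rw [h1.2.2 q hq, h2.2.2 q hq]) w hw
  have hP : ∀ p ∈ PP, ∀ u ∈ N, φ p u = f p u := fun p hp u hu =>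
    hB p (sub p hp) _ (subset_closure ⟨p, hp, rfl⟩) u hu
  have hmul : ∀ u ∈ N, ∀ w ∈ N, ∀ w' ∈ N, φ u (w * w') = φ u w * φ u w' := fun u hu => (hG _ (hφ u hu)).2.1
  have hmul' : ∀ u ∈ N, ∀ u' ∈ N, ∀ w ∈ N, φ (u * u') w = φ u w * φ u' w := fun u hu u' hu' w hw =>
    hB _ (N.mul_mem hu hu') _ (mul_mem (hφ u hu) (hφ u' hu')) w hw
  have hsymm : ∀ u ∈ N, ∀ w ∈ N, φ u w = φ w u := by
    intro u hu w hw
    refine huniq (φ u) (fun w => φ w u) (hmul u hu) (fun w hw w' hw' => hmul' w hw w' hw' u hu) (fun q hq => ?_) w hw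
    exact ((hG _ (hφ u hu)).2.2 q hq).trans (hP q hq u hu).symm
  refine ⟨φ, hP, hmul, hsymm, fun u hu => ?_⟩
  refine (closure_induction (p := fun x _ => x ∈ N ∧ φ x x = 1) ?_ ?_ ?_ ?_ (gen hu)).2
  · exact fun p hp => ⟨sub p hp, by rw [hP p hp p (sub p hp), self p hp]⟩
  · refine ⟨N.one_mem, ?_⟩
    have h := hmul 1 N.one_mem 1 N.one_mem 1 N.one_mem
    rw [mul_one, huu] at h
    exact h
  · rintro x y _ _ ⟨hx, ex⟩ ⟨hy, ey⟩
    refine ⟨N.mul_mem hx hy, ?_⟩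
    rw [hmul' x hx y hy _ (N.mul_mem hx hy), hmul x hx x hx y hy, hmul y hy x hx y hy, ex, ey, hsymm y hy x hx,
      one_mul, mul_one, huu]
  · rintro x _ ⟨hx, ex⟩
    have hinv : x⁻¹ = x := inv_eq_of_mul_eq_one_left (sq _ hx)
    rw [hinv]
    exact ⟨hx, ex⟩

end Cfsg.Agent.Omega.OM.KTwo.FormOf
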