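import Cfsg.Agent.Omega.OM.KTwo.Cut

/-!
# NO-3S, `k = 2`, `q = 2`, case (II): STEP F (helper609 #16177 (1))

* `StepF.le_normalizer` (abstract): `C₁ = F N_{C₁}(L)`, `F ≤ C₂`, `C₂ = ⟨D, M⟩`, `M` transitive on `L#`: the group
  generated by the `C₂`-conjugates of `v ∈ L` is normalised by `C₁`;
* `Sit.step_f` : `C_G(v i) = C_{C_G(v i)}(N i) N(U i)` is impossible in the nonlocal case;
* `Sit.z_not_conj` : `z = v 0 v 1` is not conjugate to `v i` ((f4)).
-/

set_option autoImplicit false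
set_option linter.unusedSectionVars false

namespace Cfsg.Agent.Omega.OM.KTwo

open Subgroup Cfsg Cfsg.Agent.ZN Cfsg.Agent.Omega.MinPar
open Cfsg.Agent.Omega.NO3S Cfsg.Agent.Omega.FrameNOFF
open Cfsg.Agent.Omega.NoFF.Basic (conj_conj mem_conj conj_le_iff conj_le_centralizer comm_symm comm_mono
  Z_le_V V_le conj_V_mul)
open Cfsg.Agent.Omega.NOThreeL.Pair (conj_eq_of_mem)
open Cfsg.Agent.ZN.ChoiceSit (Syl)
open Cfsg.Agent.MinSimple.VModule (mem_zc)
open scoped Pointwise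

universe u

variable {G : Type u} [Group G]

/-- elements of `F N`, `N ≤ N(F)` -/
theorem exists_mul_of_mem_sup {F N : Subgroup G} (h : N ≤ normalizer (F : Set G)) {x : G} (hx : x ∈ F ⊔ N) :
    ∃ f ∈ F, ∃ n ∈ N, x = f * n := by
  have key : ∀ n ∈ N, ∀ f ∈ F, n * f * n⁻¹ ∈ F := fun n hn f hf => (mem_normalizer_iff.1 (h hn) f).1 hf
  let K : Subgroup G :=
    { carrier := {x | ∃ f ∈ F, ∃ n ∈ N, x = f * n}
      one_mem' := ⟨1, one_mem F, 1, one_mem N, by simp⟩
      mul_mem' := by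
        rintro _ _ ⟨f, hf, n, hn, rfl⟩ ⟨f', hf', n', hn', rfl⟩
        exact ⟨f * (n * f' * n⁻¹), mul_mem hf (key n hn f' hf'), n * n', mul_mem hn hn', by group⟩
      inv_mem' := by
        rintro _ ⟨f, hf, n, hn, rfl⟩
        refine ⟨n⁻¹ * f⁻¹ * n⁻¹⁻¹, key _ (inv_mem hn) _ (inv_mem hf), n⁻¹, inv_mem hn, by group⟩ }
  have hle : F ⊔ N ≤ K := sup_le (fun f hf => ⟨f, hf, 1, one_mem N, by simp⟩) fun n hn => ⟨1, one_mem F, n, hn, by simp⟩
  exact hle hx

namespace StepF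

/-- **STEP F, abstract form.** -/
theorem le_normalizer {C₁ C₂ D M F L : Subgroup G} {v : G} (hv : ∀ g, g ∈ C₁ ↔ g * v * g⁻¹ = v) (hvL : v ∈ L)
    (hv1 : v ≠ 1) (hFn : C₁ ≤ normalizer (F : Set G)) (hFC : F ≤ C₂) (hD1 : D ≤ C₁)
    (hM2 : M ≤ C₂) (hML : M ≤ normalizer (L : Set G)) (hC2 : C₂ ≤ D ⊔ M)
    (hC1 : C₁ ≤ F ⊔ (C₁ ⊓ normalizer (L : Set G))) (htr : ∀ w ∈ L, w ≠ 1 → ∃ l ∈ M, l * v * l⁻¹ = w) :
    C₁ ≤ normalizer (NoFF.Basic.V (zpowers v) C₂ : Set G) := by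
  -- `C₁ C₂ ≤ C₂ C₁`
  have hM : ∀ m ∈ M, ∀ c ∈ C₁, ∃ x ∈ C₂, ∃ c' ∈ C₁, c * m = x * c' := by
    intro m hm c hc
    obtain ⟨f, hf, n, hn, rfl⟩ := exists_mul_of_mem_sup (inf_le_left.trans hFn) (hC1 hc)
    have hw : n * m * v * (n * m)⁻¹ ∈ L := by
      have h1 : m * v * m⁻¹ ∈ L := (mem_normalizer_iff.1 (hML hm) v).1 hvL
      have h2 := (mem_normalizer_iff.1 hn.2 _).1 h1
      have e : n * m * v * (n * m)⁻¹ = n * (m * v * m⁻¹) * n⁻¹ := by group
      rwa [e]
    obtain ⟨l, hl, hlw⟩ := htr _ hw (fun h => hv1 (conj_eq_one_iff.1 h))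
    refine ⟨f * l, mul_mem (hFC hf) (hM2 hl), l⁻¹ * n * m, (hv _).2 ?_, by group⟩
    calc l⁻¹ * n * m * v * (l⁻¹ * n * m)⁻¹ = l⁻¹ * (n * m * v * (n * m)⁻¹) * l := by group
      _ = l⁻¹ * (l * v * l⁻¹) * l := by rw [hlw]
      _ = v := by group
  have hA : ∀ y ∈ D ⊔ M, ∀ c ∈ C₁, ∃ x ∈ C₂, ∃ c' ∈ C₁, c * y = x * c' := by
    intro y hy
    rw [← closure_eq D, ← closure_eq M, ← Subgroup.closure_union] at hy
    induction hy using closure_induction'' with
    | mem x hx =>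
      intro c hc
      rcases hx with hx | hx
      · exact ⟨1, one_mem _, c * x, mul_mem hc (hD1 hx), by group⟩
      · exact hM x hx c hc
    | inv_mem x hx =>
      intro c hc
      rcases hx with hx | hx
      · exact ⟨1, one_mem _, c * x⁻¹, mul_mem hc (inv_mem (hD1 hx)), by group⟩
      · exact hM x⁻¹ (inv_mem hx) c hc
    | one => exact fun c hc => ⟨1, one_mem _, c, hc, by group⟩
    | mul x y _ _ h1 h2 =>
      intro c hc
      obtain ⟨x₁, hx₁, c₁, hc₁, e₁⟩ := h1 c hc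
      obtain ⟨x₂, hx₂, c₂, hc₂, e₂⟩ := h2 c₁ hc₁
      refine ⟨x₁ * x₂, mul_mem hx₁ hx₂, c₂, hc₂, ?_⟩
      calc c * (x * y) = c * x * y := by group
        _ = x₁ * (c₁ * y) := by rw [e₁]; group
        _ = x₁ * x₂ * c₂ := by rw [e₂]; group
  have hz : ∀ c ∈ C₁, MulAut.conj c • zpowers v = zpowers v := by
    intro c hc
    apply NOThreeL.Pair.conj_eq_of_mem
    apply centralizer_le_normalizer
    rw [mem_centralizer_iff]
    rintro _ ⟨n, rfl⟩
    have h1 : Commute c v := by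
      have h2 := (hv c).1 hc
      calc c * v = c * v * c⁻¹ * c := by group
        _ = v * c := by rw [h2]
    exact (h1.zpow_right n).eq.symm
  have key : ∀ c ∈ C₁, MulAut.conj c • NoFF.Basic.V (zpowers v) C₂ ≤ NoFF.Basic.V (zpowers v) C₂ := by
    intro c hc
    have h0 : NoFF.Basic.V (zpowers v) C₂ ≤ MulAut.conj c⁻¹ • NoFF.Basic.V (zpowers v) C₂ := by
      refine V_le fun x hx => ?_
      obtain ⟨x', hx', c', hc', e⟩ := hA x (hC2 hx) c hc
      have h1 : MulAut.conj c • (MulAut.conj x • zpowers v) ≤ NoFF.Basic.V (zpowers v) C₂ := by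
        rw [conj_conj, e, ← conj_conj, hz c' hc']
        exact Z_le_V hx'
      have h2 := conj_le_iff (g := c⁻¹) |>.2 h1
      rwa [conj_conj, inv_mul_cancel, map_one, one_smul] at h2
    have h2 := conj_le_iff (g := c) |>.2 h0
    rwa [conj_conj, mul_inv_cancel, map_one, one_smul] at h2
  intro c hc
  rw [mem_normalizer_iff]
  intro x
  constructor
  · intro hx
    apply key c hc
    rw [mem_conj]
    have e : c⁻¹ * (c * x * c⁻¹) * c = x := by group
    rwa [e]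
  · intro hx
    have h1 := key c⁻¹ (inv_mem hc)
    apply h1
    rw [mem_conj, inv_inv]
    exact hx

end StepF

/-- `C_{C_G(v i)}(N i)` -/
abbrev FF (U : Fin 2 → Subgroup G) (v : Fin 2 → G) (i : Fin 2) : Subgroup G :=
  CC v i ⊓ centralizer (NU U v i : Set G)

namespace Sit

variable [Finite G] {S : Sylow 2 G} {P T : Subgroup G} {U : Fin 2 → Subgroup G} {v : Fin 2 → G}
  (D : Sit S P T U v)

include D

theorem mem_N (i : Fin 2) : v (i + 1) ∈ NU U v i := le_V _ _ (D.mem _)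

theorem U_le_N (i : Fin 2) : U (i + 1) ≤ NU U v i := le_V _ _

theorem FF_le (i : Fin 2) : FF U v i ≤ CC v (i + 1) :=
  inf_le_right.trans (centralizer_le (Set.singleton_subset_iff.2 (D.mem_N i)))

theorem CC_inf : CC v 0 ⊓ CC v 1 ≤ centralizer (zc T : Set G) := by
  rintro c ⟨h0', h1'⟩
  have h0 : c * v 0 = v 0 * c := mem_centralizer_singleton_iff.1 h0'
  have h1 : c * v 1 = v 1 * c := mem_centralizer_singleton_iff.1 h1'
  rw [mem_centralizer_iff]
  intro x hx
  rcases (D.zT x).1 hx with h | h | h | h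
  · rw [h]; simp
  · rw [h]; exact h0.symm
  · rw [h]; exact h1.symm
  · rw [h]
    calc v 0 * v 1 * c = v 0 * (c * v 1) := by rw [mul_assoc, h1]
      _ = (v 0 * c) * v 1 := by group
      _ = c * (v 0 * v 1) := by rw [← h0]; group

theorem FF_le_D (i : Fin 2) : FF U v i ≤ centralizer (zc T : Set G) := by
  refine le_trans (le_inf ?_ ?_) D.CC_inf
  · rcases Fin.exists_fin_two.1 ⟨i, rfl⟩ with h | h
    · rw [h]; exact inf_le_left
    · have h1 := D.FF_le i
      rw [h] at h1 ⊢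
      exact h1
  · rcases Fin.exists_fin_two.1 ⟨i, rfl⟩ with h | h
    · have h1 := D.FF_le i
      rw [h] at h1 ⊢
      exact h1
    · rw [h]; exact inf_le_left

theorem C_le_N_FF (i : Fin 2) : CC v i ≤ normalizer (FF U v i : Set G) := by
  intro c hc
  refine ChoiceBase.mem_normalizer_iff_cj.2 ?_
  change MulAut.conj c • (CC v i ⊓ centralizer (NU U v i : Set G)) = _
  rw [Subgroup.smul_inf, NoFF.Basic.conj_self hc]
  congr 1
  apply conj_eq_of_mem
  have h1 := D.C_le_N_N i hc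
  rw [mem_normalizer_iff]
  have key : ∀ g, g ∈ normalizer (NU U v i : Set G) → ∀ x ∈ centralizer (NU U v i : Set G),
      g * x * g⁻¹ ∈ centralizer (NU U v i : Set G) := by
    intro g hg x hx
    rw [mem_centralizer_iff] at hx ⊢
    intro y hy
    have h2 : g⁻¹ * y * g ∈ NU U v i := by
      have := (mem_normalizer_iff.1 (inv_mem hg) y).1 hy
      rwa [inv_inv] at this
    have h3 := hx _ h2
    calc y * (g * x * g⁻¹) = g * (g⁻¹ * y * g * x) * g⁻¹ := by group
      _ = g * (x * (g⁻¹ * y * g)) * g⁻¹ := by rw [h3]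
      _ = g * x * g⁻¹ * y := by group
  intro x
  refine ⟨key c h1 x, fun hx => ?_⟩
  have h2 := key c⁻¹ (inv_mem h1) _ hx
  have e : c⁻¹ * (c * x * c⁻¹) * c⁻¹⁻¹ = x := by group
  rwa [e] at h2

/-- every 2-subgroup of `C_G(v i)` has order at most `|T|` -/
theorem card_le_T {i : Fin 2} {R : Subgroup G} (hR : IsPGroup 2 R) (hRC : R ≤ CC v i) :
    Nat.card R ≤ Nat.card T := by
  obtain ⟨R', hR', hle⟩ := Cfsg.Agent.ZN.ChoiceSit.exists_syl hR hRC
  obtain ⟨x, -, hx⟩ := Cfsg.Agent.ZN.ChoiceSit.syl_conj hR' (D.syl i)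
  have h1 : Nat.card T = Nat.card R' := by
    rw [← hx]
    exact Nat.card_congr (Subgroup.equivSMul (MulAut.conj x) R').toEquiv.symm
  rw [h1]
  exact Subgroup.card_le_of_le hle

/-- **(f4)** -/
theorem z_not_conj (i : Fin 2) (g : G) : g * v i * g⁻¹ ≠ v 0 * v 1 := by
  intro h
  have h1 : MulAut.conj g⁻¹ • (S : Subgroup G) ≤ CC v i := by
    intro x hx
    rw [mem_conj, inv_inv] at hx
    have h2 : v 0 * v 1 ∈ zc (S : Subgroup G) := (D.zS _).2 (Or.inr rfl)
    have h3 : g * x * g⁻¹ * (v 0 * v 1) = v 0 * v 1 * (g * x * g⁻¹) := (mem_zc.1 h2).2.1 _ hx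
    rw [mem_centralizer_singleton_iff]
    rw [← h] at h3
    calc x * v i = g⁻¹ * (g * x * g⁻¹ * (g * v i * g⁻¹)) * g := by group
      _ = g⁻¹ * (g * v i * g⁻¹ * (g * x * g⁻¹)) * g := by rw [h3]
      _ = v i * x := by group
  have h2 : IsPGroup 2 (MulAut.conj g⁻¹ • (S : Subgroup G) : Subgroup G) :=
    IsPGroup.of_equiv S.isPGroup' (Subgroup.equivSMul (MulAut.conj g⁻¹) (S : Subgroup G))
  have h3 := D.card_le_T h2 h1
  have h4 : Nat.card (MulAut.conj g⁻¹ • (S : Subgroup G) : Subgroup G) = Nat.card (S : Subgroup G) :=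
    Nat.card_congr (Subgroup.equivSMul (MulAut.conj g⁻¹) (S : Subgroup G)).toEquiv.symm
  rw [h4, D.card_T] at h3
  have h5 : 0 < Nat.card T := Nat.card_pos
  omega

/-- `C_P(U j)` normalises `U i` -/
theorem cen_le_norm {i j : Fin 2} (hij : i ≠ j) : P ⊓ centralizer (U j : Set G) ≤ normalizer (U i : Set G) := by
  rintro m ⟨hmP, hmC⟩
  obtain ⟨σ, hσ⟩ := D.perm m hmP
  have h2 : MulAut.conj m • U j = U j := conj_eq_of_mem (centralizer_le_normalizer _ hmC)
  have h3 : U (σ j) = U j := (hσ j).symm.trans h2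
  have hinj : ∀ a b, U a = U b → a = b := by
    intro a b h
    by_contra hab
    have h4 := D.inf a b hab
    rw [← h, inf_idem] at h4
    have h5 := D.mem a
    rw [h4, mem_bot] at h5
    exact D.ne a h5
  have h4 : σ j = j := hinj _ _ h3
  have h5 : σ i = i := by
    have h6 : σ i ≠ j := fun h => hij (σ.injective (h.trans h4.symm))
    have h7 : ∀ a b c : Fin 2, a ≠ c → b ≠ c → b = a := by decide
    exact h7 _ _ _ hij h6
  refine ChoiceBase.mem_normalizer_iff_cj.2 ?_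
  change MulAut.conj m • U i = U i
  rw [hσ i, h5]

/-- **STEP F.** -/
theorem step_f (hII : NonLoc (CC v 0) (CC v 1)) (i : Fin 2)
    (hmax : CC v (i + 1) ≤ centralizer (zc T : Set G) ⊔ (P ⊓ centralizer (U (i + 1) : Set G))) :
    ¬ CC v i ≤ FF U v i ⊔ (CC v i ⊓ normalizer (U i : Set G)) := by
  intro hC
  have h1 : CC v i ≤ normalizer (NoFF.Basic.V (zpowers (v i)) (CC v (i + 1)) : Set G) := by
    refine StepF.le_normalizer (D := centralizer (zc T : Set G)) (M := P ⊓ centralizer (U (i + 1) : Set G))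
      (F := FF U v i) (L := U i) (fun g => ?_) (D.mem i) (D.ne i) (D.C_le_N_FF i) (D.FF_le i) (D.cent_zc_le i)
      ?_ ?_ hmax hC ?_
    · rw [mem_centralizer_singleton_iff]
      constructor
      · intro h
        rw [h]; group
      · intro h
        calc g * v i = g * v i * g⁻¹ * g := by group
          _ = v i * g := by rw [h]
    · exact inf_le_right.trans (centralizer_le (Set.singleton_subset_iff.2 (D.mem _)))
    · exact D.cen_le_norm (ne_add_one i)
    · intro w hw hw1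
      obtain ⟨l, hl, hlU, -, hlw⟩ := D.tr i (i + 1) (ne_add_one i) w hw hw1
      exact ⟨l, ⟨hl, hlU⟩, hlw⟩
  have h2 : CC v (i + 1) ≤ normalizer (NoFF.Basic.V (zpowers (v i)) (CC v (i + 1)) : Set G) :=
    le_normalizer_V _ _
  have h3 : NoFF.Basic.V (zpowers (v i)) (CC v (i + 1)) ≤ (S : Subgroup G) := by
    refine le_trans (V_le fun c hc => ?_) ((D.Q_le_T (i + 1)).trans D.T_le)
    change _ ≤ QQ v (i + 1)
    rw [← D.conj_QQ hc]
    refine conj_le_iff.2 ?_
    rw [zpowers_le]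
    exact D.zc_le_Q (i + 1) (D.v_mem_zc i)
  have h4 : NoFF.Basic.V (zpowers (v i)) (CC v (i + 1)) = ⊥ := by
    refine hII _ (S.isPGroup'.to_le h3) ?_ ?_
    · rcases Fin.exists_fin_two.1 ⟨i, rfl⟩ with h | h
      · rw [h] at h1 ⊢; exact h1
      · rw [h] at h2 ⊢; exact h2
    · rcases Fin.exists_fin_two.1 ⟨i, rfl⟩ with h | h
      · rw [h] at h2 ⊢; exact h2
      · rw [h] at h1 ⊢; exact h1
  have h5 : v i ∈ NoFF.Basic.V (zpowers (v i)) (CC v (i + 1)) := le_V _ _ (mem_zpowers _)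
  rw [h4, mem_bot] at h5
  exact D.ne i h5

end Sit

end Cfsg.Agent.Omega.OM.KTwo
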