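import Cfsg.Agent.Omega.OM.KTwo.Adj

/-!
# NO-3S, `k = 2`, `q = 2`, case (II), distance 1: the module facts (helper609 #16177 (4))

* `OOrth C N r q B` : `C` acts on the elementary abelian group `N` as the full isometry group of the quadratic form
  `q` (polar form `B`, radical `⟨r⟩`, `q r = 1`), i.e. as `O_{2n+1}(2)`;
* `OOrth.tra` : the stabiliser of the singular vector `u₀` is transitive on the singular vectors of `u₀^⊥ - ⟨u₀⟩`;
* `Sit.dOne` : `OOrth` for `C_G(v i)` on `N i` (radical `v i`) and an element of `N (i+1)` acting on `N i` as the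
  transvection with centre `v 0 v 1` give `DOne`; `Sit.false_of_oorth`.
-/

set_option autoImplicit false
set_option linter.unusedSectionVars false

namespace Cfsg.Agent.Omega.OM.KTwo

open Subgroup Cfsg Cfsg.Agent.ZN Cfsg.Agent.Omega.MinPar
open Cfsg.Agent.Omega.NO3S Cfsg.Agent.Omega.FrameNOFF
open Cfsg.Agent.Omega.NoFF.Basic (conj_conj mem_conj conj_le_iff conj_le_centralizer comm_symm comm_mono
  Z_le_V V_le conj_V_mul)
open Cfsg.Agent.Omega.NOThreeL.Pair (conj_eq_of_mem)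
open Cfsg.Agent.MinSimple.VModule (mem_zc)
open scoped Pointwise

universe u

variable {G : Type u} [Group G]

/-- `g` acts on `N` as the transvection with centre `u r` (`u` singular). -/
def Tv (N : Subgroup G) (r : G) (B : G → G → ZMod 2) (u g : G) : Prop :=
  ∀ x ∈ N, (B x u = 0 → g * x * g⁻¹ = x) ∧ (B x u = 1 → g * x * g⁻¹ = x * (u * r))

/-- **`C` acts on `N` as `O_{2n+1}(2)`.** -/
structure OOrth (C N : Subgroup G) (r : G) (q : G → ZMod 2) (B : G → G → ZMod 2) : Prop where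
  nor : ∀ c ∈ C, ∀ x ∈ N, c * x * c⁻¹ ∈ N
  comm : ∀ x ∈ N, ∀ y ∈ N, x * y = y * x
  sq : ∀ x ∈ N, x * x = 1
  q_mul : ∀ x ∈ N, ∀ y ∈ N, q (x * y) = q x + q y + B x y
  B_mul : ∀ x ∈ N, ∀ y ∈ N, ∀ w ∈ N, B (x * y) w = B x w + B y w
  symm : ∀ x ∈ N, ∀ y ∈ N, B x y = B y x
  q_conj : ∀ c ∈ C, ∀ x ∈ N, q (c * x * c⁻¹) = q x
  r_mem : r ∈ N
  q_r : q r = 1
  B_r : ∀ x ∈ N, B x r = 0
  rad : ∀ x ∈ N, (∀ y ∈ N, B x y = 0) → x = 1 ∨ x = r
  tv : ∀ u ∈ N, q u = 0 → ∃ g ∈ C, Tv N r B u g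
  gen : C ≤ (C ⊓ centralizer (N : Set G)) ⊔ closure {g | g ∈ C ∧ ∃ u ∈ N, q u = 0 ∧ Tv N r B u g}

theorem zmod_two (a : ZMod 2) : a = 0 ∨ a = 1 := by
  revert a
  decide

namespace OOrth

variable {C N : Subgroup G} {r : G} {q : G → ZMod 2} {B : G → G → ZMod 2} (O : OOrth C N r q B)

include O

theorem B_mul' {x y w : G} (hx : x ∈ N) (hy : y ∈ N) (hw : w ∈ N) : B w (x * y) = B w x + B w y := by
  rw [O.symm w hw _ (mul_mem hx hy), O.B_mul x hx y hy w hw, O.symm x hx w hw, O.symm y hy w hw]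

theorem B_one {x : G} (hx : x ∈ N) : B 1 x = 0 := by
  have h := O.B_mul 1 (one_mem N) 1 (one_mem N) x hx
  rw [mul_one] at h
  rcases zmod_two (B 1 x) with h1 | h1
  · exact h1
  · rw [h1] at h
    exact absurd h (by decide)

theorem q_one : q 1 = 0 := by
  have h := O.q_mul 1 (one_mem N) 1 (one_mem N)
  rw [mul_one, O.B_one (one_mem N), add_zero] at h
  rcases zmod_two (q 1) with h1 | h1
  · exact h1
  · rw [h1] at h
    exact absurd h (by decide)

theorem B_self {x : G} (hx : x ∈ N) : B x x = 0 := by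
  have h := O.q_mul x hx x hx
  rw [O.sq x hx, O.q_one] at h
  rcases zmod_two (B x x) with h1 | h1
  · exact h1
  · rcases zmod_two (q x) with h2 | h2
    · rw [h1, h2] at h; exact absurd h (by decide)
    · rw [h1, h2] at h; exact absurd h (by decide)

theorem B_r' {x : G} (hx : x ∈ N) : B r x = 0 := by rw [O.symm r O.r_mem x hx, O.B_r x hx]

theorem r_ne : r ≠ 1 := fun h => by
  have h1 := O.q_r
  rw [h, O.q_one] at h1
  exact absurd h1 (by decide)

theorem q_mul_r {x : G} (hx : x ∈ N) : q (x * r) = q x + 1 := by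
  rw [O.q_mul x hx r O.r_mem, O.q_r, O.B_r x hx, add_zero]

theorem B_mul_r {x y : G} (hx : x ∈ N) (hy : y ∈ N) : B (x * r) y = B x y := by
  rw [O.B_mul x hx r O.r_mem y hy, O.B_r' hy, add_zero]

theorem B_conj {c x y : G} (hc : c ∈ C) (hx : x ∈ N) (hy : y ∈ N) : B (c * x * c⁻¹) (c * y * c⁻¹) = B x y := by
  have h1 := O.q_mul _ (O.nor c hc x hx) _ (O.nor c hc y hy)
  have h2 := O.q_mul x hx y hy
  have e : c * x * c⁻¹ * (c * y * c⁻¹) = c * (x * y) * c⁻¹ := by group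
  rw [e, O.q_conj c hc _ (mul_mem hx hy), O.q_conj c hc x hx, O.q_conj c hc y hy, h2] at h1
  exact (add_left_cancel h1).symm

/-- one of `x`, `x r` is singular -/
theorem exists_sing {x : G} (hx : x ∈ N) : ∃ x' ∈ N, q x' = 0 ∧ (x' = x ∨ x' = x * r) ∧ ∀ y ∈ N, B x' y = B x y := by
  rcases zmod_two (q x) with h | h
  · exact ⟨x, hx, h, Or.inl rfl, fun _ _ => rfl⟩
  · refine ⟨x * r, mul_mem hx O.r_mem, ?_, Or.inr rfl, fun y hy => O.B_mul_r hx hy⟩
    rw [O.q_mul_r hx, h]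
    decide

/-- a singular vector `≠ 1` is not orthogonal to everything -/
theorem exists_B {u : G} (hu : u ∈ N) (hq : q u = 0) (hu1 : u ≠ 1) : ∃ y ∈ N, B y u = 1 := by
  by_contra hcon
  push Not at hcon
  rcases O.rad u hu fun y hy => by
    rcases zmod_two (B u y) with h | h
    · exact h
    · exact absurd ((O.symm y hy u hu).trans h) (hcon y hy) with h | h
  · exact hu1 h
  · rw [h, O.q_r] at hq
    exact absurd hq (by decide)

/-- `B(·, y)` vanishing on `u^⊥` is `0` or `B(·, u)` -/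
theorem eq_of_perp {u y : G} (hu : u ∈ N) (hy : y ∈ N) (h : ∀ x ∈ N, B x u = 0 → B x y = 0) :
    y = 1 ∨ y = r ∨ y = u ∨ y = u * r := by
  by_cases h1 : ∀ x ∈ N, B x y = 0
  · rcases O.rad y hy fun x hx => (O.symm y hy x hx).trans (h1 x hx) with h2 | h2
    · exact Or.inl h2
    · exact Or.inr (Or.inl h2)
  push Not at h1
  obtain ⟨a, ha, ha1⟩ := h1
  have ha2 : B a y = 1 := (zmod_two _).resolve_left ha1
  have ha3 : B a u = 1 := (zmod_two _).resolve_left fun h3 => ha1 (h a ha h3)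
  have h2 : ∀ x ∈ N, B (u * y) x = 0 := by
    intro x hx
    rw [O.B_mul u hu y hy x hx, O.symm u hu x hx, O.symm y hy x hx]
    rcases zmod_two (B x u) with h3 | h3
    · rw [h3, h x hx h3, add_zero]
    · have h4 : B (x * a) u = 0 := by
        rw [O.B_mul x hx a ha u hu, h3, ha3]
        decide
      have h5 := h _ (mul_mem hx ha) h4
      rw [O.B_mul x hx a ha y hy, ha2] at h5
      rw [h3]
      rcases zmod_two (B x y) with h6 | h6
      · rw [h6] at h5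
        exact absurd h5 (by decide)
      · rw [h6]
        decide
  have e : y = u * (u * y) := by rw [← mul_assoc, O.sq u hu, one_mul]
  rcases O.rad _ (mul_mem hu hy) h2 with h3 | h3
  · right; right; left
    rw [e, h3, mul_one]
  · right; right; right
    rw [e, h3]

/-- a functional not vanishing on `u₀^⊥` -/
theorem exists_perp {u₀ u : G} (h0 : u₀ ∈ N) (hq0 : q u₀ = 0) (hu : u ∈ N) (hq : q u = 0) (hu1 : u ≠ 1)
    (hu0 : u ≠ u₀) : ∃ x ∈ N, B x u₀ = 0 ∧ B x u = 1 := by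
  by_contra hcon
  push Not at hcon
  rcases O.eq_of_perp h0 hu fun x hx hx0 => (zmod_two _).resolve_right (hcon x hx hx0) with h | h | h | h
  · exact hu1 h
  · rw [h, O.q_r] at hq
    exact absurd hq (by decide)
  · exact hu0 h
  · rw [h, O.q_mul_r h0, hq0] at hq
    exact absurd hq (by decide)

/-- two noncollinear singular vectors of `u₀^⊥` are conjugate under `C(u₀)` -/
theorem conj_of_one {u₀ u u' : G} (h0 : u₀ ∈ N) (hu : u ∈ N) (hq : q u = 0) (hu' : u' ∈ N) (hq' : q u' = 0)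
    (hB0 : B u₀ u = 0) (hB0' : B u₀ u' = 0) (hB : B u u' = 1) :
    ∃ g ∈ C, g * u₀ * g⁻¹ = u₀ ∧ g * u * g⁻¹ = u' := by
  have hw : u * u' * r ∈ N := mul_mem (mul_mem hu hu') O.r_mem
  have hqw : q (u * u' * r) = 0 := by
    rw [O.q_mul_r (mul_mem hu hu'), O.q_mul u hu u' hu', hq, hq', hB]
    decide
  obtain ⟨g, hg, ht⟩ := O.tv _ hw hqw
  have hBw : ∀ x ∈ N, B x (u * u' * r) = B x u + B x u' := by
    intro x hx
    rw [O.B_mul' (mul_mem hu hu') O.r_mem hx, O.B_r x hx, add_zero, O.B_mul' hu hu' hx]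
  refine ⟨g, hg, (ht u₀ h0).1 ?_, ?_⟩
  · rw [hBw u₀ h0, hB0, hB0', add_zero]
  · rw [(ht u hu).2 (by rw [hBw u hu, O.B_self hu, hB, zero_add])]
    have e1 : u * u' * r * r = u * u' := by rw [mul_assoc, O.sq r O.r_mem, mul_one]
    rw [e1, ← mul_assoc, O.sq u hu, one_mul]

/-- **the stabiliser of `u₀` is transitive on the singular vectors of `u₀^⊥ - ⟨u₀⟩`** -/
theorem tra {u₀ u u' : G} (h0 : u₀ ∈ N) (hq0 : q u₀ = 0) (hu : u ∈ N) (hq : q u = 0) (hu' : u' ∈ N) (hq' : q u' = 0)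
    (hB0 : B u₀ u = 0) (hB0' : B u₀ u' = 0) (hu1 : u ≠ 1) (hu1' : u' ≠ 1) (hu0 : u ≠ u₀) (hu0' : u' ≠ u₀) :
    ∃ g ∈ C, g * u₀ * g⁻¹ = u₀ ∧ g * u * g⁻¹ = u' := by
  obtain ⟨a, ha, ha0, ha1⟩ := O.exists_perp h0 hq0 hu hq hu1 hu0
  obtain ⟨b, hb, hb0, hb1⟩ := O.exists_perp h0 hq0 hu' hq' hu1' hu0'
  obtain ⟨x, hx, hx0, hx1, hx1'⟩ : ∃ x ∈ N, B x u₀ = 0 ∧ B x u = 1 ∧ B x u' = 1 := by
    rcases zmod_two (B a u') with h | h
    · rcases zmod_two (B b u) with h' | h'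
      · refine ⟨a * b, mul_mem ha hb, ?_, ?_, ?_⟩
        · rw [O.B_mul a ha b hb _ h0, ha0, hb0, add_zero]
        · rw [O.B_mul a ha b hb _ hu, ha1, h', add_zero]
        · rw [O.B_mul a ha b hb _ hu', h, hb1, zero_add]
      · exact ⟨b, hb, hb0, h', hb1⟩
    · exact ⟨a, ha, ha0, ha1, h⟩
  obtain ⟨x', hx', hqx, -, hBx⟩ := O.exists_sing hx
  obtain ⟨g, hg, hg0, hgx⟩ := O.conj_of_one h0 hu hq hx' hqx hB0
    (by rw [O.symm _ h0 _ hx', hBx _ h0, hx0]) (by rw [O.symm _ hu _ hx', hBx _ hu, hx1])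
  obtain ⟨g', hg', hg0', hgx'⟩ := O.conj_of_one h0 hx' hqx hu' hq'
    (by rw [O.symm _ h0 _ hx', hBx _ h0, hx0]) hB0' (by rw [hBx _ hu', hx1'])
  refine ⟨g' * g, mul_mem hg' hg, ?_, ?_⟩
  · calc g' * g * u₀ * (g' * g)⁻¹ = g' * (g * u₀ * g⁻¹) * g'⁻¹ := by group
      _ = u₀ := by rw [hg0, hg0']
  · calc g' * g * u * (g' * g)⁻¹ = g' * (g * u * g⁻¹) * g'⁻¹ := by group
      _ = u' := by rw [hgx, hgx']

/-- an isometry trivial on `u₀^⊥` is `1` or the transvection with centre `u₀ r` -/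
theorem eq_of_fix {u₀ g x : G} (h0 : u₀ ∈ N) (hq0 : q u₀ = 0) (hg : g ∈ C)
    (hfix : ∀ w ∈ N, B w u₀ = 0 → g * w * g⁻¹ = w) (hx : x ∈ N) :
    g * x * g⁻¹ * x⁻¹ = 1 ∨ g * x * g⁻¹ * x⁻¹ = u₀ * r := by
  rcases zmod_two (B x u₀) with hB | hB
  · left
    rw [hfix x hx hB, mul_inv_cancel]
  have hgx : g * x * g⁻¹ ∈ N := O.nor g hg x hx
  have hy : g * x * g⁻¹ * x⁻¹ ∈ N := mul_mem hgx (inv_mem hx)
  have hinv : x⁻¹ = x := inv_eq_of_mul_eq_one_left (O.sq x hx)
  have hxy : g * x * g⁻¹ = x * (g * x * g⁻¹ * x⁻¹) := by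
    rw [O.comm x hx _ hy]; group
  have hperp : ∀ w ∈ N, B w u₀ = 0 → B w (g * x * g⁻¹ * x⁻¹) = 0 := by
    intro w hw hw0
    have h1 := O.B_conj hg hw hx
    rw [hfix w hw hw0, hxy, O.B_mul' hx hy hw] at h1
    have h2 : B w x + B w (g * x * g⁻¹ * x⁻¹) = B w x + 0 := by rw [h1, add_zero]
    exact add_left_cancel h2
  have hqq : q (g * x * g⁻¹ * x⁻¹) + B x (g * x * g⁻¹ * x⁻¹) = 0 := by
    have h1 := O.q_conj g hg x hx
    rw [hxy, O.q_mul x hx _ hy] at h1
    have h2 : q x + (q (g * x * g⁻¹ * x⁻¹) + B x (g * x * g⁻¹ * x⁻¹)) = q x + 0 := by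
      rw [← add_assoc, h1, add_zero]
    exact add_left_cancel h2
  rcases O.eq_of_perp h0 hy hperp with h | h | h | h
  · exact Or.inl h
  · exfalso
    rw [h, O.q_r, O.B_r x hx] at hqq
    exact absurd hqq (by decide)
  · exfalso
    rw [h, hq0, hB] at hqq
    exact absurd hqq (by decide)
  · exact Or.inr h

/-- an element of `C` acting nontrivially and trivially on `u₀^⊥` acts as the transvection -/
theorem tv_of_fix {u₀ g : G} (h0 : u₀ ∈ N) (hq0 : q u₀ = 0) (hg : g ∈ C)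
    (hfix : ∀ w ∈ N, B w u₀ = 0 → g * w * g⁻¹ = w) (hne : ∃ x ∈ N, g * x * g⁻¹ ≠ x) : Tv N r B u₀ g := by
  obtain ⟨a, ha, hga⟩ := hne
  have haB : B a u₀ = 1 := (zmod_two _).resolve_left fun h => hga (hfix a ha h)
  have hr : ∀ x ∈ N, g * x * g⁻¹ * x⁻¹ = u₀ * r → g * x * g⁻¹ = x * (u₀ * r) := by
    intro x hx h
    rw [O.comm x hx _ (mul_mem h0 O.r_mem), ← h]
    group
  have ha1 : g * a * g⁻¹ * a⁻¹ = u₀ * r := (O.eq_of_fix h0 hq0 hg hfix ha).resolve_left fun h => hga (by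
    calc g * a * g⁻¹ = g * a * g⁻¹ * a⁻¹ * a := by group
      _ = a := by rw [h, one_mul])
  refine fun x hx => ⟨hfix x hx, fun hB => hr x hx ?_⟩
  refine (O.eq_of_fix h0 hq0 hg hfix hx).resolve_left fun h => hga ?_
  -- `x a ∈ u₀^⊥`
  have h1 : g * x * g⁻¹ = x := by
    calc g * x * g⁻¹ = g * x * g⁻¹ * x⁻¹ * x := by group
      _ = x := by rw [h, one_mul]
  have h2 : g * (x * a) * g⁻¹ = x * a := hfix _ (mul_mem hx ha) (by
    rw [O.B_mul x hx a ha _ h0, hB, haB]; decide)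
  calc g * a * g⁻¹ = (g * x * g⁻¹)⁻¹ * (g * (x * a) * g⁻¹) := by group
    _ = a := by rw [h1, h2]; group

end OOrth

/-- The module hypotheses of (4). -/
structure OHyp (T : Subgroup G) (U : Fin 2 → Subgroup G) (v : Fin 2 → G) (q : Fin 2 → G → ZMod 2)
    (B : Fin 2 → G → G → ZMod 2) : Prop where
  orth : ∀ i, OOrth (CC v i) (NU U v i) (v i) (q i) (B i)
  sing : ∀ i, q i (v (i + 1)) = 0
  /-- some element of `N (i+1)` acts nontrivially on `N i` and trivially on `v (i+1)^⊥` -/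
  tv : ∀ i, ∃ y ∈ NU U v (i + 1), y ∈ CC v i ∧ Tv (NU U v i) (v i) (B i) (v (i + 1)) y

namespace Sit

variable [Finite G] {S : Sylow 2 G} {P T : Subgroup G} {U : Fin 2 → Subgroup G} {v : Fin 2 → G}
  (D : Sit S P T U v) {q : Fin 2 → G → ZMod 2} {B : Fin 2 → G → G → ZMod 2} (H : OHyp T U v q B)

include D

theorem mem_D_of {i : Fin 2} {g : G} (hg : g ∈ CC v i) (h : g * v (i + 1) * g⁻¹ = v (i + 1)) :
    g ∈ centralizer (zc T : Set G) := by
  have h1 : g ∈ CC v (i + 1) := by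
    rw [mem_centralizer_singleton_iff]
    calc g * v (i + 1) = g * v (i + 1) * g⁻¹ * g := by group
      _ = v (i + 1) * g := by rw [h]
  apply D.CC_inf
  rcases Fin.exists_fin_two.1 ⟨i, rfl⟩ with hi | hi
  · rw [hi] at hg h1; exact ⟨hg, h1⟩
  · rw [hi] at hg h1; exact ⟨h1, hg⟩

theorem D_fix (i : Fin 2) {g : G} (hg : g ∈ centralizer (zc T : Set G)) : g * v i * g⁻¹ = v i := by
  have h := mem_centralizer_singleton_iff.1 (D.cent_zc_le i hg)
  rw [h]; group

include H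

/-- the elements `≠ 1` of `U (i+1)` are singular in `N i` -/
theorem sing_U {i : Fin 2} {w : G} (hw : w ∈ U (i + 1)) : q i w = 0 := by
  have O := H.orth i
  by_cases hw1 : w = 1
  · rw [hw1]; exact O.q_one
  obtain ⟨l, -, hl, -, hlw⟩ := D.tr (i + 1) i (ne_add_one i).symm w hw hw1
  have hlC : l ∈ CC v i := (centralizer_le (Set.singleton_subset_iff.2 (D.mem i))) hl
  rw [← hlw, O.q_conj l hlC _ (D.mem_N i)]
  exact H.sing i

theorem B_U {i : Fin 2} {w w' : G} (hw : w ∈ U (i + 1)) (hw' : w' ∈ U (i + 1)) : B i w w' = 0 := by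
  have O := H.orth i
  have h := O.q_mul w (D.U_le_N i hw) w' (D.U_le_N i hw')
  rw [D.sing_U H hw, D.sing_U H hw', D.sing_U H (mul_mem hw hw'), add_zero, zero_add] at h
  exact h.symm

/-- `U (i+1)` contains a second singular vector -/
theorem exists_second (i : Fin 2) : ∃ w ∈ U (i + 1), w ≠ 1 ∧ w ≠ v (i + 1) := by
  by_contra hcon
  push Not at hcon
  have h1 : (U (i + 1) : Set G) ⊆ {1, v (i + 1)} := by
    intro x hx
    by_cases hx1 : x = 1
    · exact Or.inl hx1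
    · exact Or.inr (hcon x hx hx1)
  have h2 := Nat.card_mono (Set.toFinite {1, v (i + 1)}) h1
  have h3 : Nat.card (({1, v (i + 1)} : Set G)) ≤ 2 := by
    rw [Nat.card_coe_set_eq]
    exact Set.ncard_insert_le _ _ |>.trans (by rw [Set.ncard_singleton])
  have h4 := D.four (i + 1)
  have h5 : Nat.card ((U (i + 1) : Set G)) = 4 := h4
  omega

/-- all singular vectors orthogonal to `v (i+1)` lie in `LU i` -/
theorem sing_mem {i : Fin 2} {u : G} (hu : u ∈ NU U v i) (hq : q i u = 0) (hB : B i u (v (i + 1)) = 0) :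
    u ∈ LU T U i := by
  have O := H.orth i
  have hle : U (i + 1) ≤ LU T U i := le_V _ _
  by_cases hu1 : u = 1
  · rw [hu1]; exact one_mem _
  by_cases hu0 : u = v (i + 1)
  · rw [hu0]; exact hle (D.mem _)
  obtain ⟨w, hw, hw1, hw0⟩ := D.exists_second H i
  obtain ⟨g, hg, hg0, hgw⟩ := O.tra (D.mem_N i) (H.sing i) (D.U_le_N i hw) (D.sing_U H hw) hu hq
    (by rw [O.symm _ (D.mem_N i) _ (D.U_le_N i hw)]; exact D.B_U H hw (D.mem _))
    (by rw [O.symm _ (D.mem_N i) _ hu]; exact hB) hw1 hu1 hw0 hu0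
  have hgD := D.mem_D_of hg hg0
  apply Z_le_V hgD
  rw [mem_conj, ← hgw]
  have e : g⁻¹ * (g * w * g⁻¹) * g = w := by group
  rwa [e]

theorem rad_mem (i : Fin 2) : v i ∈ LU T U i := by
  have O := H.orth i
  obtain ⟨w, hw, hw1, hw0⟩ := D.exists_second H i
  have hwN := D.U_le_N i hw
  obtain ⟨x, hx, hx0, hx1⟩ := O.exists_perp (D.mem_N i) (H.sing i) hwN (D.sing_U H hw) hw1 hw0
  obtain ⟨x', hx', hqx, -, hBx⟩ := O.exists_sing hx
  have h1 : x' ∈ LU T U i := D.sing_mem H hx' hqx (by rw [hBx _ (D.mem_N i), hx0])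
  have h2 : w ∈ LU T U i := le_V _ _ hw
  have hxw : x' * w ∈ NU U v i := mul_mem hx' hwN
  have hr : v i ∈ NU U v i := O.r_mem
  have h3 : x' * w * v i ∈ LU T U i := by
    apply D.sing_mem H (mul_mem hxw hr)
    · rw [O.q_mul_r hxw, O.q_mul _ hx' _ hwN, hqx, D.sing_U H hw, hBx _ hwN, hx1]
      decide
    · rw [O.B_mul_r hxw (D.mem_N i), O.B_mul _ hx' _ hwN _ (D.mem_N i), hBx _ (D.mem_N i), hx0,
        D.B_U H hw (D.mem _), add_zero]
  have h4 := mul_mem (inv_mem (mul_mem h1 h2)) h3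
  have e : (x' * w)⁻¹ * (x' * w * v i) = v i := by group
  rwa [e] at h4

/-- `v (i+1)^⊥ ≤ LU i` -/
theorem perp_mem {i : Fin 2} {x : G} (hx : x ∈ NU U v i) (hB : B i x (v (i + 1)) = 0) : x ∈ LU T U i := by
  have O := H.orth i
  obtain ⟨x', hx', hqx, hor, hBx⟩ := O.exists_sing hx
  have h1 : x' ∈ LU T U i := D.sing_mem H hx' hqx (by rw [hBx _ (D.mem_N i), hB])
  rcases hor with h | h
  · rwa [← h]
  · have h2 := mul_mem h1 (inv_mem (D.rad_mem H i))
    rw [h, mul_inv_cancel_right] at h2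
    exact h2

theorem max_C (i : Fin 2) : CC v i ≤ centralizer (zc T : Set G) ⊔ (P ⊓ centralizer (U i : Set G)) := by
  have O := H.orth i
  have hMC : P ⊓ centralizer (U i : Set G) ≤ CC v i :=
    inf_le_right.trans (centralizer_le (Set.singleton_subset_iff.2 (D.mem i)))
  have hKC : centralizer (zc T : Set G) ⊔ (P ⊓ centralizer (U i : Set G)) ≤ CC v i := sup_le (D.cent_zc_le i) hMC
  -- (a) `U (i+1)`
  have ha : ∀ w ∈ U (i + 1), w ≠ 1 →
      ∃ k ∈ centralizer (zc T : Set G) ⊔ (P ⊓ centralizer (U i : Set G)), k * v (i + 1) * k⁻¹ = w := by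
    intro w hw hw1
    obtain ⟨l, hlP, hl, -, hlw⟩ := D.tr (i + 1) i (ne_add_one i).symm w hw hw1
    exact ⟨l, mem_sup_right ⟨hlP, hl⟩, hlw⟩
  -- (b) the singular vectors orthogonal to `v (i+1)`
  have hb : ∀ u ∈ NU U v i, q i u = 0 → u ≠ 1 → B i u (v (i + 1)) = 0 →
      ∃ k ∈ centralizer (zc T : Set G) ⊔ (P ⊓ centralizer (U i : Set G)), k * v (i + 1) * k⁻¹ = u := by
    intro u hu hq hu1 hB
    by_cases hu0 : u = v (i + 1)
    · exact ⟨1, one_mem _, by rw [hu0]; group⟩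
    obtain ⟨w, hw, hw1, hw0⟩ := D.exists_second H i
    obtain ⟨g, hg, hg0, hgw⟩ := O.tra (D.mem_N i) (H.sing i) (D.U_le_N i hw) (D.sing_U H hw) hu hq
      (by rw [O.symm _ (D.mem_N i) _ (D.U_le_N i hw)]; exact D.B_U H hw (D.mem _))
      (by rw [O.symm _ (D.mem_N i) _ hu]; exact hB) hw1 hu1 hw0 hu0
    obtain ⟨k, hk, hkw⟩ := ha w hw hw1
    refine ⟨g * k, mul_mem (mem_sup_left (D.mem_D_of hg hg0)) hk, ?_⟩
    calc g * k * v (i + 1) * (g * k)⁻¹ = g * (k * v (i + 1) * k⁻¹) * g⁻¹ := by group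
      _ = u := by rw [hkw, hgw]
  -- (c) all singular vectors
  have hc : ∀ u ∈ NU U v i, q i u = 0 → u ≠ 1 →
      ∃ k ∈ centralizer (zc T : Set G) ⊔ (P ⊓ centralizer (U i : Set G)), k * v (i + 1) * k⁻¹ = u := by
    intro u hu hq hu1
    rcases zmod_two (B i u (v (i + 1))) with hB | hB
    · exact hb u hu hq hu1 hB
    -- a common neighbour in `U (i+1)`
    obtain ⟨w, hw, hw1, hwB⟩ : ∃ w ∈ U (i + 1), w ≠ 1 ∧ B i u w = 0 := by
      obtain ⟨w, hw, hw1, hw0⟩ := D.exists_second H i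
      rcases zmod_two (B i u w) with h | h
      · exact ⟨w, hw, hw1, h⟩
      · refine ⟨w * v (i + 1), mul_mem hw (D.mem _), fun h1 => hw0 ?_, ?_⟩
        · have h2 := mul_eq_one_iff_eq_inv.1 h1
          have h3 : (v (i + 1))⁻¹ = v (i + 1) := inv_eq_of_mul_eq_one_left (D.v_sq _)
          rw [h2, h3]
        · rw [O.B_mul' (D.U_le_N i hw) (D.mem_N i) hu, h, hB]
          decide
    obtain ⟨k, hk, hkw⟩ := ha w hw hw1
    have hkC : k⁻¹ ∈ CC v i := inv_mem (hKC hk)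
    have hkC' : k ∈ CC v i := hKC hk
    obtain ⟨k', hk', hkw'⟩ := hb (k⁻¹ * u * k⁻¹⁻¹) (O.nor _ hkC u hu) (by rw [O.q_conj _ hkC u hu, hq])
      (fun h => hu1 (conj_eq_one_iff.1 h)) (by
        have h1 := O.B_conj hkC' (O.nor _ hkC u hu) (D.mem_N i)
        have e : k * (k⁻¹ * u * k⁻¹⁻¹) * k⁻¹ = u := by group
        rw [e, hkw, hwB] at h1
        exact h1.symm)
    refine ⟨k * k', mul_mem hk hk', ?_⟩
    calc k * k' * v (i + 1) * (k * k')⁻¹ = k * (k' * v (i + 1) * k'⁻¹) * k⁻¹ := by group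
      _ = u := by rw [hkw']; group
  intro c hcC
  obtain ⟨k, hk, hkw⟩ := hc (c * v (i + 1) * c⁻¹) (O.nor c hcC _ (D.mem_N i))
    (by rw [O.q_conj c hcC _ (D.mem_N i)]; exact H.sing i) (fun h => D.ne _ (conj_eq_one_iff.1 h))
  have h1 : k⁻¹ * c ∈ centralizer (zc T : Set G) := by
    refine D.mem_D_of (mul_mem (inv_mem (hKC hk)) hcC) ?_
    calc k⁻¹ * c * v (i + 1) * (k⁻¹ * c)⁻¹ = k⁻¹ * (c * v (i + 1) * c⁻¹) * k := by group
      _ = v (i + 1) := by rw [← hkw]; group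
  have e : c = k * (k⁻¹ * c) := by group
  rw [e]
  exact mul_mem hk (mem_sup_left h1)

/-- every singular vector `≠ 1` of `N i` is conjugate to `v (i+1)` under `C_G(v i)` -/
theorem exists_conj {i : Fin 2} {u : G} (hu : u ∈ NU U v i) (hq : q i u = 0) (hu1 : u ≠ 1) :
    ∃ c ∈ CC v i, c * v (i + 1) * c⁻¹ = u := by
  have O := H.orth i
  rcases zmod_two (B i (v (i + 1)) u) with hB | hB
  · by_cases hu0 : u = v (i + 1)
    · exact ⟨1, one_mem _, by rw [hu0]; group⟩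
    obtain ⟨w, hw, hw1, hw0⟩ := D.exists_second H i
    obtain ⟨l, -, hl, -, hlw⟩ := D.tr (i + 1) i (ne_add_one i).symm w hw hw1
    have hlC : l ∈ CC v i := (centralizer_le (Set.singleton_subset_iff.2 (D.mem i))) hl
    obtain ⟨g, hg, -, hgw⟩ := O.tra (D.mem_N i) (H.sing i) (D.U_le_N i hw) (D.sing_U H hw) hu hq
      (by rw [O.symm _ (D.mem_N i) _ (D.U_le_N i hw)]; exact D.B_U H hw (D.mem _)) hB hw1 hu1 hw0 hu0
    refine ⟨g * l, mul_mem hg hlC, ?_⟩
    calc g * l * v (i + 1) * (g * l)⁻¹ = g * (l * v (i + 1) * l⁻¹) * g⁻¹ := by group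
      _ = u := by rw [hlw, hgw]
  · obtain ⟨g, hg, -, hgw⟩ := O.conj_of_one (one_mem _) (D.mem_N i) (H.sing i) hu hq
      (O.B_one (D.mem_N i)) (O.B_one hu) hB
    exact ⟨g, hg, hgw⟩

/-- **`OHyp` gives `DOne`.** -/
theorem dOne : DOne P T U v := by
  refine ⟨D.rad_mem H, ?_, ?_, ?_, D.max_C H⟩
  · intro i g hg hgL x hx
    have O := H.orth i
    have h1 := O.eq_of_fix (D.mem_N i) (H.sing i) hg (fun w hw hw0 => by
      have h2 := (mem_centralizer_iff.1 hgL w (D.perp_mem H hw hw0)).symm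
      rw [h2]; group) hx
    have hz : v (i + 1) * v i = v 0 * v 1 := by
      have hc : v 0 * v 1 = v 1 * v 0 := D.comm (D.le 0 (D.mem 0)) (D.le 1 (D.mem 1))
      rcases Fin.exists_fin_two.1 ⟨i, rfl⟩ with hi | hi
      · rw [hi]; exact hc.symm
      · rw [hi]; rfl
    rcases h1 with h | h
    · rw [h]; exact one_mem _
    · rw [h, hz]; exact mem_zpowers _
  · intro i
    have O := H.orth i
    refine O.gen.trans (sup_le le_sup_left ?_)
    rw [closure_le]
    rintro g ⟨hg, u, hu, hq, ht⟩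
    by_cases hu1 : u = 1
    · -- `B x 1 = 0`: `g` is trivial on `N i`
      refine mem_sup_left (mem_inf.2 ⟨hg, mem_centralizer_iff.2 ?_⟩)
      intro x hx
      have h1 := (ht x hx).1 (by rw [hu1, O.symm _ hx _ (one_mem _), O.B_one hx])
      calc x * g = g * x * g⁻¹ * g := by rw [h1]
        _ = g * x := by group
    obtain ⟨c, hc, hcu⟩ := D.exists_conj H hu hq hu1
    obtain ⟨y, hy, hyC, hty⟩ := H.tv i
    have hy' : c * y * c⁻¹ ∈ NoFF.Basic.V (NU U v (i + 1)) (CC v i) := by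
      apply Z_le_V hc
      rw [mem_conj]
      have e : c⁻¹ * (c * y * c⁻¹) * c = y := by group
      rwa [e]
    have hcy : c * y * c⁻¹ ∈ CC v i := mul_mem (mul_mem hc hyC) (inv_mem hc)
    have h1 : g * (c * y * c⁻¹)⁻¹ ∈ centralizer (NU U v i : Set G) := by
      have hci : c * v i * c⁻¹ = v i := by
        have h := mem_centralizer_singleton_iff.1 hc
        rw [h]; group
      -- `c y c⁻¹` is the transvection of `u`
      have h2 : ∀ x ∈ NU U v i, c * y * c⁻¹ * x * (c * y * c⁻¹)⁻¹ = g * x * g⁻¹ := by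
        intro x hx
        have hx' : c⁻¹ * x * c⁻¹⁻¹ ∈ NU U v i := O.nor _ (inv_mem hc) x hx
        have hBx : B i (c⁻¹ * x * c⁻¹⁻¹) (v (i + 1)) = B i x u := by
          have h3 := O.B_conj hc hx' (D.mem_N i)
          have e : c * (c⁻¹ * x * c⁻¹⁻¹) * c⁻¹ = x := by group
          rw [e, hcu] at h3
          exact h3.symm
        have e1 : c * y * c⁻¹ * x * (c * y * c⁻¹)⁻¹ = c * (y * (c⁻¹ * x * c⁻¹⁻¹) * y⁻¹) * c⁻¹ := by group
        rcases zmod_two (B i x u) with h | h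
        · rw [(ht x hx).1 h, e1, (hty _ hx').1 (hBx.trans h)]; group
        · rw [(ht x hx).2 h, e1, (hty _ hx').2 (hBx.trans h)]
          calc c * (c⁻¹ * x * c⁻¹⁻¹ * (v (i + 1) * v i)) * c⁻¹ =
              x * ((c * v (i + 1) * c⁻¹) * (c * v i * c⁻¹)) := by group
            _ = x * (u * v i) := by rw [hcu, hci]
      rw [mem_centralizer_iff]
      intro x hx
      have hx2 : (c * y * c⁻¹)⁻¹ * x * (c * y * c⁻¹)⁻¹⁻¹ ∈ NU U v i := O.nor _ (inv_mem hcy) x hx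
      have h3 := h2 _ hx2
      have e : c * y * c⁻¹ * ((c * y * c⁻¹)⁻¹ * x * (c * y * c⁻¹)⁻¹⁻¹) * (c * y * c⁻¹)⁻¹ = x := by group
      rw [e] at h3
      calc x * (g * (c * y * c⁻¹)⁻¹) = g * ((c * y * c⁻¹)⁻¹ * x * (c * y * c⁻¹)⁻¹⁻¹) * g⁻¹ * (g * (c * y * c⁻¹)⁻¹) := by
            rw [← h3]
        _ = g * (c * y * c⁻¹)⁻¹ * x := by group
    have h2 : g = g * (c * y * c⁻¹)⁻¹ * (c * y * c⁻¹) := by group
    rw [h2]
    exact mul_mem (mem_sup_left (mem_inf.2 ⟨mul_mem hg (inv_mem hcy), h1⟩)) (mem_sup_right hy')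
  · -- `N 0 ⊓ N 1 ≤ Y`
    rintro x ⟨hx0, hx1⟩
    by_contra hx
    have O := H.orth 0
    obtain ⟨y, hy, hyC, hty⟩ := H.tv 0
    -- `x ∈ v 1 ^⊥`
    have hB : B 0 x (v (0 + 1)) = 0 := by
      rcases zmod_two (B 0 x (v (0 + 1))) with h | h
      · exact h
      exfalso
      have h1 := (hty x hx0).2 h
      have h2 : y * x = x * y := mem_centralizer_iff.1 (D.N_comm (0 + 1) hx1) y hy
      have h3 : y * x * y⁻¹ = x := by rw [h2]; group
      rw [h3] at h1
      have h4 : v (0 + 1) * v 0 = 1 := (mul_eq_left.1 h1.symm)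
      have h5 := D.v_sq 0
      have h6 : v (0 + 1) = v 0 := by
        calc v (0 + 1) = v (0 + 1) * (v 0 * v 0) := by rw [h5, mul_one]
          _ = v (0 + 1) * v 0 * v 0 := by group
          _ = v 0 := by rw [h4, one_mul]
      have h7 : v 0 ∈ U 0 ⊓ U (0 + 1) := ⟨D.mem 0, h6 ▸ D.mem _⟩
      rw [D.inf 0 (0 + 1) (ne_add_one 0), mem_bot] at h7
      exact D.ne 0 h7
    obtain ⟨x', hx', hqx, hor, hBx⟩ := O.exists_sing hx0
    have hv0 : v 0 ∈ NU U v (0 + 1) := by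
      have := D.mem_N (0 + 1)
      rwa [add_one_add_one] at this
    have hx'N : x' ∈ NU U v (0 + 1) := by
      rcases hor with h | h
      · rw [h]; exact hx1
      · rw [h]; exact mul_mem hx1 hv0
    have hmemY : ∀ y ∈ zc T, y * v 0 ∈ zc T := fun y hy => mul_mem hy (D.v_mem_zc 0)
    have hx'Y : x' ∉ zc T := by
      intro h
      rcases hor with h1 | h1
      · exact hx (h1 ▸ h)
      · have h2 := hmemY _ h
        rw [h1, mul_assoc, D.v_sq, mul_one] at h2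
        exact hx h2
    -- all singular vectors of `v 1 ^⊥` lie in `N 1`
    have hU : U (0 + 1) ≤ NU U v (0 + 1) := by
      intro w hw
      by_cases hw1 : w = 1
      · rw [hw1]; exact one_mem _
      by_cases hw0 : w = v (0 + 1)
      · rw [hw0]
        exact D.rad_mem H (0 + 1) |> D.LU_le_N (0 + 1)
      obtain ⟨g, hg, hg0, hgw⟩ := O.tra (D.mem_N 0) (H.sing 0) hx' hqx (D.U_le_N 0 hw) (D.sing_U H hw)
        (by rw [O.symm _ (D.mem_N 0) _ hx', hBx _ (D.mem_N 0), hB])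
        (by rw [O.symm _ (D.mem_N 0) _ (D.U_le_N 0 hw)]; exact D.B_U H hw (D.mem _))
        (fun h => hx'Y (h ▸ one_mem _)) hw1 (fun h => hx'Y (h ▸ D.v_mem_zc _)) hw0
      have hgD := D.mem_D_of hg hg0
      rw [← hgw]
      exact (H.orth (0 + 1)).nor g (D.cent_zc_le _ hgD) x' hx'N
    -- a second vector of `U 1` is singular or nonsingular in `N 1`, fixed by `T`
    obtain ⟨w, hw, hw1, hw0⟩ := D.exists_second H 0
    have O1 := H.orth (0 + 1)
    obtain ⟨w', hw', hqw, horw, -⟩ := O1.exists_sing (hU hw)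
    have hfix : ∀ t ∈ T, t * w' * t⁻¹ = w' := by
      intro t ht
      have htC : t ∈ CC v (0 + 1) := D.T_le_C _ ht
      have htv : t * v (0 + 1) * t⁻¹ = v (0 + 1) := D.cen _ t ht
      have htN : t * w * t⁻¹ ∈ U (0 + 1) := (mem_normalizer_iff.1 (D.T_le_N (0 + 1) ht) w).1 hw
      -- `t w t⁻¹ ∈ {w, w v 1}`
      have h1 : t * w * t⁻¹ = w ∨ t * w * t⁻¹ = w * v (0 + 1) := by
        have hcard := D.four (0 + 1)
        have hne1 : t * w * t⁻¹ ≠ 1 := fun h => hw1 (conj_eq_one_iff.1 h)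
        rcases NO3S.eq_of_card_four hcard (fun a ha => D.U_sq _ a ha) hw hw1 (D.mem (0 + 1)) (D.ne _) hw0 htN hne1
          with h | h | h
        · exact Or.inl h
        · exfalso
          have h2 : w = v (0 + 1) := by
            calc w = t⁻¹ * (t * w * t⁻¹) * t := by group
              _ = t⁻¹ * (t * v (0 + 1) * t⁻¹) * t := by rw [h, htv]
              _ = v (0 + 1) := by group
          exact hw0 h2
        · exact Or.inr h
      have hw'1 : t * w' * t⁻¹ = w' ∨ t * w' * t⁻¹ = w' * v (0 + 1) := by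
        rcases horw with h | h
        · rw [h]; exact h1
        · have e : t * w' * t⁻¹ = (t * w * t⁻¹) * (t * v (0 + 1) * t⁻¹) := by rw [h]; group
          rw [e, htv, h]
          rcases h1 with h2 | h2
          · rw [h2]; exact Or.inl rfl
          · rw [h2]; exact Or.inr rfl
      refine hw'1.resolve_right fun h => ?_
      have h2 := O1.q_conj t htC w' hw'
      rw [h, O1.q_mul_r hw', hqw] at h2
      exact absurd h2 (by decide)
    have hw'Y : w' ∈ zc T := by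
      refine mem_zc.2 ⟨(D.N_le_Q _).trans (D.Q_le_T _) hw', fun t ht => ?_, ?_⟩
      · have h1 := hfix t ht
        calc t * w' = t * w' * t⁻¹ * t := by group
          _ = w' * t := by rw [h1]
      · rw [pow_two]; exact O1.sq w' hw'
    -- `w ∈ Y`
    have hwY : w ∈ zc T := by
      rcases horw with h | h
      · rw [← h]; exact hw'Y
      · have h2 := mul_mem hw'Y (D.v_mem_zc (0 + 1))
        rw [h, mul_assoc, D.v_sq, mul_one] at h2
        exact h2
    have hne : ∀ a ∈ U 0, a ∈ U (0 + 1) → a = 1 := by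
      intro a h1 h2
      have h3 : a ∈ U 0 ⊓ U (0 + 1) := ⟨h1, h2⟩
      rw [D.inf 0 (0 + 1) (ne_add_one 0), mem_bot] at h3
      exact h3
    rcases (D.zT w).1 hwY with h | h | h | h
    · exact hw1 h
    · exact hw1 (hne w (h ▸ D.mem 0) hw)
    · exact hw0 h
    · have h1 : v 0 ∈ U (0 + 1) := by
        have h2 := mul_mem hw (inv_mem (D.mem (0 + 1)))
        have e : w * (v (0 + 1))⁻¹ = v 0 := by
          rw [h]
          exact mul_inv_cancel_right _ _
        rwa [e] at h2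
      exact D.ne 0 (hne _ (D.mem 0) h1)

/-- **(4)**: the adjacent case for `O_{2n+1}(2)`. -/
theorem false_of_oorth (hII : NonLoc (CC v 0) (CC v 1)) : False := D.false_of_dOne (D.dOne H) hII

end Sit

end Cfsg.Agent.Omega.OM.KTwo
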