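import Cfsg.Agent.Omega.OM.KTwo.StepF

/-!
# NO-3S, `k = 2`, `q = 2`, case (II), distance 1 (helper609 #16177 (4))

`D : Sit S P T U v`, `N i = ⟨U (i+1) ^ C_G(v i)⟩`, `W i = ⟨U i ^ C_G(v i)⟩`, `M = C_G(Y)`, `Y = Ω₁Z(T) = ⟨v 0, v 1⟩`.

* `DOne` : the facts on the module `N i` used in (4); in the application `C_G(v i)` induces `O_{2n+1}(2)` on `N i`
  (radical `v i`) and `N (i+1)` induces the transvection with centre `v 0 v 1`;
* `Sit.false_of_dOne`.
-/

set_option autoImplicit false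
set_option linter.unusedSectionVars false

namespace Cfsg.Agent.Omega.OM.KTwo

open Subgroup Cfsg Cfsg.Agent.ZN Cfsg.Agent.Omega.MinPar
open Cfsg.Agent.Omega.NO3S Cfsg.Agent.Omega.FrameNOFF
open Cfsg.Agent.Omega.NoFF.Basic (conj_conj mem_conj conj_le_iff conj_le_centralizer comm_symm comm_mono
  Z_le_V V_le conj_V_mul)
open Cfsg.Agent.Omega.NOThreeL.Pair (conj_eq_of_mem)
open Cfsg.Agent.MinSimple.VModule (mem_zc)
open scoped Pointwise

universe u

variable {G : Type u} [Group G]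

/-- `⟨U (i+1) ^ C_G(Y)⟩`: generated by the lines of `N i` on `v (i+1)` -/
abbrev LU (T : Subgroup G) (U : Fin 2 → Subgroup G) (i : Fin 2) : Subgroup G :=
  NoFF.Basic.V (U (i + 1)) (centralizer (zc T : Set G))

/-- The facts on `C_G(v i)` acting on `N i` used in (4). -/
structure DOne (P T : Subgroup G) (U : Fin 2 → Subgroup G) (v : Fin 2 → G) : Prop where
  /-- the lines of `N i` on `v (i+1)` generate a subgroup containing the radical `v i` -/
  rad : ∀ i, v i ∈ LU T U i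
  /-- an element centralising the lines of `N i` on `v (i+1)` is `1` or the transvection with centre `v 0 v 1` -/
  tv : ∀ i, ∀ g ∈ CC v i, g ∈ centralizer (LU T U i : Set G) → ∀ x ∈ NU U v i, g * x * g⁻¹ * x⁻¹ ∈ zpowers (v 0 * v 1)
  /-- the `C_G(v i)`-conjugates of `N (i+1)` generate `C_G(v i)` modulo `C(N i)` -/
  gen : ∀ i, CC v i ≤ FF U v i ⊔ NoFF.Basic.V (NU U v (i + 1)) (CC v i)
  inf : NU U v 0 ⊓ NU U v 1 ≤ zc T
  /-- `C_G(v i) = ⟨C_G(Y), L_{i+1}⟩` -/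
  max : ∀ i, CC v i ≤ centralizer (zc T : Set G) ⊔ (P ⊓ centralizer (U i : Set G))

namespace Sit

variable [Finite G] {S : Sylow 2 G} {P T : Subgroup G} {U : Fin 2 → Subgroup G} {v : Fin 2 → G}
  (D : Sit S P T U v)

include D

theorem LU_le_N (i : Fin 2) : LU T U i ≤ NU U v i :=
  V_le fun _ hc => Z_le_V (D.cent_zc_le i hc)

theorem LU_le_W (i : Fin 2) : LU T U i ≤ WU U v (i + 1) :=
  V_le fun _ hc => Z_le_V (D.cent_zc_le (i + 1) hc)

theorem W_le_C (i j : Fin 2) : WU U v i ≤ CC v j := (D.W_le_Q i).trans ((D.Q_le_T i).trans (D.T_le_C j))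

theorem N_le_C (i j : Fin 2) : NU U v i ≤ CC v j := (D.N_le_Q i).trans ((D.Q_le_T i).trans (D.T_le_C j))

/-- the subgroup of `C_G(v i)` acting trivially on `W i / N i` -/
def KW (D : Sit S P T U v) (i : Fin 2) : Subgroup G where
  carrier := {r | r ∈ CC v i ∧ ∀ x ∈ WU U v i, r * x * r⁻¹ * x⁻¹ ∈ NU U v i}
  one_mem' := ⟨one_mem _, fun x _ => by simp⟩
  mul_mem' := by
    rintro r s ⟨hr, h1⟩ ⟨hs, h2⟩
    refine ⟨mul_mem hr hs, fun x hx => ?_⟩
    have h3 := (mem_normalizer_iff.1 (D.C_le_N_N i hr) _).1 (h2 x hx)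
    have e : r * s * x * (r * s)⁻¹ * x⁻¹ = (r * (s * x * s⁻¹ * x⁻¹) * r⁻¹) * (r * x * r⁻¹ * x⁻¹) := by group
    rw [e]
    exact mul_mem h3 (h1 x hx)
  inv_mem' := by
    rintro r ⟨hr, h1⟩
    refine ⟨inv_mem hr, fun x hx => ?_⟩
    have h3 := (mem_normalizer_iff.1 (D.C_le_N_N i (inv_mem hr)) _).1 (inv_mem (h1 x hx))
    have e : r⁻¹ * x * r⁻¹⁻¹ * x⁻¹ = r⁻¹ * (r * x * r⁻¹ * x⁻¹)⁻¹ * r⁻¹⁻¹ := by group
    rw [e]
    exact h3

theorem V_le_KW (K : DOne P T U v) (i : Fin 2) : NoFF.Basic.V (NU U v (i + 1)) (CC v i) ≤ D.KW i := by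
  have hz : v 0 * v 1 ∈ NU U v i := by
    have h1 : v i ∈ NU U v i := D.LU_le_N i (K.rad i)
    have h2 : v (i + 1) ∈ NU U v i := D.mem_N i
    rcases Fin.exists_fin_two.1 ⟨i, rfl⟩ with h | h
    · rw [h] at h1 h2 ⊢; exact mul_mem h1 h2
    · rw [h] at h1 h2 ⊢; exact mul_mem h2 h1
  refine V_le fun c hc y hy => ?_
  rw [mem_conj] at hy
  have hyC : c⁻¹ * y * c ∈ CC v i := D.N_le_C (i + 1) i hy
  refine ⟨?_, fun x hx => ?_⟩
  · have h1 := mul_mem (mul_mem hc hyC) (inv_mem hc)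
    have e : c * (c⁻¹ * y * c) * c⁻¹ = y := by group
    rwa [e] at h1
  · have h1 : c⁻¹ * x * c ∈ WU U v i := by
      have := (mem_normalizer_iff.1 (D.C_le_N_W i (inv_mem hc)) x).1 hx
      rwa [inv_inv] at this
    -- `[W i, N (i+1)] ≤ ⟨z⟩`
    have h2 : c⁻¹ * x * c ∈ centralizer (LU T U (i + 1) : Set G) := by
      have h3 := D.LU_le_W (i + 1)
      rw [add_one_add_one] at h3
      exact centralizer_le h3 (D.W_comm i h1)
    have h3 := K.tv (i + 1) _ (D.W_le_C i (i + 1) h1) h2 _ hy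
    have h4 : c⁻¹ * x * c * (c⁻¹ * y * c) * (c⁻¹ * x * c)⁻¹ * (c⁻¹ * y * c)⁻¹ ∈ NU U v i :=
      (zpowers_le.2 hz) h3
    have h5 := (mem_normalizer_iff.1 (D.C_le_N_N i hc) _).1 (inv_mem h4)
    have e : y * x * y⁻¹ * x⁻¹ = c * (c⁻¹ * x * c * (c⁻¹ * y * c) * (c⁻¹ * x * c)⁻¹ * (c⁻¹ * y * c)⁻¹)⁻¹ * c⁻¹ := by
      group
    rw [e]
    exact h5

/-- `C_G(Y) ⊓ KW` normalises `U i` -/
theorem conj_mem_U (K : DOne P T U v) {i : Fin 2} {r : G} (hrD : r ∈ centralizer (zc T : Set G)) (hr : r ∈ D.KW i)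
    {x : G} (hx : x ∈ U i) : r * x * r⁻¹ ∈ U i := by
  by_cases hx1 : x = 1
  · rw [hx1]; simp
  have hxW : x ∈ WU U v i := le_V _ _ hx
  have hxN : x ∈ NU U v (i + 1) := by
    have := D.U_le_N (i + 1)
    rw [add_one_add_one] at this
    exact this hx
  have h1 : r * x * r⁻¹ * x⁻¹ ∈ NU U v i := hr.2 x hxW
  have h2 : r * x * r⁻¹ * x⁻¹ ∈ NU U v (i + 1) :=
    mul_mem ((mem_normalizer_iff.1 (D.C_le_N_N (i + 1) (D.cent_zc_le (i + 1) hrD)) x).1 hxN) (inv_mem hxN)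
  have h3 : r * x * r⁻¹ * x⁻¹ ∈ zc T := by
    apply K.inf
    rcases Fin.exists_fin_two.1 ⟨i, rfl⟩ with h | h
    · rw [h] at h1 h2; exact ⟨h1, h2⟩
    · rw [h] at h1 h2; exact ⟨h2, h1⟩
  have hvi := D.mem i
  -- the four elements of `Y`
  have h4 : r * x * r⁻¹ * x⁻¹ = 1 ∨ r * x * r⁻¹ * x⁻¹ = v i ∨ r * x * r⁻¹ * x⁻¹ = v (i + 1) ∨
      r * x * r⁻¹ * x⁻¹ = v (i + 1) * v i := by
    have hc : v 0 * v 1 = v 1 * v 0 := D.comm (D.le 0 (D.mem 0)) (D.le 1 (D.mem 1))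
    have h01 : ∀ {y : G}, y = v 0 → y = v i ∨ y = v (i + 1) := by
      intro y hy
      rcases Fin.exists_fin_two.1 ⟨i, rfl⟩ with hi | hi
      · left; rw [hy, hi]
      · right; rw [hy, hi]; rfl
    have h11 : ∀ {y : G}, y = v 1 → y = v i ∨ y = v (i + 1) := by
      intro y hy
      rcases Fin.exists_fin_two.1 ⟨i, rfl⟩ with hi | hi
      · right; rw [hy, hi]; rfl
      · left; rw [hy, hi]
    have h21 : v 0 * v 1 = v (i + 1) * v i := by
      rcases Fin.exists_fin_two.1 ⟨i, rfl⟩ with hi | hi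
      · rw [hi]; exact hc
      · rw [hi]; rfl
    rcases (D.zT _).1 h3 with h | h | h | h
    · exact Or.inl h
    · rcases h01 h with h | h
      · exact Or.inr (Or.inl h)
      · exact Or.inr (Or.inr (Or.inl h))
    · rcases h11 h with h | h
      · exact Or.inr (Or.inl h)
      · exact Or.inr (Or.inr (Or.inl h))
    · exact Or.inr (Or.inr (Or.inr (h.trans h21)))
  -- not of the form `v (i+1) x'`, `x' ∈ U i`
  have key : ∀ x' ∈ U i, r * x * r⁻¹ ≠ v (i + 1) * x' := by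
    intro x' hx' he
    obtain ⟨l, -, -, -, hlx⟩ := D.tr i (i + 1) (ne_add_one i) x hx hx1
    by_cases hx'1 : x' = 1
    · rw [hx'1, mul_one] at he
      -- `r x r⁻¹ = v (i+1)`, `r` centralises `v (i+1)`: `x = v (i+1)`
      have h5 : r * v (i + 1) = v (i + 1) * r :=
        mem_centralizer_singleton_iff.1 (D.cent_zc_le (i + 1) hrD)
      have h6 : x = v (i + 1) := by
        calc x = r⁻¹ * (r * x * r⁻¹) * r := by group
          _ = r⁻¹ * (v (i + 1) * r) := by rw [he]; group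
          _ = v (i + 1) := by rw [← h5]; group
      have h7 : v (i + 1) ∈ U i ⊓ U (i + 1) := ⟨h6 ▸ hx, D.mem _⟩
      rw [D.inf i (i + 1) (ne_add_one i), mem_bot] at h7
      exact D.ne _ h7
    · obtain ⟨m, -, hm, -, hmx⟩ := D.tr i (i + 1) (ne_add_one i) x' hx' hx'1
      have h5 : m * v (i + 1) = v (i + 1) * m := (mem_centralizer_iff.1 hm _ (D.mem _)).symm
      have h6 : (m⁻¹ * r * l) * v i * (m⁻¹ * r * l)⁻¹ = v 0 * v 1 := by
        have hc : v 0 * v 1 = v 1 * v 0 := D.comm (D.le 0 (D.mem 0)) (D.le 1 (D.mem 1))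
        have h7 : v (i + 1) * v i = v 0 * v 1 := by
          rcases Fin.exists_fin_two.1 ⟨i, rfl⟩ with hi | hi
          · rw [hi]; exact hc.symm
          · rw [hi]; rfl
        have e5 : m⁻¹ * v (i + 1) = v (i + 1) * m⁻¹ := by
          calc m⁻¹ * v (i + 1) = m⁻¹ * (v (i + 1) * m) * m⁻¹ := by group
            _ = m⁻¹ * (m * v (i + 1)) * m⁻¹ := by rw [h5]
            _ = v (i + 1) * m⁻¹ := by group
        calc (m⁻¹ * r * l) * v i * (m⁻¹ * r * l)⁻¹ = m⁻¹ * (r * (l * v i * l⁻¹) * r⁻¹) * m := by group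
          _ = m⁻¹ * (v (i + 1) * x') * m := by rw [hlx, he]
          _ = (m⁻¹ * v (i + 1)) * x' * m := by group
          _ = v (i + 1) * (m⁻¹ * x' * m) := by rw [e5]; group
          _ = v (i + 1) * v i := by rw [← hmx]; group
          _ = v 0 * v 1 := h7
      exact D.z_not_conj i _ h6
  have e : r * x * r⁻¹ = (r * x * r⁻¹ * x⁻¹) * x := by group
  rcases h4 with h | h | h | h
  · rw [e, h, one_mul]; exact hx
  · rw [e, h]; exact mul_mem hvi hx
  · rw [h] at e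
    exact absurd e (key x hx)
  · refine absurd ?_ (key _ (mul_mem hvi hx))
    rw [e, h, mul_assoc]

/-- **(4)**: distance 1 is impossible. -/
theorem false_of_dOne (K : DOne P T U v) (hII : NonLoc (CC v 0) (CC v 1)) : False := by
  refine D.step_f hII 0 (K.max _) ?_
  -- `C_G(Y) ≤ F N(U)`
  have h1 : centralizer (zc T : Set G) ≤ FF U v 0 ⊔ (CC v 0 ⊓ normalizer (U 0 : Set G)) := by
    intro d hd
    have hRC : NoFF.Basic.V (NU U v (0 + 1)) (CC v 0) ≤ CC v 0 := (D.V_le_KW K 0).trans fun r hr => hr.1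
    obtain ⟨f, hf, r, hr, rfl⟩ := exists_mul_of_mem_sup (hRC.trans (D.C_le_N_FF 0)) (K.gen 0 (D.cent_zc_le 0 hd))
    have hrD : r ∈ centralizer (zc T : Set G) := by
      have := mul_mem (inv_mem (D.FF_le_D 0 hf)) hd
      have e : f⁻¹ * (f * r) = r := by group
      rwa [e] at this
    have hrK := D.V_le_KW K 0 hr
    refine mul_mem (mem_sup_left hf) (mem_sup_right (mem_inf.2 ⟨hRC hr, mem_normalizer_iff.2 ?_⟩))
    intro x
    refine ⟨fun hx => D.conj_mem_U K hrD hrK hx, fun hx => ?_⟩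
    have h2 := D.conj_mem_U K (inv_mem hrD) (inv_mem hrK) hx
    have e : r⁻¹ * (r * x * r⁻¹) * r⁻¹⁻¹ = x := by group
    rwa [e] at h2
  refine (K.max 0).trans (sup_le h1 ?_)
  refine le_sup_of_le_right (le_inf ?_ ?_)
  · exact inf_le_right.trans (centralizer_le (Set.singleton_subset_iff.2 (D.mem _)))
  · exact inf_le_right.trans (centralizer_le_normalizer _)

end Sit

end Cfsg.Agent.Omega.OM.KTwo
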