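import Cfsg.Agent.Omega.OM.KTwo.StepF
import Cfsg.Agent.Omega.BTwo.Avg

/-!
# Case (E), two centres: LEMMA 0 / QP, (COMP) and THEOREM C (helper997 #19092, helper173 #19764, helper33 #19461)

Abstract part (any `q`, any frame):
* `Compl.le_or_le_sup` : LEMMA QP. `T ≤ D ≤ H`, `N_H(T) ≤ D`, every `R ∈ P(T)`, `R ≤ H`, `R ≰ D` generates `H` together
  with `D`, `X ⊴ H`: `X ≤ D` or `H = X D`;
* `Compl.le_centralizer_of_le` : `X ⊴ H`, `X ≤ C(u)`: `X` centralises `⟨A ^ H⟩` for `A ≤ ⟨u ^ H⟩`;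
* `Compl.le_normalizer` : (COMP). `C₁ ⊆ C₂ N_{C₁}(L)`, `C₂ = ⟨D, M⟩`, `M` transitive on the points `Z ^ m` of `L`: `C₁`
  normalises `⟨Z ^ C₂⟩`;
* `Compl.comm_le` : averaging (Gaschuetz). `K` normalises `Y` and `Z ≤ Y`, `[u, K] ≤ Y`, `T ≤ K` of odd index, `M ≤ K`,
  `[u, T] [u, M] ≤ Z`, and `y ∈ Y`, `[y, T] [y, M] ≤ Z` only for `y ∈ Z`: then `[u, K] ≤ Z`.

In the frame `Sit` (`k = 2`, `q = 2`):
* `Sit.comp` : `U i ^ c ∈ U i ^ D` for all `c ∈ C_G(v i)` is impossible (`D = C_G(Y)`);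
* `Sit.qp` : `X ⊴ C_G(v i)` moves `N i`: `C_G(v i) = X D`;
* `Sit.not_le_normalizer` : moreover `X` does not normalise `U i` (STEP F+);
* `Sit.thmC` : **THEOREM C.**
-/

set_option autoImplicit false
set_option linter.unusedSectionVars false

namespace Cfsg.Agent.Omega.OM.KTwo

open Subgroup Cfsg Cfsg.Agent.ZN Cfsg.Agent.Omega.MinPar
open Cfsg.Agent.Omega.NO3S Cfsg.Agent.Omega.FrameNOFF
open Cfsg.Agent.MinSimple.MinParabolic
open Cfsg.Agent.Omega.NoFF.Basic (conj_conj mem_conj conj_le_iff conj_le_centralizer comm_symm comm_mono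
  Z_le_V V_le conj_V_mul)
open Cfsg.Agent.Omega.NOThreeL.Pair (conj_eq_of_mem)
open Cfsg.Agent.ZN.ChoiceSit (Syl)
open Cfsg.Agent.MinSimple.VModule (mem_zc)
open scoped Pointwise

universe u

variable {G : Type u} [Group G]

namespace Compl

/-! ### Abstract part -/

/-- **LEMMA QP / LEMMA 0.** -/
theorem le_or_le_sup [Finite G] {T D H X : Subgroup G} (hTD : T ≤ D) (hXH : X ≤ H) (hTH : T ≤ H)
    (hN : H ⊓ normalizer (T : Set G) ≤ D)
    (hR : ∀ R : Subgroup G, IsMinPar T R → R ≤ H → ¬ R ≤ D → H ≤ D ⊔ R) :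
    X ≤ D ∨ H ≤ X ⊔ D := by
  by_cases h : ∀ R : Subgroup G, IsMinPar T R → R ≤ X ⊔ T → R ≤ D
  · left
    have hXT : X ⊔ T ≤ H := sup_le hXH hTH
    exact le_sup_left.trans (MinSimple.MinParabolic.le_of_forall (S := T) le_sup_right
      ((inf_le_inf_right _ hXT).trans hN) h)
  · right
    push Not at h
    obtain ⟨R, hR1, hR2, hR3⟩ := h
    exact (hR R hR1 (hR2.trans (sup_le hXH hTH)) hR3).trans
      (sup_le le_sup_right (hR2.trans (sup_le le_sup_left (hTD.trans le_sup_right))))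

/-- `X ⊴ H` centralises `u`, `A ≤ ⟨u ^ H⟩` elementwise: `X` centralises `⟨A ^ H⟩` -/
theorem le_centralizer_of_le {X H A : Subgroup G} {u : G} (hX : H ≤ normalizer (X : Set G))
    (hu : ∀ x ∈ X, x * u * x⁻¹ = u) (hA : ∀ a ∈ A, a ≠ 1 → ∃ l ∈ H, l * u * l⁻¹ = a) :
    X ≤ centralizer (NoFF.Basic.V A H : Set G) := by
  apply comm_symm
  refine V_le fun c hc => ?_
  intro y hy
  rw [mem_conj] at hy
  rw [mem_centralizer_iff]
  intro x hx
  by_cases h1 : c⁻¹ * y * c = 1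
  · have e : y = 1 := by
      have := congrArg (fun t => c * t * c⁻¹) h1
      simpa [mul_assoc] using this
    rw [e]; simp
  obtain ⟨l, hl, hlu⟩ := hA _ hy h1
  have hcl : c * l ∈ H := mul_mem hc hl
  have hx' : (c * l)⁻¹ * x * (c * l) ∈ X := by
    have := (mem_normalizer_iff.1 (hX (inv_mem hcl)) x).1 hx
    rwa [inv_inv] at this
  have h2 := hu _ hx'
  have h3 : y = (c * l) * u * (c * l)⁻¹ := by
    have : y = c * (c⁻¹ * y * c) * c⁻¹ := by group
    rw [this, ← hlu]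
    group
  have h4 : x * y * x⁻¹ = y := by
    calc x * y * x⁻¹ = (c * l) * (((c * l)⁻¹ * x * (c * l)) * u * ((c * l)⁻¹ * x * (c * l))⁻¹) * (c * l)⁻¹ := by
          rw [h3]; group
      _ = y := by rw [h2, ← h3]
  calc x * y = x * y * x⁻¹ * x := by group
    _ = y * x := by rw [h4]

/-- **(COMP).** -/
theorem le_normalizer {C₁ C₂ D M L Z : Subgroup G} (hZ : ∀ g, g ∈ C₁ ↔ MulAut.conj g • Z = Z)
    (hD1 : D ≤ C₁) (hM2 : M ≤ C₂) (hC2 : C₂ ≤ D ⊔ M) (hML : M ≤ normalizer (L : Set G))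
    (hdec : ∀ c ∈ C₁, ∃ f ∈ C₂, ∃ n ∈ normalizer (L : Set G), c = f * n)
    (htr : ∀ g ∈ normalizer (L : Set G), ∃ l ∈ M, MulAut.conj l • Z = MulAut.conj g • Z) :
    C₁ ≤ normalizer (NoFF.Basic.V Z C₂ : Set G) := by
  have hM : ∀ m ∈ M, ∀ c ∈ C₁, ∃ x ∈ C₂, ∃ c' ∈ C₁, c * m = x * c' := by
    intro m hm c hc
    obtain ⟨f, hf, n, hn, rfl⟩ := hdec c hc
    obtain ⟨l, hl, hlZ⟩ := htr (n * m) (mul_mem hn (hML hm))
    refine ⟨f * l, mul_mem hf (hM2 hl), l⁻¹ * (n * m), (hZ _).2 ?_, by group⟩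
    rw [← conj_conj, ← hlZ, conj_conj, inv_mul_cancel, map_one, one_smul]
  have hA : ∀ y ∈ D ⊔ M, ∀ c ∈ C₁, ∃ x ∈ C₂, ∃ c' ∈ C₁, c * y = x * c' := by
    intro y hy
    rw [← closure_eq D, ← closure_eq M, ← Subgroup.closure_union] at hy
    induction hy using closure_induction'' with
    | mem x hx =>
      intro c hc
      rcases hx with hx | hx
      · exact ⟨1, one_mem _, c * x, mul_mem hc (hD1 hx), by group⟩
      · exact hM x hx c hc
    | inv_mem x hx =>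
      intro c hc
      rcases hx with hx | hx
      · exact ⟨1, one_mem _, c * x⁻¹, mul_mem hc (inv_mem (hD1 hx)), by group⟩
      · exact hM x⁻¹ (inv_mem hx) c hc
    | one => exact fun c hc => ⟨1, one_mem _, c, hc, by group⟩
    | mul x y _ _ h1 h2 =>
      intro c hc
      obtain ⟨x₁, hx₁, c₁, hc₁, e₁⟩ := h1 c hc
      obtain ⟨x₂, hx₂, c₂, hc₂, e₂⟩ := h2 c₁ hc₁
      refine ⟨x₁ * x₂, mul_mem hx₁ hx₂, c₂, hc₂, ?_⟩
      calc c * (x * y) = c * x * y := by group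
        _ = x₁ * (c₁ * y) := by rw [e₁]; group
        _ = x₁ * x₂ * c₂ := by rw [e₂]; group
  have key : ∀ c ∈ C₁, MulAut.conj c • NoFF.Basic.V Z C₂ ≤ NoFF.Basic.V Z C₂ := by
    intro c hc
    have h0 : NoFF.Basic.V Z C₂ ≤ MulAut.conj c⁻¹ • NoFF.Basic.V Z C₂ := by
      refine V_le fun x hx => ?_
      obtain ⟨x', hx', c', hc', e⟩ := hA x (hC2 hx) c hc
      have h1 : MulAut.conj c • (MulAut.conj x • Z) ≤ NoFF.Basic.V Z C₂ := by
        rw [conj_conj, e, ← conj_conj, (hZ c').1 hc']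
        exact Z_le_V hx'
      have h2 := conj_le_iff (g := c⁻¹) |>.2 h1
      rwa [conj_conj, inv_mul_cancel, map_one, one_smul] at h2
    have h2 := conj_le_iff (g := c) |>.2 h0
    rwa [conj_conj, mul_inv_cancel, map_one, one_smul] at h2
  intro c hc
  rw [mem_normalizer_iff]
  intro x
  constructor
  · intro hx
    apply key c hc
    rw [mem_conj]
    have e : c⁻¹ * (c * x * c⁻¹) * c = x := by group
    rwa [e]
  · intro hx
    have h1 := key c⁻¹ (inv_mem hc)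
    apply h1
    rw [mem_conj, inv_inv]
    exact hx

/-- **Averaging** (Gaschuetz): a vector of `U / Z` fixed by `T` and `M` modulo `Z`, fixed by `K` modulo `Y`, is fixed by
`K` modulo `Z` if no vector of `Y / Z` is fixed by `T` and `M`. -/
theorem comm_le [Finite G] {K T M Y Z : Subgroup G} (hTK : T ≤ K) (hodd : Odd (T.relIndex K)) (hMK : M ≤ K)
    (hZY : Z ≤ Y) (hKY : K ≤ normalizer (Y : Set G)) (hKZ : K ≤ normalizer (Z : Set G))
    (hYZ : Y ≤ normalizer (Z : Set G)) (hY2 : ∀ y ∈ Y, y * y ∈ Z) {u : G} (huK : ∀ x ∈ K, u⁻¹ * x * u * x⁻¹ ∈ Y)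
    (huT : ∀ x ∈ T, u⁻¹ * x * u * x⁻¹ ∈ Z) (huM : ∀ x ∈ M, u⁻¹ * x * u * x⁻¹ ∈ Z)
    (hfix : ∀ y ∈ Y, (∀ x ∈ T, y⁻¹ * x * y * x⁻¹ ∈ Z) → (∀ x ∈ M, y⁻¹ * x * y * x⁻¹ ∈ Z) → y ∈ Z) :
    ∀ x ∈ K, u⁻¹ * x * u * x⁻¹ ∈ Z := by
  obtain ⟨y, hy, h⟩ := BTwo.Avg.avg hTK hodd hZY (fun x hx y hy => (mem_normalizer_iff.1 (hKY hx) y).1 hy)
    (fun x hx y hy => (mem_normalizer_iff.1 (hKZ hx) y).1 hy)
    (fun x hx y hy => (mem_normalizer_iff.1 (hYZ hx) y).1 hy) hY2 huK huT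
  -- `[u y, x] ≡ y⁻¹ [u, x] (x y x⁻¹)`
  have hconj : ∀ a ∈ normalizer (Z : Set G), ∀ z ∈ Z, a * z * a⁻¹ ∈ Z := fun a ha z hz =>
    (mem_normalizer_iff.1 ha z).1 hz
  have key : ∀ x ∈ K, u⁻¹ * x * u * x⁻¹ ∈ Z → y⁻¹ * x * y * x⁻¹ ∈ Z := by
    intro x hx h1
    have h2 := h x hx
    have e : (u * y)⁻¹ * x * (u * y) * x⁻¹ = (y⁻¹ * (u⁻¹ * x * u * x⁻¹) * y⁻¹⁻¹) * (y⁻¹ * x * y * x⁻¹) := by group
    rw [e] at h2
    exact (Subgroup.mul_mem_cancel_left _ (hconj y⁻¹ (inv_mem (hYZ hy)) _ h1)).1 h2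
  have hyZ : y ∈ Z := hfix y hy (fun x hx => key x (hTK hx) (huT x hx)) fun x hx => key x (hMK hx) (huM x hx)
  intro x hx
  have h2 := h x hx
  have h3 : x * y * x⁻¹ ∈ Z := hconj x (hKZ hx) y hyZ
  have e : (u * y)⁻¹ * x * (u * y) * x⁻¹ = y⁻¹ * ((u⁻¹ * x * u * x⁻¹) * (x * y * x⁻¹)) := by group
  rw [e] at h2
  exact (Subgroup.mul_mem_cancel_right _ h3).1 ((Subgroup.mul_mem_cancel_left _ (inv_mem hyZ)).1 h2)

end Compl

namespace Sit

variable [Finite G] {S : Sylow 2 G} {P T : Subgroup G} {U : Fin 2 → Subgroup G} {v : Fin 2 → G}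
  (D : Sit S P T U v)

include D

/-! ### The frame `Sit` -/

theorem T_le_D : T ≤ centralizer (zc T : Set G) := MinSimple.VModule.le_centralizer_zc T

theorem mem_D {i : Fin 2} {g : G} (h1 : g ∈ CC v i) (h2 : g ∈ CC v (i + 1)) : g ∈ centralizer (zc T : Set G) := by
  apply D.CC_inf
  rcases Fin.exists_fin_two.1 ⟨i, rfl⟩ with h | h
  · rw [h] at h1 h2; exact ⟨h1, h2⟩
  · rw [h] at h1 h2; exact ⟨h2, h1⟩

theorem conj_v_mem {i : Fin 2} {g : G} (h : g ∈ normalizer (U i : Set G)) :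
    g * v i * g⁻¹ ∈ U i ∧ g * v i * g⁻¹ ≠ 1 :=
  ⟨(mem_normalizer_iff.1 h _).1 (D.mem i), fun h1 => D.ne i (conj_eq_one_iff.1 h1)⟩

theorem mem_CC_iff {i : Fin 2} {g : G} : g ∈ CC v i ↔ g * v i * g⁻¹ = v i := by
  rw [mem_centralizer_singleton_iff]
  constructor
  · intro h
    rw [h]; group
  · intro h
    calc g * v i = g * v i * g⁻¹ * g := by group
      _ = v i * g := by rw [h]

/-- `N_G(T) ∩ C_G(v i) ≤ C_G(Y)` -/
theorem inf_norm_le (i : Fin 2) : CC v i ⊓ normalizer (T : Set G) ≤ centralizer (zc T : Set G) := by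
  rintro g ⟨hg, hgT⟩
  refine D.mem_D hg (D.mem_CC_iff.2 ?_)
  have h1 : g * v (i + 1) * g⁻¹ ∈ zc T :=
    (mem_normalizer_iff.1 (MinSimple.VModule.normalizer_le_normalizer_zc T hgT) _).1 (D.v_mem_zc _)
  have hne : g * v (i + 1) * g⁻¹ ≠ v i := by
    intro h
    have h2 : v (i + 1) = v i := by
      have h3 : g⁻¹ * v i * g = v i := by
        have := (D.mem_CC_iff.1 (inv_mem hg))
        rwa [inv_inv] at this
      calc v (i + 1) = g⁻¹ * (g * v (i + 1) * g⁻¹) * g := by group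
        _ = v i := by rw [h, h3]
    have h3 : v i ∈ U i ⊓ U (i + 1) := ⟨D.mem i, h2 ▸ D.mem (i + 1)⟩
    rw [D.inf i (i + 1) (ne_add_one i), mem_bot] at h3
    exact D.ne i h3
  rcases (D.zT _).1 h1 with h | h | h | h
  · exact absurd (conj_eq_one_iff.1 h) (D.ne _)
  · rcases Fin.exists_fin_two.1 ⟨i, rfl⟩ with hi | hi
    · subst hi; exact absurd h hne
    · subst hi; exact h
  · rcases Fin.exists_fin_two.1 ⟨i, rfl⟩ with hi | hi
    · subst hi; exact h
    · subst hi; exact absurd h hne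
  · exact absurd h (D.z_not_conj _ _)

/-- a subgroup over `T` normalising `U j` and moving `v j` is transitive on the involutions of `U j` -/
theorem trans_of {j : Fin 2} {R : Subgroup G} (hT : T ≤ R) (hR : R ≤ normalizer (U j : Set G)) (hC : ¬ R ≤ CC v j)
    {x : G} (hx : x ∈ U j) (hx1 : x ≠ 1) : ∃ r ∈ R, r * v j * r⁻¹ = x := by
  obtain ⟨r, hr, hrC⟩ := SetLike.not_le_iff_exists.1 hC
  set y := r * v j * r⁻¹ with hy
  have hyv : y ≠ v j := fun h => hrC (D.mem_CC_iff.2 h)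
  obtain ⟨hyU, hy1⟩ := D.conj_v_mem (hR hr)
  obtain ⟨t, ht, hty⟩ : ∃ t ∈ T, t * y * t⁻¹ ≠ y := by
    by_contra hcon
    push Not at hcon
    exact hyv (D.eq_v hyU hy1 hcon)
  have htU : t * y * t⁻¹ ∈ U j := (mem_normalizer_iff.1 (D.T_le_N j ht) _).1 hyU
  have ht1 : t * y * t⁻¹ ≠ 1 := fun h => hy1 (conj_eq_one_iff.1 h)
  have htv : t * y * t⁻¹ ≠ v j := by
    intro h
    apply hyv
    have h1 := D.cen j _ (inv_mem ht)
    rw [inv_inv] at h1
    calc y = t⁻¹ * (t * y * t⁻¹) * t := by group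
      _ = v j := by rw [h, h1]
  rcases NO3S.eq_of_card_four (D.four j) (D.U_sq j) (D.mem j) (D.ne j) hyU hy1 (Ne.symm hyv) hx hx1 with h | h | h
  · exact ⟨1, one_mem _, by rw [h]; group⟩
  · exact ⟨r, hr, h.symm⟩
  · refine ⟨t * r, mul_mem (hT ht) hr, ?_⟩
    have e : t * r * v j * (t * r)⁻¹ = t * y * t⁻¹ := by rw [hy]; group
    rw [e, h]
    rcases NO3S.eq_of_card_four (D.four j) (D.U_sq j) (D.mem j) (D.ne j) hyU hy1 (Ne.symm hyv) htU ht1 with h2 | h2 | h2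
    · exact absurd h2 htv
    · exact absurd h2 hty
    · exact h2

/-- **Generation**: a subgroup `R ≤ C_G(v i)` over `T` normalising `U (i+1)` and moving `v (i+1)` generates `C_G(v i)`
together with `C_G(Y)`. -/
theorem gen_of {i : Fin 2} {R : Subgroup G} (hT : T ≤ R) (hRC : R ≤ CC v i) (hR : R ≤ normalizer (U (i + 1) : Set G))
    (hRD : ¬ R ≤ centralizer (zc T : Set G))
    (hmax : CC v i ≤ centralizer (zc T : Set G) ⊔ (P ⊓ centralizer (U i : Set G))) :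
    CC v i ≤ centralizer (zc T : Set G) ⊔ R := by
  have hC : ¬ R ≤ CC v (i + 1) := fun h => hRD fun r hr => D.mem_D (hRC hr) (h hr)
  refine hmax.trans (sup_le le_sup_left fun l hl => ?_)
  have hlC : l ∈ CC v i := centralizer_le (Set.singleton_subset_iff.2 (D.mem i)) hl.2
  have hlN : l ∈ normalizer (U (i + 1) : Set G) := D.cen_le_norm (ne_add_one i).symm hl
  obtain ⟨h1, h2⟩ := D.conj_v_mem hlN
  obtain ⟨r, hr, h3⟩ := D.trans_of hT hR hC h1 h2
  have h4 : r⁻¹ * l ∈ centralizer (zc T : Set G) := by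
    refine D.mem_D (mul_mem (inv_mem (hRC hr)) hlC) (D.mem_CC_iff.2 ?_)
    calc r⁻¹ * l * v (i + 1) * (r⁻¹ * l)⁻¹ = r⁻¹ * (l * v (i + 1) * l⁻¹) * r := by group
      _ = v (i + 1) := by rw [← h3]; group
  have e : l = r * (r⁻¹ * l) := by group
  rw [e]
  exact mul_mem (mem_sup_right hr) (mem_sup_left h4)

/-- a normal subgroup of `C_G(v i)` in `C_G(Y)` centralises `N i` -/
theorem le_cent_N_of_le {i : Fin 2} {X : Subgroup G} (hXn : CC v i ≤ normalizer (X : Set G))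
    (hX : X ≤ centralizer (zc T : Set G)) : X ≤ centralizer (NU U v i : Set G) := by
  refine Compl.le_centralizer_of_le (u := v (i + 1)) hXn (fun x hx => D.mem_CC_iff.1 (D.cent_zc_le _ (hX hx)))
    fun a ha ha1 => ?_
  obtain ⟨l, -, hl, -, hla⟩ := D.tr (i + 1) i (ne_add_one i).symm a ha ha1
  exact ⟨l, centralizer_le (Set.singleton_subset_iff.2 (D.mem i)) hl, hla⟩

/-- **LEMMA QP** (helper173 #19764 (1)), **LEMMA 0** (helper997 #19092). -/
theorem qp {i : Fin 2} (hmax : CC v i ≤ centralizer (zc T : Set G) ⊔ (P ⊓ centralizer (U i : Set G)))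
    (hU : ∀ R : Subgroup G, IsMinPar T R → R ≤ CC v i → ¬ R ≤ centralizer (zc T : Set G) →
      R ≤ normalizer (U (i + 1) : Set G))
    {X : Subgroup G} (hX : X ≤ CC v i) (hXn : CC v i ≤ normalizer (X : Set G))
    (hXN : ¬ X ≤ centralizer (NU U v i : Set G)) : CC v i ≤ X ⊔ centralizer (zc T : Set G) := by
  refine (Compl.le_or_le_sup D.T_le_D hX (D.T_le_C i) (D.inf_norm_le i) fun R h1 h2 h3 =>
    D.gen_of h1.le h2 (hU R h1 h2 h3) h3 hmax).resolve_left fun h => hXN (D.le_cent_N_of_le hXn h)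

/-- the end of STEP F -/
theorem false_of_le_normalizer (hII : NonLoc (CC v 0) (CC v 1)) (i : Fin 2)
    (h1 : CC v i ≤ normalizer (NoFF.Basic.V (zpowers (v i)) (CC v (i + 1)) : Set G)) : False := by
  have h2 : CC v (i + 1) ≤ normalizer (NoFF.Basic.V (zpowers (v i)) (CC v (i + 1)) : Set G) :=
    le_normalizer_V _ _
  have h3 : NoFF.Basic.V (zpowers (v i)) (CC v (i + 1)) ≤ (S : Subgroup G) := by
    refine le_trans (V_le fun c hc => ?_) ((D.Q_le_T (i + 1)).trans D.T_le)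
    change _ ≤ QQ v (i + 1)
    rw [← D.conj_QQ hc]
    refine conj_le_iff.2 ?_
    rw [zpowers_le]
    exact D.zc_le_Q (i + 1) (D.v_mem_zc i)
  have h4 : NoFF.Basic.V (zpowers (v i)) (CC v (i + 1)) = ⊥ := by
    refine hII _ (S.isPGroup'.to_le h3) ?_ ?_
    · rcases Fin.exists_fin_two.1 ⟨i, rfl⟩ with h | h
      · rw [h] at h1 ⊢; exact h1
      · rw [h] at h2 ⊢; exact h2
    · rcases Fin.exists_fin_two.1 ⟨i, rfl⟩ with h | h
      · rw [h] at h2 ⊢; exact h2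
      · rw [h] at h1 ⊢; exact h1
  have h5 : v i ∈ NoFF.Basic.V (zpowers (v i)) (CC v (i + 1)) := le_V _ _ (mem_zpowers _)
  rw [h4, mem_bot] at h5
  exact D.ne i h5

theorem mem_zpowers_iff' {i : Fin 2} {x : G} : x ∈ zpowers (v i) ↔ x = 1 ∨ x = v i := by
  constructor
  · intro hx
    obtain ⟨n, rfl⟩ := mem_zpowers_iff.1 hx
    have h2 : v i ^ (2 : ℤ) = 1 := by
      have := D.v_sq' i
      exact_mod_cast this
    rcases Int.even_or_odd' n with ⟨k, hk | hk⟩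
    · left
      rw [hk, zpow_mul, h2, one_zpow]
    · right
      rw [hk, zpow_add, zpow_mul, h2, one_zpow, one_mul, zpow_one]
  · rintro (h | h)
    · rw [h]; exact one_mem _
    · rw [h]; exact mem_zpowers _

theorem conj_zpowers_iff {i : Fin 2} (g : G) : g ∈ CC v i ↔ MulAut.conj g • zpowers (v i) = zpowers (v i) := by
  constructor
  · intro hg
    apply conj_eq_of_mem
    apply centralizer_le_normalizer
    rw [mem_centralizer_iff]
    intro x hx
    rcases D.mem_zpowers_iff'.1 hx with h | h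
    · rw [h]; simp
    · rw [h]; exact (mem_centralizer_singleton_iff.1 hg).symm
  · intro h
    have h1 : g * v i * g⁻¹ ∈ zpowers (v i) := by
      rw [← h, mem_conj]
      have e : g⁻¹ * (g * v i * g⁻¹) * g = v i := by group
      rw [e]
      exact mem_zpowers _
    rcases D.mem_zpowers_iff'.1 h1 with h2 | h2
    · exact absurd (conj_eq_one_iff.1 h2) (D.ne i)
    · exact D.mem_CC_iff.2 h2

/-- **(COMP)** (helper33 #19461). -/
theorem comp (hII : NonLoc (CC v 0) (CC v 1)) (i : Fin 2)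
    (hmax : CC v (i + 1) ≤ centralizer (zc T : Set G) ⊔ (P ⊓ centralizer (U (i + 1) : Set G)))
    (h : ∀ c ∈ CC v i, ∃ d ∈ centralizer (zc T : Set G), MulAut.conj c • U i = MulAut.conj d • U i) : False := by
  refine D.false_of_le_normalizer hII i ?_
  refine Compl.le_normalizer (D := centralizer (zc T : Set G)) (M := P ⊓ centralizer (U (i + 1) : Set G))
    (L := U i) D.conj_zpowers_iff (D.cent_zc_le i) ?_ hmax (D.cen_le_norm (ne_add_one i)) ?_ ?_
  · exact inf_le_right.trans (centralizer_le (Set.singleton_subset_iff.2 (D.mem _)))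
  · intro c hc
    obtain ⟨d, hd, hcd⟩ := h c hc
    refine ⟨d, D.cent_zc_le _ hd, d⁻¹ * c, ?_, by group⟩
    refine ChoiceBase.mem_normalizer_iff_cj.2 ?_
    change MulAut.conj (d⁻¹ * c) • U i = U i
    rw [← conj_conj, hcd, conj_conj, inv_mul_cancel, map_one, one_smul]
  · intro g hg
    obtain ⟨h1, h2⟩ := D.conj_v_mem hg
    obtain ⟨l, hl, hlU, -, hlw⟩ := D.tr i (i + 1) (ne_add_one i) _ h1 h2
    refine ⟨l, ⟨hl, hlU⟩, ?_⟩
    have key : ∀ k : G, MulAut.conj k • zpowers (v i) = zpowers (k * v i * k⁻¹) := by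
      intro k
      ext x
      rw [mem_conj, D.mem_zpowers_iff']
      constructor
      · rintro (h3 | h3)
        · have : x = 1 := by
            have := congrArg (fun t => k * t * k⁻¹) h3
            simpa [mul_assoc] using this
          rw [this]; exact one_mem _
        · have : x = k * v i * k⁻¹ := by rw [← h3]; group
          rw [this]; exact mem_zpowers _
      · intro h3
        obtain ⟨n, rfl⟩ := mem_zpowers_iff.1 h3
        rw [conj_zpow]
        have e : k⁻¹ * (k * v i ^ n * k⁻¹) * k = v i ^ n := by group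
        rw [e]
        exact D.mem_zpowers_iff'.1 (mem_zpowers_iff.2 ⟨n, rfl⟩)
    rw [key, key, hlw]

/-- **STEP F+** (helper173 #19764 (2)): a normal subgroup of `C_G(v i)` moving `N i` does not normalise `U i`. -/
theorem not_le_normalizer (hII : NonLoc (CC v 0) (CC v 1)) {i : Fin 2}
    (hmax : ∀ i, CC v i ≤ centralizer (zc T : Set G) ⊔ (P ⊓ centralizer (U i : Set G)))
    (hU : ∀ R : Subgroup G, IsMinPar T R → R ≤ CC v i → ¬ R ≤ centralizer (zc T : Set G) →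
      R ≤ normalizer (U (i + 1) : Set G))
    {X : Subgroup G} (hX : X ≤ CC v i) (hXn : CC v i ≤ normalizer (X : Set G))
    (hXN : ¬ X ≤ centralizer (NU U v i : Set G)) : ¬ X ≤ normalizer (U i : Set G) := by
  intro hXU
  refine D.comp hII i (hmax _) fun c hc => ?_
  obtain ⟨x, hx, d, hd, rfl⟩ := exists_mul_of_mem_sup ((D.cent_zc_le i).trans hXn)
    (D.qp (hmax i) hU hX hXn hXN hc)
  refine ⟨d, hd, ?_⟩
  have h1 : d⁻¹ * x * d ∈ X := by
    have := (mem_normalizer_iff.1 (hXn (inv_mem (D.cent_zc_le i hd))) x).1 hx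
    rwa [inv_inv] at this
  have e : x * d = d * (d⁻¹ * x * d) := by group
  rw [e, ← conj_conj, conj_eq_of_mem (hXU h1)]

/-- `N i ⟨v i⟩` -/
abbrev NZ (U : Fin 2 → Subgroup G) (v : Fin 2 → G) (i : Fin 2) : Subgroup G := NU U v i ⊔ zpowers (v i)

theorem NZ_le (i : Fin 2) : NZ U v i ≤ WU U v i ⊔ NU U v i :=
  sup_le le_sup_right (by rw [zpowers_le]; exact mem_sup_left (le_V _ _ (D.mem i)))

theorem C_le_N_Z (i : Fin 2) : CC v i ≤ normalizer (zpowers (v i) : Set G) := by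
  intro c hc
  refine ChoiceBase.mem_normalizer_iff_cj.2 ?_
  exact (D.conj_zpowers_iff c).1 hc

theorem C_le_N_NZ (i : Fin 2) : CC v i ≤ normalizer (NZ U v i : Set G) := by
  intro c hc
  refine ChoiceBase.mem_normalizer_iff_cj.2 ?_
  change MulAut.conj c • (NU U v i ⊔ zpowers (v i)) = _
  rw [Subgroup.smul_sup, conj_eq_of_mem (D.C_le_N_N i hc), (D.conj_zpowers_iff c).1 hc]

/-- the subgroup of `C_G(v i)` acting trivially on `U i N i / N i ⟨v i⟩` -/
def KU (D : Sit S P T U v) (i : Fin 2) : Subgroup G where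
  carrier := {r | r ∈ CC v i ∧ ∀ x ∈ U i, x⁻¹ * r * x * r⁻¹ ∈ NZ U v i}
  one_mem' := ⟨one_mem _, fun x _ => by simp⟩
  mul_mem' := by
    rintro r s ⟨hr, h1⟩ ⟨hs, h2⟩
    refine ⟨mul_mem hr hs, fun x hx => ?_⟩
    have h3 := (mem_normalizer_iff.1 (D.C_le_N_NZ i hr) _).1 (h2 x hx)
    have h4 := h1 x hx
    have e : x⁻¹ * (r * s) * x * (r * s)⁻¹ = (x⁻¹ * r * x * r⁻¹) * (r * (x⁻¹ * s * x * s⁻¹) * r⁻¹) := by group
    rw [e]
    exact mul_mem h4 h3
  inv_mem' := by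
    rintro r ⟨hr, h1⟩
    refine ⟨inv_mem hr, fun x hx => ?_⟩
    have h3 := (mem_normalizer_iff.1 (D.C_le_N_NZ i (inv_mem hr)) _).1 (inv_mem (h1 x hx))
    have e : x⁻¹ * r⁻¹ * x * r⁻¹⁻¹ = r⁻¹ * (x⁻¹ * r * x * r⁻¹)⁻¹ * r⁻¹⁻¹ := by group
    rw [e]
    exact h3

/-- `[U i, T] ≤ ⟨v i⟩` -/
theorem comm_U_T {i : Fin 2} {x t : G} (hx : x ∈ U i) (ht : t ∈ T) : x⁻¹ * t * x * t⁻¹ ∈ zpowers (v i) := by
  rw [D.mem_zpowers_iff']
  have hx' : x⁻¹ = x := by
    rw [inv_eq_iff_mul_eq_one, ← pow_two]; exact D.U_sq i x hx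
  by_cases h1 : x = 1
  · left; rw [h1]; group
  by_cases hxv : x = v i
  · left
    have h2 := D.cen i t ht
    rw [hx', hxv]
    calc v i * t * v i * t⁻¹ = v i * (t * v i * t⁻¹) := by group
      _ = 1 := by rw [h2]; exact D.v_sq i
  have htU : t * x * t⁻¹ ∈ U i := (mem_normalizer_iff.1 (D.T_le_N i ht) _).1 hx
  have ht1 : t * x * t⁻¹ ≠ 1 := fun h => h1 (conj_eq_one_iff.1 h)
  have e : x⁻¹ * t * x * t⁻¹ = x⁻¹ * (t * x * t⁻¹) := by group
  rw [e]
  rcases NO3S.eq_of_card_four (D.four i) (D.U_sq i) (D.mem i) (D.ne i) hx h1 (Ne.symm hxv) htU ht1 with h2 | h2 | h2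
  · exfalso
    apply hxv
    have h3 := D.cen i _ (inv_mem ht)
    rw [inv_inv] at h3
    calc x = t⁻¹ * (t * x * t⁻¹) * t := by group
      _ = v i := by rw [h2, h3]
  · left; rw [h2]; group
  · right
    rw [h2, D.comm (D.le i (D.mem i)) (D.le i hx)]
    group

/-- **THEOREM C, general form**: `X ≤ C_G(v i)` with `[U i, X] ≤ N i ⟨v i⟩` normalises `U i` as soon as
`N i ⟨v i⟩ / ⟨v i⟩` has no vector fixed by `T` and `C_P(U i)`. -/
theorem le_normalizer_U {i : Fin 2}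
    (hfix : ∀ y ∈ NZ U v i, (∀ x ∈ T, y⁻¹ * x * y * x⁻¹ ∈ zpowers (v i)) →
      (∀ x ∈ P ⊓ centralizer (U i : Set G), y⁻¹ * x * y * x⁻¹ ∈ zpowers (v i)) → y ∈ zpowers (v i))
    {X : Subgroup G} (hX : X ≤ CC v i) (hXU : ∀ r ∈ X, ∀ x ∈ U i, x⁻¹ * r * x * r⁻¹ ∈ NZ U v i) :
    X ≤ normalizer (U i : Set G) := by
  have hKC : D.KU i ≤ CC v i := fun r hr => hr.1
  have hTK : T ≤ D.KU i := fun t ht => ⟨D.T_le_C i ht, fun x hx => mem_sup_right (D.comm_U_T hx ht)⟩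
  have hML : P ⊓ centralizer (U i : Set G) ≤ D.KU i := fun l hl =>
    ⟨centralizer_le (Set.singleton_subset_iff.2 (D.mem i)) hl.2, fun x hx => by
      have h1 := mem_centralizer_iff.1 hl.2 x hx
      have e : x⁻¹ * l * x * l⁻¹ = 1 := by
        rw [mul_assoc x⁻¹, ← h1]; group
      rw [e]; exact one_mem _⟩
  have hodd : Odd (T.relIndex (D.KU i)) := by
    have hS : Syl T (D.KU i) := ⟨hTK, D.T_isPGroup, fun R hR hR2 hTR => (D.syl i).2.2 R (hR.trans hKC) hR2 hTR⟩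
    rw [← Nat.not_even_iff_odd, even_iff_two_dvd]
    exact ChoiceSit.syl_not_dvd hS
  have hsq : ∀ y ∈ NZ U v i, y * y ∈ zpowers (v i) := fun y hy => by
    have := D.WN_sq i y (D.NZ_le i hy)
    rw [pow_two] at this
    rw [this]; exact one_mem _
  have hNC : NZ U v i ≤ CC v i :=
    sup_le ((D.N_le_Q i).trans ((D.Q_le_T i).trans (D.T_le_C i))) (by rw [zpowers_le]; exact mem_centralizer_singleton_iff.2 rfl)
  have hXK : X ≤ D.KU i := fun r hr => ⟨hX hr, hXU r hr⟩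
  have key : ∀ u ∈ U i, ∀ x ∈ D.KU i, u⁻¹ * x * u * x⁻¹ ∈ zpowers (v i) := fun u hu =>
    Compl.comm_le hTK hodd hML le_sup_right (hKC.trans (D.C_le_N_NZ i)) (hKC.trans (D.C_le_N_Z i))
      (hNC.trans (D.C_le_N_Z i)) hsq (fun x hx => hx.2 u hu) (fun x hx => D.comm_U_T hu hx)
      (fun x hx => by
        have h1 := mem_centralizer_iff.1 hx.2 u hu
        have e : u⁻¹ * x * u * x⁻¹ = 1 := by
          rw [mul_assoc u⁻¹, ← h1]; group
        rw [e]; exact one_mem _) hfix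
  have h2 : ∀ x ∈ X, ∀ u ∈ U i, x * u * x⁻¹ ∈ U i := by
    intro x hx u hu
    have h3 := key u hu x (hXK hx)
    have e : x * u * x⁻¹ = u * (u⁻¹ * x * u * x⁻¹) := by group
    rw [e]
    exact mul_mem hu ((zpowers_le.2 (D.mem i)) h3)
  intro x hx
  rw [mem_normalizer_iff]
  intro u
  refine ⟨h2 x hx u, fun hu => ?_⟩
  have h3 := h2 x⁻¹ (inv_mem hx) _ hu
  have e : x⁻¹ * (x * u * x⁻¹) * x⁻¹⁻¹ = u := by group
  rwa [e] at h3

/-- no radical (`v i ∉ N i`): `N i ⟨v i⟩ / ⟨v i⟩` has no vector fixed by `T` and `C_P(U i)` -/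
theorem fix_of_not_mem {i : Fin 2} (hr : v i ∉ NU U v i) : ∀ y ∈ NZ U v i,
    (∀ x ∈ T, y⁻¹ * x * y * x⁻¹ ∈ zpowers (v i)) →
    (∀ x ∈ P ⊓ centralizer (U i : Set G), y⁻¹ * x * y * x⁻¹ ∈ zpowers (v i)) → y ∈ zpowers (v i) := by
  intro y hy h1 h2
  have hinf : ∀ w ∈ NU U v i, w ∈ zpowers (v i) → w = 1 := by
    intro w hw hw'
    rcases D.mem_zpowers_iff'.1 hw' with h | h
    · exact h
    · exact absurd (h ▸ hw) hr
  obtain ⟨n, hn, z, hz, rfl⟩ := exists_mul_of_mem_sup (F := NU U v i) (N := zpowers (v i))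
    (((zpowers_le.2 (mem_centralizer_singleton_iff.2 rfl) : zpowers (v i) ≤ CC v i)).trans (D.C_le_N_N i)) hy
  have hzc : ∀ x ∈ CC v i, x * z * x⁻¹ = z := by
    intro x hx
    rcases D.mem_zpowers_iff'.1 hz with h | h
    · rw [h]; group
    · rw [h]; exact D.mem_CC_iff.1 hx
  -- `[n, x] = 1`
  have h3 : ∀ x ∈ CC v i, (n * z)⁻¹ * x * (n * z) * x⁻¹ ∈ zpowers (v i) → x * n * x⁻¹ = n := by
    intro x hx h4
    have e : (n * z)⁻¹ * x * (n * z) * x⁻¹ = z⁻¹ * (n⁻¹ * (x * n * x⁻¹)) * (x * z * x⁻¹) := by group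
    rw [e, hzc x hx] at h4
    have h5 : n⁻¹ * (x * n * x⁻¹) ∈ zpowers (v i) :=
      (Subgroup.mul_mem_cancel_left _ (inv_mem hz)).1 ((Subgroup.mul_mem_cancel_right _ hz).1 h4)
    have h6 := hinf _ (mul_mem (inv_mem hn) ((mem_normalizer_iff.1 (D.C_le_N_N i hx) n).1 hn)) h5
    have h7 : x * n * x⁻¹ = n := by
      calc x * n * x⁻¹ = n * (n⁻¹ * (x * n * x⁻¹)) := by group
        _ = n := by rw [h6, mul_one]
    exact h7
  have hnT : n ∈ zc T := by
    refine mem_zc.2 ⟨D.Q_le_T i (D.N_le_Q i hn), fun t ht => ?_, D.WN_sq i n (mem_sup_right hn)⟩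
    have h4 := h3 t (D.T_le_C i ht) (h1 t ht)
    calc t * n = t * n * t⁻¹ * t := by group
      _ = n * t := by rw [h4]
  have hn1 : n = 1 ∨ n = v (i + 1) := by
    have hv : v (i + 1) ∈ NU U v i := D.mem_N i
    have h01 : v 0 * v 1 ∉ NU U v i := by
      intro h
      apply hr
      have hc : v 0 * v 1 = v 1 * v 0 := D.comm (D.le 0 (D.mem 0)) (D.le 1 (D.mem 1))
      rcases Fin.exists_fin_two.1 ⟨i, rfl⟩ with hi | hi
      · subst hi
        have := mul_mem h (inv_mem hv)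
        simpa using this
      · subst hi
        have h5 := mul_mem (inv_mem hv) h
        have h6 : (v (1 + 1))⁻¹ * (v 0 * v 1) = v 1 := by
          have : (1 : Fin 2) + 1 = 0 := rfl
          rw [this]; group
        rwa [h6] at h5
    rcases (D.zT _).1 hnT with h | h | h | h
    · exact Or.inl h
    · rcases Fin.exists_fin_two.1 ⟨i, rfl⟩ with hi | hi
      · subst hi; exact absurd (h ▸ hn) hr
      · subst hi; exact Or.inr h
    · rcases Fin.exists_fin_two.1 ⟨i, rfl⟩ with hi | hi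
      · subst hi; exact Or.inr h
      · subst hi; exact absurd (h ▸ hn) hr
    · exact absurd (h ▸ hn) h01
  rcases hn1 with h | h
  · rw [h, one_mul]; exact hz
  · exfalso
    -- `C_P(U i)` moves `v (i+1)`
    obtain ⟨x, hx, hx1, hxv⟩ : ∃ x ∈ U (i + 1), x ≠ 1 ∧ x ≠ v (i + 1) := by
      by_contra hcon
      push Not at hcon
      have h4 : U (i + 1) ≤ zpowers (v (i + 1)) := by
        intro x hx
        rw [D.mem_zpowers_iff']
        by_cases h1 : x = 1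
        · exact Or.inl h1
        · exact Or.inr (hcon x hx h1)
      have h5 := Subgroup.card_le_of_le h4
      have h6 : Nat.card (zpowers (v (i + 1))) ≤ 2 := by
        rw [Nat.card_zpowers]
        exact Nat.le_of_dvd (by norm_num) (orderOf_dvd_of_pow_eq_one (D.v_sq' _))
      have h7 := D.four (i + 1)
      omega
    obtain ⟨l, hl, hlU, -, hlx⟩ := D.tr (i + 1) i (ne_add_one i).symm x hx hx1
    have h4 := h3 l (centralizer_le (Set.singleton_subset_iff.2 (D.mem i)) hlU) (h2 l ⟨hl, hlU⟩)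
    rw [h] at h4
    exact hxv (hlx.symm.trans h4)

/-- **THEOREM C** (helper997 #19092). -/
theorem thmC (hII : NonLoc (CC v 0) (CC v 1)) {i : Fin 2}
    (hmax : ∀ i, CC v i ≤ centralizer (zc T : Set G) ⊔ (P ⊓ centralizer (U i : Set G)))
    (hU : ∀ R : Subgroup G, IsMinPar T R → R ≤ CC v i → ¬ R ≤ centralizer (zc T : Set G) →
      R ≤ normalizer (U (i + 1) : Set G))
    (hr : v i ∉ NU U v i) {X : Subgroup G} (hX : X ≤ CC v i) (hXn : CC v i ≤ normalizer (X : Set G))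
    (hXU : ∀ r ∈ X, ∀ x ∈ U i, x⁻¹ * r * x * r⁻¹ ∈ NZ U v i) : X ≤ centralizer (NU U v i : Set G) := by
  by_contra hXN
  exact D.not_le_normalizer hII hmax hU hX hXn hXN (D.le_normalizer_U (D.fix_of_not_mem hr) hX hXU)

end Sit

end Cfsg.Agent.Omega.OM.KTwo
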