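import Cfsg.Agent.Omega.OM.KTwo.Lift
import Cfsg.Agent.Omega.NO3L.LemPLoc

/-!
# NO-3S, `k = 2`, `q = 2`: (3), (4) of helper790 #14826

`D : Sit S P T U v`, `CC v i = C_G(v i)`, `QQ v i = O₂(C_G(v i))`, `Y = Ω₁Z(T) = zc T`.

* `WU U v i = ⟨U i ^ C_G(v i)⟩`, `NU U v i = ⟨U (i+1) ^ C_G(v i)⟩`, `EU T v i = ⟨Y ^ C_G(v i)⟩ = N i ⟨v i⟩`;
  `Sit.W_le_Q`, `Sit.N_le_Q`, `Sit.Q_le_cent_N`, `Sit.WN_comm`, `Sit.WN_sq` ((3): `W i N i` is elementary abelian);
* `Sit.cut` : **(4)** either `⟨C_G(v 0), C_G(v 1)⟩` is nonlocal, or `N^ = ⟨C_G(v 0), C_G(v 1), S⟩` is local, contains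
  `P` and `C_G(x)` for all `1 ≠ x ∈ U i`, and does not contain `C_G(Z)`;
* `Sit.data` : LEMMA P (#14019) applies to `(C_G(v 0), C_G(v 1); C_G(Y))`; `Sit.crit` : a critical pair of conjugates
  of `N 0`, `N 1` in the nonlocal case.
-/

set_option autoImplicit false
set_option linter.unusedSectionVars false

namespace Cfsg.Agent.Omega.OM.KTwo

open Subgroup Cfsg Cfsg.Agent.ZN Cfsg.Agent.Omega.MinPar
open Cfsg.Agent.Omega.NO3S Cfsg.Agent.Omega.FrameNOFF
open Cfsg.Agent.Omega.NoFF.Basic (conj_conj mem_conj conj_le_iff conj_le_centralizer comm_symm comm_mono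
  Z_le_V V_le conj_V_mul)
open Cfsg.Agent.Omega.NoFF.Main (normalizer_conj)
open Cfsg.Agent.Omega.NOThreeL.Pair (conj_eq_of_mem conj_le_normalizer clo le_clo le_clo' clo_le
  le_normalizer_clo clo_comm clo_isPGroup)
open Cfsg.Agent.Omega.NO3L (LemP.Data LemP.Crit LemP.Comm LemP.Near LemP.vx)
open Cfsg.Agent.ZN.ChoiceSit (Syl exists_syl syl_conj o2_le_syl)
open Cfsg.Agent.MinSimple.VModule (mem_zc zc_le normalizer_le_normalizer_zc zc_le_zl le_normalizer_zl zl_le
  le_normalizer_o2 le_o2 o2_le o2_isPGroup zc_le_centralizer le_centralizer_zc)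
open scoped Pointwise

universe u

variable {G : Type u} [Group G]

/-- `C_G(v i)` -/
abbrev CC (v : Fin 2 → G) (i : Fin 2) : Subgroup G := centralizer ({v i} : Set G)

/-- `O₂(C_G(v i))` -/
abbrev QQ (v : Fin 2 → G) (i : Fin 2) : Subgroup G := o2 (CC v i)

/-- `W i = ⟨U i ^ C_G(v i)⟩` -/
def WU (U : Fin 2 → Subgroup G) (v : Fin 2 → G) (i : Fin 2) : Subgroup G := NoFF.Basic.V (U i) (CC v i)

/-- `N i = ⟨U (i+1) ^ C_G(v i)⟩` -/
def NU (U : Fin 2 → Subgroup G) (v : Fin 2 → G) (i : Fin 2) : Subgroup G := NoFF.Basic.V (U (i + 1)) (CC v i)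

/-- `E i = ⟨Y ^ C_G(v i)⟩`, `Y = Ω₁Z(T)` -/
def EU (T : Subgroup G) (v : Fin 2 → G) (i : Fin 2) : Subgroup G := NoFF.Basic.V (zc T) (CC v i)

theorem ne_add_one (i : Fin 2) : i ≠ i + 1 := by revert i; decide

theorem eq_add_one {i j : Fin 2} (h : i ≠ j) : j = i + 1 := by revert i j; decide

theorem add_one_add_one (i : Fin 2) : i + 1 + 1 = i := by revert i; decide

theorem le_normalizer_V (Z P : Subgroup G) : P ≤ normalizer (NoFF.Basic.V Z P : Set G) := by
  intro p hp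
  have h1 : MulAut.conj p • NoFF.Basic.V Z P = NoFF.Basic.V Z P := by
    have := conj_V_mul (Z := Z) (P := P) (g := 1) hp
    rwa [one_mul, map_one, one_smul] at this
  exact ChoiceBase.mem_normalizer_iff_cj.2 h1

theorem le_V (Z P : Subgroup G) : Z ≤ NoFF.Basic.V Z P := by
  have := Z_le_V (Z := Z) (P := P) (one_mem P)
  rwa [map_one, one_smul] at this

namespace Sit

variable [Finite G] {S : Sylow 2 G} {P T : Subgroup G} {U : Fin 2 → Subgroup G} {v : Fin 2 → G}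
  (D : Sit S P T U v)

include D

/-! ### (3) -/

theorem conj_QQ {i : Fin 2} {c : G} (hc : c ∈ CC v i) : MulAut.conj c • QQ v i = QQ v i := D.conj_Q hc

theorem W_le_Q (i : Fin 2) : WU U v i ≤ QQ v i :=
  V_le fun _ hc => by
    rw [← D.conj_QQ hc]
    exact conj_le_iff.2 (D.U_le_Q i)

theorem N_le_Q (i : Fin 2) : NU U v i ≤ QQ v i :=
  V_le fun _ hc => by
    rw [← D.conj_QQ hc]
    exact conj_le_iff.2 (D.half i _ (ne_add_one i)).1

theorem N_le_cent_Q (i : Fin 2) : NU U v i ≤ centralizer (QQ v i : Set G) :=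
  V_le fun c hc => by
    have h1 := conj_le_centralizer (g := c) (comm_symm (D.half i _ (ne_add_one i)).2)
    rwa [D.conj_Q hc] at h1

/-- `N i ≤ Z(Q i)` -/
theorem Q_le_cent_N (i : Fin 2) : QQ v i ≤ centralizer (NU U v i : Set G) := comm_symm (D.N_le_cent_Q i)

theorem N_comm (i : Fin 2) : NU U v i ≤ centralizer (NU U v i : Set G) :=
  (D.N_le_Q i).trans (D.Q_le_cent_N i)

/-- `T` and its conjugates under `C_G(v i)` normalise the lines `U i ^ c` -/
theorem conj_T_le_N (i : Fin 2) (c : G) :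
    MulAut.conj c • T ≤ normalizer ((MulAut.conj c • U i : Subgroup G) : Set G) :=
  conj_le_normalizer (D.T_le_N i)

theorem W_comm (i : Fin 2) : WU U v i ≤ centralizer (WU U v i : Set G) := by
  have key : ∀ c ∈ CC v i, ∀ d ∈ CC v i, MulAut.conj c • U i ≤
      normalizer ((MulAut.conj d • U i : Subgroup G) : Set G) := by
    intro c hc d hd
    refine le_trans ?_ ((D.Q_le_conj_T hd).trans (D.conj_T_le_N i d))
    exact (conj_le_iff.2 (D.U_le_Q i)).trans (D.conj_Q hc).le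
  exact V_le fun c hc => comm_symm (V_le fun d hd => comm_symm (D.lift i i c d (key c hc d hd) (key d hd c hc)))

/-- **(3)** `W i N i` is abelian. -/
theorem WN_comm (i : Fin 2) : WU U v i ⊔ NU U v i ≤ centralizer ((WU U v i ⊔ NU U v i : Subgroup G) : Set G) := by
  have h1 : NU U v i ≤ centralizer (WU U v i : Set G) := comm_symm ((D.W_le_Q i).trans (D.Q_le_cent_N i))
  refine sup_le (comm_symm (sup_le (D.W_comm i) h1)) (comm_symm (sup_le (comm_symm h1) (D.N_comm i)))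

theorem U_sq (i : Fin 2) : ∀ x ∈ U i, x ^ 2 = 1 := fun _ hx => (amb D.hyp).sq _ (D.le i hx)

/-- **(3)** `W i N i` is elementary abelian. -/
theorem WN_sq (i : Fin 2) : ∀ x ∈ WU U v i ⊔ NU U v i, x ^ 2 = 1 := by
  refine NoFF.Lines.Geo.sq_of_comm (D.WN_comm i) (ι := Fin 2 × CC v i)
    (B := fun j => MulAut.conj (j.2 : G) • U j.1) (fun j => ?_) (sup_le ?_ ?_)
    fun j => NoFF.Lines.Geo.conj_sq (D.U_sq j.1) _
  · rcases eq_or_ne i j.1 with h | h
    · rw [← h]
      exact le_sup_of_le_left (Z_le_V j.2.2)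
    · rw [eq_add_one h]
      exact le_sup_of_le_right (Z_le_V j.2.2)
  · exact V_le fun c hc => le_iSup (fun j : Fin 2 × CC v i => MulAut.conj (j.2 : G) • U j.1) (i, ⟨c, hc⟩)
  · exact V_le fun c hc => le_iSup (fun j : Fin 2 × CC v i => MulAut.conj (j.2 : G) • U j.1) (i + 1, ⟨c, hc⟩)

theorem C_le_N_W (i : Fin 2) : CC v i ≤ normalizer (WU U v i : Set G) := le_normalizer_V _ _

theorem C_le_N_N (i : Fin 2) : CC v i ≤ normalizer (NU U v i : Set G) := le_normalizer_V _ _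

theorem C_le_N_E (i : Fin 2) : CC v i ≤ normalizer (EU T v i : Set G) := le_normalizer_V _ _

/-! ### The action of `S` -/

/-- `v j` is the only involution of `U j` centralised by `T` -/
theorem eq_v {j : Fin 2} {x : G} (hx : x ∈ U j) (hx1 : x ≠ 1) (hfix : ∀ t ∈ T, t * x * t⁻¹ = x) : x = v j := by
  have h1 : x ∈ zc T := by
    refine mem_zc.2 ⟨D.U_le_T j hx, fun t ht => ?_, D.U_sq j x hx⟩
    calc t * x = t * x * t⁻¹ * t := by group
      _ = x * t := by rw [hfix t ht]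
  have hne : ∀ i, i ≠ j → v i ∉ U j := by
    intro i hij h2
    have h3 : v i ∈ U i ⊓ U j := ⟨D.mem i, h2⟩
    rw [D.inf i j hij, mem_bot] at h3
    exact D.ne i h3
  rcases (D.zT x).1 h1 with h2 | h2 | h2 | h2
  · exact absurd h2 hx1
  · by_cases hj : (0 : Fin 2) = j
    · rw [h2, hj]
    · exact absurd (h2 ▸ hx) (hne 0 hj)
  · by_cases hj : (1 : Fin 2) = j
    · rw [h2, hj]
    · exact absurd (h2 ▸ hx) (hne 1 hj)
  · exfalso
    rcases eq_or_ne (0 : Fin 2) j with hj | hj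
    · refine hne 1 (by rw [← hj]; decide) ?_
      have h3 : (v 0)⁻¹ * x ∈ U j := mul_mem (inv_mem (hj ▸ D.mem 0)) hx
      rw [h2, inv_mul_cancel_left] at h3
      exact h3
    · have hj1 : (1 : Fin 2) = j := by
        have := eq_add_one hj
        rw [this]
        decide
      refine hne 0 hj ?_
      have h3 : x * (v 1)⁻¹ ∈ U j := mul_mem hx (inv_mem (hj1 ▸ D.mem 1))
      rw [h2, mul_inv_cancel_right] at h3
      exact h3

theorem S_le_N_T : (S : Subgroup G) ≤ normalizer (T : Set G) := by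
  intro s hs
  obtain ⟨σ, hσ⟩ := D.perm s (D.S_le_P hs)
  refine ChoiceBase.mem_normalizer_iff_cj.2 ?_
  change MulAut.conj s • T = T
  conv_lhs => rw [D.T_eq 0]
  rw [Subgroup.smul_inf, ← normalizer_conj, hσ 0, NoFF.Basic.conj_self hs, ← D.T_eq]

/-- `S` permutes the pairs `(U i, v i)` -/
theorem perm_v {s : G} (hs : s ∈ (S : Subgroup G)) :
    ∃ σ : Equiv.Perm (Fin 2), ∀ i, MulAut.conj s • U i = U (σ i) ∧ s * v i * s⁻¹ = v (σ i) := by
  obtain ⟨σ, hσ⟩ := D.perm s (D.S_le_P hs)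
  refine ⟨σ, fun i => ⟨hσ i, ?_⟩⟩
  refine D.eq_v ?_ (fun h => D.ne i (conj_eq_one_iff.1 h)) fun t ht => ?_
  · rw [← hσ i, mem_conj]
    have e : s⁻¹ * (s * v i * s⁻¹) * s = v i := by group
    rw [e]
    exact D.mem i
  · have h1 : s⁻¹ * t * s ∈ T := by
      have := (mem_normalizer_iff.1 (inv_mem (D.S_le_N_T hs)) t).1 ht
      rwa [inv_inv] at this
    have h2 := D.cen i _ h1
    calc t * (s * v i * s⁻¹) * t⁻¹ = s * ((s⁻¹ * t * s) * v i * (s⁻¹ * t * s)⁻¹) * s⁻¹ := by group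
      _ = s * v i * s⁻¹ := by rw [h2]

omit [Finite G] D in
theorem conj_centralizer_singleton {g x y : G} (h : g * x * g⁻¹ = y) :
    MulAut.conj g • centralizer ({x} : Set G) = centralizer ({y} : Set G) := by
  ext c
  rw [mem_conj, mem_centralizer_singleton_iff, mem_centralizer_singleton_iff, ← h]
  constructor
  · intro h1
    calc c * (g * x * g⁻¹) = g * (g⁻¹ * c * g * x) * g⁻¹ := by group
      _ = g * (x * (g⁻¹ * c * g)) * g⁻¹ := by rw [h1]
      _ = g * x * g⁻¹ * c := by group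
  · intro h1
    calc g⁻¹ * c * g * x = g⁻¹ * (c * (g * x * g⁻¹)) * g := by group
      _ = g⁻¹ * (g * x * g⁻¹ * c) * g := by rw [h1]
      _ = x * (g⁻¹ * c * g) := by group

theorem S_le_N_sup : (S : Subgroup G) ≤ normalizer ((CC v 0 ⊔ CC v 1 : Subgroup G) : Set G) := by
  intro s hs
  have key : ∀ s ∈ (S : Subgroup G), MulAut.conj s • (CC v 0 ⊔ CC v 1) ≤ CC v 0 ⊔ CC v 1 := by
    intro s hs
    obtain ⟨σ, hσ⟩ := D.perm_v hs
    have h1 : ∀ i, CC v i ≤ CC v 0 ⊔ CC v 1 := by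
      intro i
      rcases Fin.exists_fin_two.1 ⟨i, rfl⟩ with h | h
      · rw [h]; exact le_sup_left
      · rw [h]; exact le_sup_right
    rw [Subgroup.smul_sup]
    refine sup_le ?_ ?_
    · rw [conj_centralizer_singleton (hσ 0).2]
      exact h1 _
    · rw [conj_centralizer_singleton (hσ 1).2]
      exact h1 _
  rw [mem_normalizer_iff]
  intro x
  constructor
  · intro hx
    apply key s hs
    rw [mem_conj]
    have e : s⁻¹ * (s * x * s⁻¹) * s = x := by group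
    rwa [e]
  · intro hx
    apply key s⁻¹ (inv_mem hs)
    rw [mem_conj, inv_inv]
    exact hx

/-! ### (4) CUT -/

/-- `C_G(x)` for a nonfull involution `x` of `V` -/
theorem cent_le {K : Subgroup G} (hP : P ≤ K) (hC : ∀ i, CC v i ≤ K) (i : Fin 2) {x : G} (hx : x ∈ U i)
    (hx1 : x ≠ 1) : centralizer ({x} : Set G) ≤ K := by
  obtain ⟨l, hl, -, -, hlx⟩ := D.tr i (i + 1) (ne_add_one i) x hx hx1
  rw [← conj_centralizer_singleton hlx]
  intro c hc
  rw [mem_conj] at hc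
  have h1 := mul_mem (mul_mem (hP hl) (hC i hc)) (inv_mem (hP hl))
  have e : l * (l⁻¹ * c * l) * l⁻¹ = c := by group
  rwa [e] at h1

theorem P_le {K : Subgroup G} (hS : (S : Subgroup G) ≤ K) (hC : ∀ i, CC v i ≤ K) : P ≤ K := by
  refine D.gen K hS fun i => ?_
  refine inf_le_right.trans ((centralizer_le ?_).trans (hC i))
  exact Set.singleton_subset_iff.2 (D.mem i)

/-- **(4) CUT.** -/
theorem cut : NonLoc (CC v 0) (CC v 1) ∨
    (IsLoc (S : Subgroup G) (CC v 0 ⊔ CC v 1 ⊔ (S : Subgroup G)) ∧ P ≤ CC v 0 ⊔ CC v 1 ⊔ (S : Subgroup G) ∧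
      (∀ i, ∀ x ∈ U i, x ≠ 1 → centralizer ({x} : Set G) ≤ CC v 0 ⊔ CC v 1 ⊔ (S : Subgroup G)) ∧
      ¬ CZ (S : Subgroup G) ≤ CC v 0 ⊔ CC v 1 ⊔ (S : Subgroup G)) := by
  by_cases hloc : NonLoc (CC v 0) (CC v 1)
  · exact Or.inl hloc
  right
  have hC : ∀ i, CC v i ≤ CC v 0 ⊔ CC v 1 ⊔ (S : Subgroup G) := by
    intro i
    rcases Fin.exists_fin_two.1 ⟨i, rfl⟩ with h | h
    · rw [h]; exact le_sup_left.trans le_sup_left
    · rw [h]; exact le_sup_right.trans le_sup_left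
  have hP : P ≤ CC v 0 ⊔ CC v 1 ⊔ (S : Subgroup G) := D.P_le le_sup_right hC
  have hL : IsLoc (S : Subgroup G) (CC v 0 ⊔ CC v 1 ⊔ (S : Subgroup G)) := by
    unfold NonLoc at hloc
    push Not at hloc
    obtain ⟨R, hR2, h0, h1, hR1⟩ := hloc
    obtain ⟨r, hr, hr1, hrT⟩ := Half.exists_fixed hR2 hR1 D.T_isPGroup ((D.T_le_C 0).trans h0)
    have hH : CC v 0 ⊔ CC v 1 ≤ normalizer (R : Set G) := sup_le h0 h1
    have h2 : o2 (CC v 0 ⊔ CC v 1) ≠ ⊥ := by
      refine o2_ne_bot_of_le (U := R ⊓ (CC v 0 ⊔ CC v 1)) (hR2.to_le inf_le_left) ?_ inf_le_right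
        (NO3L.LemP.le_normalizer_inf hH le_normalizer)
      intro h3
      have h4 : r ∈ R ⊓ (CC v 0 ⊔ CC v 1) := by
        refine ⟨hr, mem_sup_left ?_⟩
        have h5 := hrT (v 0) (D.U_le_T 0 (D.mem 0))
        rw [mem_centralizer_singleton_iff]
        calc r * v 0 = v 0 * r * (v 0)⁻¹ * v 0 := by rw [h5]
          _ = v 0 * r := by group
      rw [h3, mem_bot] at h4
      exact hr1 h4
    refine isLoc_of_le_normalizer S le_sup_right (o2_isPGroup _) h2 (sup_le (le_normalizer_o2 _) ?_)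
    exact D.S_le_N_sup.trans (Cfsg.Agent.Omega.normalizer_le_normalizer_o2' _)
  refine ⟨hL, hP, fun i x hx hx1 => D.cent_le hP hC i hx hx1, fun h => hL.o2_ne ?_⟩
  exact D.hyp.nonLoc _ (o2_isPGroup _) (hP.trans (le_normalizer_o2 _)) (h.trans (le_normalizer_o2 _))

/-! ### LEMMA P -/

theorem v_mem_zc (i : Fin 2) : v i ∈ zc T := by
  rw [D.zT]
  rcases Fin.exists_fin_two.1 ⟨i, rfl⟩ with h | h
  · exact Or.inr (Or.inl (by rw [h]))
  · exact Or.inr (Or.inr (Or.inl (by rw [h])))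

theorem zc_le_Q (i : Fin 2) : zc T ≤ QQ v i := by
  have h : ∀ j, v j ∈ QQ v i := by
    intro j
    rcases eq_or_ne i j with h | h
    · rw [← h]; exact D.v_mem_Q i
    · exact (D.half i j h).1 (D.mem j)
  intro x hx
  rcases (D.zT x).1 hx with h1 | h1 | h1 | h1
  · rw [h1]; exact one_mem _
  · rw [h1]; exact h 0
  · rw [h1]; exact h 1
  · rw [h1]; exact mul_mem (h 0) (h 1)

theorem E_le_Q (i : Fin 2) : EU T v i ≤ QQ v i :=
  V_le fun _ hc => by
    rw [← D.conj_QQ hc]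
    exact conj_le_iff.2 (D.zc_le_Q i)

theorem cent_zc_le (i : Fin 2) : centralizer (zc T : Set G) ≤ CC v i :=
  centralizer_le (Set.singleton_subset_iff.2 (D.v_mem_zc i))

/-- **LEMMA P applies** to `(C_G(v 0), C_G(v 1); C_G(Y))`. -/
theorem data : NO3L.LemP.Data (zc T) (centralizer (zc T : Set G)) (o2 (centralizer (zc T : Set G))) (CC v)
    (EU T v) (QQ v) where
  cen := le_rfl
  CH := D.cent_zc_le
  ZU := fun _ => le_V _ _
  HU := D.C_le_N_E
  HR := fun _ => le_normalizer_o2 _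
  UR := D.E_le_Q
  RQ := fun i => MinSimple.Basic.o2_normal_le_o2 ((D.Q_le_T i).trans (le_centralizer_zc T)) (D.cent_zc_le i)
  QR := fun i => NO3L.LemP.o2_inf_centralizer_le ((centralizer_le (le_V _ _)).trans le_rfl) (D.cent_zc_le i)
    (D.C_le_N_E i)

/-- `U (i+1) ≤ E i` -/
theorem U_le_E (i : Fin 2) : U (i + 1) ≤ EU T v i := by
  intro x hx
  by_cases hx1 : x = 1
  · rw [hx1]; exact one_mem _
  obtain ⟨l, -, hlU, -, hlx⟩ := D.tr (i + 1) i (ne_add_one i).symm x hx hx1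
  have hl : l ∈ CC v i := (centralizer_le (Set.singleton_subset_iff.2 (D.mem i))) hlU
  apply Z_le_V hl
  rw [mem_conj, ← hlx]
  have e : l⁻¹ * (l * v (i + 1) * l⁻¹) * l = v (i + 1) := by group
  rw [e]
  exact D.v_mem_zc _

theorem N_le_E (i : Fin 2) : NU U v i ≤ EU T v i :=
  V_le fun c hc => by
    have h1 := conj_le_iff (g := c) |>.2 (D.U_le_E i)
    rwa [conj_eq_of_mem (D.C_le_N_E i hc)] at h1

/-- `E i = N i ⟨v i⟩` -/
theorem E_le (i : Fin 2) : EU T v i ≤ NU U v i ⊔ zpowers (v i) := by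
  have h0 : v (i + 1) ∈ NU U v i := le_V _ _ (D.mem _)
  have h1 : ∀ j, v j ∈ NU U v i ⊔ zpowers (v i) := by
    intro j
    rcases eq_or_ne i j with h | h
    · rw [← h]; exact mem_sup_right (mem_zpowers _)
    · rw [eq_add_one h]; exact mem_sup_left h0
  have h2 : zc T ≤ NU U v i ⊔ zpowers (v i) := by
    intro x hx
    rcases (D.zT x).1 hx with h1' | h1' | h1' | h1'
    · rw [h1']; exact one_mem _
    · rw [h1']; exact h1 0
    · rw [h1']; exact h1 1
    · rw [h1']; exact mul_mem (h1 0) (h1 1)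
  refine V_le fun c hc => ?_
  have h3 : c ∈ normalizer ((NU U v i ⊔ zpowers (v i) : Subgroup G) : Set G) := by
    refine ChoiceBase.mem_normalizer_iff_cj.2 ?_
    change MulAut.conj c • (NU U v i ⊔ zpowers (v i)) = _
    rw [Subgroup.smul_sup, conj_eq_of_mem (D.C_le_N_N i hc)]
    congr 1
    have h4 : c ∈ centralizer (zpowers (v i) : Set G) := by
      rw [mem_centralizer_iff]
      rintro _ ⟨n, rfl⟩
      have h5 : Commute c (v i) := mem_centralizer_singleton_iff.1 hc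
      exact (h5.zpow_right n).eq.symm
    exact conj_eq_of_mem (centralizer_le_normalizer _ h4)
  have h4 := conj_le_iff (g := c) |>.2 h2
  rwa [conj_eq_of_mem h3] at h4

theorem E_comm (i : Fin 2) : EU T v i ≤ centralizer (EU T v i : Set G) := by
  have h1 : EU T v i ≤ WU U v i ⊔ NU U v i := by
    refine (D.E_le i).trans (sup_le le_sup_right ?_)
    rw [zpowers_le]
    exact mem_sup_left (le_V _ _ (D.mem i))
  exact comm_mono (D.WN_comm i) h1 h1

theorem E_sq (i : Fin 2) : ∀ x ∈ EU T v i, x ^ 2 = 1 := by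
  intro x hx
  refine D.WN_sq i x ?_
  refine ((D.E_le i).trans (sup_le le_sup_right ?_)) hx
  rw [zpowers_le]
  exact mem_sup_left (le_V _ _ (D.mem i))

/-- LEMMA P for `E 0`, `E 1` -/
theorem exists_crit (hII : NonLoc (CC v 0) (CC v 1)) :
    ∃ n, NO3L.LemP.Comm (CC v) (EU T v) (n + 1) ∧
      (∀ m ≤ n, ∀ a c : Fin 2 × G, NO3L.LemP.Near (CC v) m a c →
        NO3L.LemP.vx (EU T v) a ≤ NO3L.LemP.vx (QQ v) c) ∧
      ∃ (i j k l : Fin 2) (g : G), NO3L.LemP.Crit (o2 (centralizer (zc T : Set G))) (CC v) (EU T v) (QQ v) i j k l g ∧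
        NO3L.LemP.Near (CC v) (n + 1) (i, g) (j, 1) := by
  refine D.data.exists_crit D.E_comm fun hcon => ?_
  have hle : ∀ i, CC v i ≤ (⨆ i, CC v i : Subgroup G) := fun i => le_iSup (CC v) i
  have h1 := hII (clo (⨆ i, CC v i) (EU T v)) (fun a => ⟨1, ?_⟩) ((hle 0).trans (le_normalizer_clo _ _))
    ((hle 1).trans (le_normalizer_clo _ _))
  · have h2 : v 0 ∈ clo (⨆ i, CC v i) (EU T v) := le_clo' 0 (le_V _ _ (D.v_mem_zc 0))
    rw [h1, mem_bot] at h2
    exact D.ne 0 h2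
  · exact Subtype.ext (clo_isPGroup D.E_sq (clo_comm hcon) a a.2)

/-- **LEMMA P in case (II)**: a noncommuting pair `(N_i^g, N_j)` inside `O₂` of the neighbours; the pair is at least
distance, `N_i^g ≤ O₂(C_G(v (j+1)))` lies in all conjugates of `T` under `C_G(v (j+1))` (so it normalises every line
`U a ^ c`, `c ∈ C_G(v (j+1))`), and symmetrically. -/
theorem crit (hII : NonLoc (CC v 0) (CC v 1)) :
    ∃ n, NO3L.LemP.Comm (CC v) (EU T v) (n + 1) ∧
      (∀ m ≤ n, ∀ a c : Fin 2 × G, NO3L.LemP.Near (CC v) m a c →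
        NO3L.LemP.vx (EU T v) a ≤ NO3L.LemP.vx (QQ v) c) ∧
      ∃ (i j : Fin 2) (g : G), g ∈ (⨆ i, CC v i : Subgroup G) ∧ NO3L.LemP.Near (CC v) (n + 1) (i, g) (j, 1) ∧
        MulAut.conj g • EU T v i ≤ QQ v (j + 1) ∧ EU T v j ≤ MulAut.conj g • QQ v (i + 1) ∧
        ¬ MulAut.conj g • NU U v i ≤ centralizer (NU U v j : Set G) := by
  obtain ⟨n, h1, h2, i, j, k, l, g, h3, h4⟩ := D.exists_crit hII
  have hk : k = j + 1 := eq_add_one h3.kj.symm
  have hl : l = i + 1 := eq_add_one h3.li.symm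
  subst hk hl
  refine ⟨n, h1, h2, i, j, g, h3.mem, h4, h3.le, h3.ge, fun hcomm => h3.ne ?_⟩
  have hE1 : MulAut.conj g • EU T v i ≤ CC v j := h3.le.trans ((D.Q_le_T _).trans (D.T_le_C j))
  have hE2 : EU T v j ≤ MulAut.conj g • CC v i := h3.ge.trans (conj_le_iff.2 ((D.Q_le_T _).trans (D.T_le_C i)))
  have hz : ∀ a : Fin 2, CC v a ≤ centralizer (zpowers (v a) : Set G) := by
    intro a c hc
    rw [mem_centralizer_iff]
    rintro _ ⟨n, rfl⟩
    have h5 : Commute c (v a) := mem_centralizer_singleton_iff.1 hc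
    exact (h5.zpow_right n).eq.symm
  -- `E_i^g = N_i^g ⟨v_i^g⟩`
  have hEg : MulAut.conj g • EU T v i ≤ MulAut.conj g • NU U v i ⊔ MulAut.conj g • zpowers (v i) := by
    rw [← Subgroup.smul_sup]
    exact conj_le_iff.2 (D.E_le i)
  have hNj : NU U v j ≤ EU T v j := D.N_le_E j
  have hz1 : MulAut.conj g • zpowers (v i) ≤ centralizer (EU T v j : Set G) := by
    refine comm_symm (hE2.trans ?_)
    exact conj_le_centralizer (hz i)
  have h5 : MulAut.conj g • EU T v i ≤ centralizer (NU U v j : Set G) :=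
    hEg.trans (sup_le hcomm (hz1.trans (centralizer_le hNj)))
  refine comm_symm ((D.E_le j).trans (sup_le (comm_symm h5) ?_))
  exact comm_symm (hE1.trans (hz j))

end Sit

end Cfsg.Agent.Omega.OM.KTwo
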