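import Cfsg.Agent.Omega.BTwo.Avg
import Cfsg.Agent.Omega.IId.Big.RedTool
import Cfsg.Agent.Omega.OM.KTwo.StepF

/-!
# LEMMA X (helper918 #19487, section 1), by averaging

* `LemX.comm` (abstract): `R` normalises `Y`, `Y / D` elementary abelian, `[e, R] ≤ Y`, `[e, P] ≤ D` for a subgroup `P`
  of odd index of `R`; `H` normalises `R`, `Y`, `D`, `[e, H] ≤ D`; `C_{Y/D}(R) = C_{Y/D}(H) = 1`. Then `[e, R] ≤ D`;
* `Sit.R_le_normalizer_U` : in the situation of NO-3S, `k = 2`, `q = 2`: a normal subgroup `R` of `C_G(v i)` with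
  `[U i, R] ≤ N i ⟨v i⟩` and `C_{N~}(R) = 1` normalises `U i`, if `C_{N~}(T) ≤ ⟨v~_j⟩`, `N~ = N i ⟨v i⟩ / ⟨v i⟩`;
* `Sit.lemX` : so `C_G(v i) = C_{C_G(v i)}(N i) R` is impossible in case (II).
-/

set_option autoImplicit false
set_option linter.unusedSectionVars false

namespace Cfsg.Agent.Omega.OM.KTwo

open Subgroup Cfsg Cfsg.Agent.ZN

universe u

variable {G : Type u} [Group G]

namespace LemX

/-- the elements of `N(D)` commuting with `R` modulo `D` -/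
def cn (R D : Subgroup G) : Subgroup G where
  carrier := {x | (∀ d ∈ D, x * d * x⁻¹ ∈ D) ∧ (∀ d ∈ D, x⁻¹ * d * x ∈ D) ∧ ∀ r ∈ R, x⁻¹ * r * x * r⁻¹ ∈ D}
  one_mem' := ⟨fun d hd => by simpa using hd, fun d hd => by simpa using hd, fun r _ => by simp⟩
  mul_mem' := by
    rintro x y ⟨hx1, hx2, hx3⟩ ⟨hy1, hy2, hy3⟩
    refine ⟨fun d hd => ?_, fun d hd => ?_, fun r hr => ?_⟩
    · have := hx1 _ (hy1 d hd)
      have e : x * y * d * (x * y)⁻¹ = x * (y * d * y⁻¹) * x⁻¹ := by group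
      rwa [e]
    · have := hy2 _ (hx2 d hd)
      have e : (x * y)⁻¹ * d * (x * y) = y⁻¹ * (x⁻¹ * d * x) * y := by group
      rwa [e]
    · have h1 := mul_mem (hy2 _ (hx3 r hr)) (hy3 r hr)
      have e : (x * y)⁻¹ * r * (x * y) * r⁻¹ = y⁻¹ * (x⁻¹ * r * x * r⁻¹) * y * (y⁻¹ * r * y * r⁻¹) := by group
      rwa [e]
  inv_mem' := by
    rintro x ⟨hx1, hx2, hx3⟩
    refine ⟨fun d hd => by simpa using hx2 d hd, fun d hd => by simpa using hx1 d hd, fun r hr => ?_⟩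
    have h1 := inv_mem (hx1 _ (hx3 r hr))
    have e2 : x⁻¹⁻¹ * r * x⁻¹ * r⁻¹ = (x * (x⁻¹ * r * x * r⁻¹) * x⁻¹)⁻¹ := by group
    rw [e2]
    exact h1

theorem mem_cn {R D : Subgroup G} {x : G} : x ∈ cn R D ↔
    (∀ d ∈ D, x * d * x⁻¹ ∈ D) ∧ (∀ d ∈ D, x⁻¹ * d * x ∈ D) ∧ ∀ r ∈ R, x⁻¹ * r * x * r⁻¹ ∈ D := Iff.rfl

theorem conj_mem {K A : Subgroup G} (h : K ≤ normalizer (A : Set G)) {k a : G} (hk : k ∈ K) (ha : a ∈ A) :
    k * a * k⁻¹ ∈ A := (mem_normalizer_iff.1 (h hk) a).1 ha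

theorem conj_mem' {K A : Subgroup G} (h : K ≤ normalizer (A : Set G)) {k a : G} (hk : k ∈ K) (ha : a ∈ A) :
    k⁻¹ * a * k ∈ A := by
  have := conj_mem h (inv_mem hk) ha
  rwa [inv_inv] at this

/-- conjugation by elements of `N(R) ∩ N(D)` preserves `cn R D` -/
theorem conj_cn {H R D : Subgroup G} (hHR : H ≤ normalizer (R : Set G)) (hHD : H ≤ normalizer (D : Set G)) {h x : G}
    (hh : h ∈ H) (hx : x ∈ cn R D) : h * x * h⁻¹ ∈ cn R D := by
  obtain ⟨hx1, hx2, hx3⟩ := hx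
  refine ⟨fun d hd => ?_, fun d hd => ?_, fun r hr => ?_⟩
  · have h1 := conj_mem hHD hh (hx1 _ (conj_mem' hHD hh hd))
    have e : h * x * h⁻¹ * d * (h * x * h⁻¹)⁻¹ = h * (x * (h⁻¹ * d * h) * x⁻¹) * h⁻¹ := by group
    rwa [e]
  · have h1 := conj_mem hHD hh (hx2 _ (conj_mem' hHD hh hd))
    have e : (h * x * h⁻¹)⁻¹ * d * (h * x * h⁻¹) = h * (x⁻¹ * (h⁻¹ * d * h) * x) * h⁻¹ := by group
    rwa [e]
  · have h1 := conj_mem hHD hh (hx3 _ (conj_mem' hHR hh hr))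
    have e : (h * x * h⁻¹)⁻¹ * r * (h * x * h⁻¹) * r⁻¹ = h * (x⁻¹ * (h⁻¹ * r * h) * x * (h⁻¹ * r * h)⁻¹) * h⁻¹ := by
      group
    rwa [e]

/-- **LEMMA X, abstract form.** -/
theorem comm [Finite G] {R P H Y D : Subgroup G} {e : G} (hPR : P ≤ R) (hodd : Odd (P.relIndex R)) (hDY : D ≤ Y)
    (hRY : R ≤ normalizer (Y : Set G)) (hRD : R ≤ normalizer (D : Set G)) (hYD : Y ≤ normalizer (D : Set G))
    (hY2 : ∀ y ∈ Y, y * y ∈ D) (heD : e ∈ normalizer (D : Set G))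
    (hRe : ∀ r ∈ R, e⁻¹ * r * e * r⁻¹ ∈ Y) (hPe : ∀ p ∈ P, e⁻¹ * p * e * p⁻¹ ∈ D)
    (hHR : H ≤ normalizer (R : Set G)) (hHY : H ≤ normalizer (Y : Set G)) (hHD : H ≤ normalizer (D : Set G))
    (hHe : ∀ h ∈ H, e⁻¹ * h * e * h⁻¹ ∈ D)
    (hR0 : ∀ y ∈ Y, (∀ r ∈ R, y⁻¹ * r * y * r⁻¹ ∈ D) → y ∈ D)
    (hH0 : ∀ y ∈ Y, (∀ h ∈ H, y⁻¹ * h * y * h⁻¹ ∈ D) → y ∈ D) :
    ∀ r ∈ R, e⁻¹ * r * e * r⁻¹ ∈ D := by
  obtain ⟨y, hy, hyR⟩ := Cfsg.Agent.Omega.BTwo.Avg.avg hPR hodd hDY (fun x hx y hy => conj_mem hRY hx hy)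
    (fun x hx y hy => conj_mem hRD hx hy) (fun x hx y hy => conj_mem hYD hx hy) hY2 hRe hPe
  have hDcn : D ≤ cn R D := by
    intro d hd
    refine ⟨fun x hx => mul_mem (mul_mem hd hx) (inv_mem hd), fun x hx => mul_mem (mul_mem (inv_mem hd) hx) hd,
      fun r hr => ?_⟩
    have h1 := mul_mem (inv_mem hd) (conj_mem hRD hr hd)
    have e1 : d⁻¹ * r * d * r⁻¹ = d⁻¹ * (r * d * r⁻¹) := by group
    rwa [e1]
  have hey : e * y ∈ normalizer (D : Set G) := mul_mem heD (hYD hy)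
  have hc : e * y ∈ cn R D :=
    ⟨fun d hd => (mem_normalizer_iff.1 hey d).1 hd, fun d hd => (mem_normalizer_iff''.1 hey d).1 hd, hyR⟩
  have hyD : y ∈ D := by
    refine hH0 y hy fun h hh => ?_
    -- `h (e y) h⁻¹ = e d (h y h⁻¹)`
    have h1 := conj_cn hHR hHD hh hc
    have h2 := mul_mem (inv_mem hc) h1
    obtain ⟨d, hd, hde⟩ : ∃ d ∈ D, h * e * h⁻¹ = e * d := by
      refine ⟨e⁻¹ * h * e * h⁻¹, hHe h hh, by group⟩
    have hyh : h * y * h⁻¹ ∈ Y := conj_mem hHY hh hy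
    have e1 : (e * y)⁻¹ * (h * (e * y) * h⁻¹) = (y⁻¹ * d * y) * (y⁻¹ * (h * y * h⁻¹)) := by
      calc (e * y)⁻¹ * (h * (e * y) * h⁻¹) = y⁻¹ * e⁻¹ * (h * e * h⁻¹) * (h * y * h⁻¹) := by group
        _ = y⁻¹ * e⁻¹ * (e * d) * (h * y * h⁻¹) := by rw [hde]
        _ = (y⁻¹ * d * y) * (y⁻¹ * (h * y * h⁻¹)) := by group
    have h3 : y⁻¹ * d * y ∈ D := (mem_normalizer_iff''.1 (hYD hy) d).1 hd
    have h4 : y⁻¹ * (h * y * h⁻¹) ∈ cn R D := by
      rw [e1] at h2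
      have := mul_mem (inv_mem (hDcn h3)) h2
      rwa [inv_mul_cancel_left] at this
    have h5 : y⁻¹ * (h * y * h⁻¹) ∈ D := hR0 _ (mul_mem (inv_mem hy) hyh) h4.2.2
    have e2 : y⁻¹ * h * y * h⁻¹ = y⁻¹ * (h * y * h⁻¹) := by group
    rwa [e2]
  have he : e ∈ cn R D := by
    have := mul_mem hc (inv_mem (hDcn hyD))
    rwa [mul_inv_cancel_right] at this
  exact he.2.2

end LemX

namespace Sit

open Cfsg.Agent.Omega.NO3S Cfsg.Agent.Omega.FrameNOFF Cfsg.Agent.Omega.MinPar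
open Cfsg.Agent.ZN.ChoiceSit (Syl)
open Cfsg.Agent.MinSimple.VModule (mem_zc)
open Cfsg.Agent.Omega.NoFF.Basic (mem_conj)
open scoped Pointwise

variable [Finite G] {S : Sylow 2 G} {P T : Subgroup G} {U : Fin 2 → Subgroup G} {v : Fin 2 → G}
  (D : Sit S P T U v)

include D

theorem sq_U {i : Fin 2} {x : G} (hx : x ∈ U i) : x * x = 1 := by
  have := D.U_sq i x hx
  rwa [pow_two] at this

/-- elements of `C_G(v i) ∩ N(U i)` act trivially on `U i / ⟨v i⟩` -/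
theorem comm_U {i : Fin 2} {h e : G} (hv : h * v i * h⁻¹ = v i) (hU : h ∈ normalizer (U i : Set G)) (he : e ∈ U i) :
    e⁻¹ * h * e * h⁻¹ ∈ zpowers (v i) := by
  -- the four elements of `U i`
  have he' : h * e * h⁻¹ ∈ U i := (mem_normalizer_iff.1 hU e).1 he
  have h0 : e⁻¹ * (h * e * h⁻¹) ∈ U i := mul_mem (inv_mem he) he'
  have e0 : e⁻¹ * h * e * h⁻¹ = e⁻¹ * (h * e * h⁻¹) := by group
  rw [e0]
  by_cases h1 : e ∈ zpowers (v i)
  · obtain ⟨n, rfl⟩ := mem_zpowers_iff.1 h1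
    have : h * v i ^ n * h⁻¹ = v i ^ n := by rw [← conj_zpow, hv]
    rw [this, inv_mul_cancel]
    exact one_mem _
  -- `U i / ⟨v i⟩` has order two
  have hidx : (zpowers (v i)).relIndex (U i) = 2 := by
    have h2 := Lib.SylowNormalInf.card_mul_relIndex (zpowers (v i)) (U i) (zpowers_le.2 (D.mem i))
    rw [D.four i, Nat.card_zpowers] at h2
    have h3 : orderOf (v i) = 2 := by
      rw [orderOf_eq_prime (by rw [pow_two]; exact D.sq_U (D.mem i)) (D.ne i)]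
    rw [h3] at h2
    omega
  have h5 : h * e * h⁻¹ ∉ zpowers (v i) := by
    intro h6
    apply h1
    obtain ⟨n, hn⟩ := mem_zpowers_iff.1 h6
    have : e = h⁻¹ * (v i) ^ n * h := by rw [hn]; group
    rw [this]
    have e3 : h⁻¹ * v i ^ n * h = v i ^ n := by
      have : h * v i ^ n * h⁻¹ = v i ^ n := by rw [← conj_zpow, hv]
      calc h⁻¹ * v i ^ n * h = h⁻¹ * (h * v i ^ n * h⁻¹) * h := by rw [this]
        _ = v i ^ n := by group
    rw [e3]
    exact zpow_mem (mem_zpowers _) n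
  have hm : ∀ {a b : G}, a ∈ U i → b ∈ U i → a ∉ zpowers (v i) → b ∉ zpowers (v i) → a * b ∈ zpowers (v i) := by
    intro a b ha hb ha' hb'
    have h8 : (⟨a, ha⟩ : U i) * ⟨b, hb⟩ ∈ (zpowers (v i)).subgroupOf (U i) := by
      rw [mul_mem_iff_of_index_two hidx]
      exact ⟨fun h2 => absurd h2 ha', fun h2 => absurd h2 hb'⟩
    exact h8
  exact hm (inv_mem he) he' (fun h => h1 (by simpa using inv_mem h)) h5

/-- **LEMMA X (918 #19487).** -/
theorem R_le_normalizer_U {i : Fin 2} {R : Subgroup G} (hRC : R ≤ CC v i) (hCR : CC v i ≤ normalizer (R : Set G))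
    (hUR : ∀ r ∈ R, ∀ u ∈ U i, u⁻¹ * r * u * r⁻¹ ∈ EU T v i)
    (hT : ∀ n ∈ EU T v i, (∀ t ∈ T, n⁻¹ * t * n * t⁻¹ ∈ zpowers (v i)) → n ∈ zc T)
    (hR : ∀ n ∈ EU T v i, (∀ r ∈ R, n⁻¹ * r * n * r⁻¹ ∈ zpowers (v i)) → n ∈ zpowers (v i)) :
    R ≤ normalizer (U i : Set G) := by
  have hij := ne_add_one i
  have hcv : ∀ c ∈ CC v i, c * v i * c⁻¹ = v i := by
    intro c hc
    have h : c * v i = v i * c := mem_centralizer_singleton_iff.1 hc
    calc c * v i * c⁻¹ = v i * c * c⁻¹ := by rw [h]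
      _ = v i := by group
  have hCZ : CC v i ≤ normalizer (zpowers (v i) : Set G) := by
    intro c hc
    have h : c * v i = v i * c := mem_centralizer_singleton_iff.1 hc
    apply centralizer_le_normalizer
    rw [mem_centralizer_iff]
    rintro _ ⟨n, rfl⟩
    exact ((show Commute c (v i) from h).zpow_right n).eq.symm
  have hzE : zc T ≤ EU T v i := le_V _ _
  have hvE : zpowers (v i) ≤ EU T v i := zpowers_le.2 (hzE (D.v_mem_zc i))
  have hEC : EU T v i ≤ CC v i := ((D.E_le_Q i).trans (D.Q_le_T i)).trans (D.T_le_C i)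
  have hUE : U (i + 1) ≤ EU T v i := D.U_le_E i
  -- `M` : the elements of `P` centralising `U i`
  set M := P ⊓ centralizer (U i : Set G) with hM
  have hMC : M ≤ CC v i := inf_le_right.trans (centralizer_le (Set.singleton_subset_iff.2 (D.mem i)))
  set H := T ⊔ M with hH
  have hHC : H ≤ CC v i := sup_le (D.T_le_C i) hMC
  have hHU : H ≤ normalizer (U i : Set G) := sup_le (D.T_le_N i) (inf_le_right.trans (centralizer_le_normalizer _))
  have hodd : Odd ((R ⊓ T).relIndex R) := by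
    rw [← Nat.not_even_iff_odd, even_iff_two_dvd]
    exact IId.Big.Red.odd_inf (D.T_le_C i) hRC ((D.T_le_C i).trans hCR) (ZN.ChoiceSit.syl_not_dvd (D.syl i))
  have hEsq : ∀ y ∈ EU T v i, y * y = 1 := by
    intro y hy
    have h1 := D.WN_sq i y ((D.E_le i).trans (sup_le le_sup_right
      (zpowers_le.2 (mem_sup_left (le_V _ _ (D.mem i))))) hy)
    rwa [pow_two] at h1
  have key : ∀ e ∈ U i, ∀ r ∈ R, e⁻¹ * r * e * r⁻¹ ∈ zpowers (v i) := by
    intro e he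
    have heC : e ∈ CC v i := (D.T_le_C i) (by
      have h1 : U i ≤ T := by
        have h2 := (le_V (U i) (CC v i) : U i ≤ WU U v i)
        exact h2.trans ((D.W_le_Q i).trans (D.Q_le_T i))
      exact h1 he)
    refine LemX.comm (P := R ⊓ T) (H := H) (Y := EU T v i) inf_le_left hodd hvE (hRC.trans (D.C_le_N_E i))
      (hRC.trans hCZ) (hEC.trans hCZ) (fun y hy => by rw [hEsq y hy]; exact one_mem _) (hCZ heC)
      (fun r hr => hUR r hr e he) (fun p hp => ?_) (hHC.trans hCR) (hHC.trans (D.C_le_N_E i)) (hHC.trans hCZ)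
      (fun h hh => ?_) hR ?_
    · exact D.comm_U (hcv p (hRC hp.1)) (D.T_le_N i hp.2) he
    · exact D.comm_U (hcv h (hHC hh)) (hHU hh) he
    · intro y hy hyH
      have h1 := hT y hy fun t ht => hyH t (mem_sup_left ht)
      by_contra hyv
      -- `y = v_j` or `v_i v_j`
      have h2 : ∃ d ∈ zpowers (v i), y = v (i + 1) * d := by
        have hc : v 0 * v 1 = v 1 * v 0 := by
          have := (mem_zc.1 ((D.zT (v 1)).2 (Or.inr (Or.inr (Or.inl rfl))))).2.1 (v 0)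
            ((mem_zc.1 ((D.zT (v 0)).2 (Or.inr (Or.inl rfl)))).1)
          exact this
        rcases (D.zT y).1 h1 with h | h | h | h
        · exact absurd (h ▸ one_mem _) hyv
        · rcases Fin.exists_fin_two.1 ⟨i, rfl⟩ with hi | hi
          · rw [hi, h] at hyv; exact absurd (mem_zpowers _) hyv
          · exact ⟨1, one_mem _, by rw [h, hi]; simp⟩
        · rcases Fin.exists_fin_two.1 ⟨i, rfl⟩ with hi | hi
          · exact ⟨1, one_mem _, by rw [h, hi]; simp⟩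
          · rw [hi, h] at hyv; exact absurd (mem_zpowers _) hyv
        · rcases Fin.exists_fin_two.1 ⟨i, rfl⟩ with hi | hi
          · exact ⟨v 0, by rw [hi]; exact mem_zpowers _, by rw [h, hi, hc]; rfl⟩
          · exact ⟨v 1, by rw [hi]; exact mem_zpowers _, by rw [h, hi]; rfl⟩
      obtain ⟨d, hd, hyd⟩ := h2
      -- an element of `M` moving `v_j`
      obtain ⟨w, hw, hw1, hwv⟩ : ∃ w ∈ U (i + 1), w ≠ 1 ∧ w ≠ v (i + 1) := by
        by_contra hcon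
        push Not at hcon
        have h3 : (U (i + 1) : Set G) ⊆ {1, v (i + 1)} := by
          intro w hw
          by_cases h1 : w = 1
          · exact Or.inl h1
          · exact Or.inr (hcon w hw h1)
        have h4 := Set.ncard_le_ncard h3 (Set.toFinite _)
        have h5 : (U (i + 1) : Set G).ncard = 4 := by rw [← D.four (i + 1)]; rfl
        have h6 : ({1, v (i + 1)} : Set G).ncard = 2 := Set.ncard_pair (Ne.symm (D.ne _))
        omega
      obtain ⟨m, hmP, hmC, -, hmw⟩ := D.tr (i + 1) i hij.symm w hw hw1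
      have hmM : m ∈ M := ⟨hmP, hmC⟩
      have h3 := hyH m (mem_sup_right hmM)
      have hmd : m * d * m⁻¹ = d := by
        obtain ⟨n, rfl⟩ := mem_zpowers_iff.1 hd
        rw [← conj_zpow, hcv m (hMC hmM)]
      have h4 : y⁻¹ * m * y * m⁻¹ = d⁻¹ * ((v (i + 1))⁻¹ * w) * d := by
        calc y⁻¹ * m * y * m⁻¹ = (v (i + 1) * d)⁻¹ * (m * v (i + 1) * m⁻¹) * (m * d * m⁻¹) := by rw [hyd]; group
          _ = d⁻¹ * ((v (i + 1))⁻¹ * w) * d := by rw [hmw, hmd]; group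
      rw [h4] at h3
      have h5 : (v (i + 1))⁻¹ * w ∈ zpowers (v i) := by
        have := mul_mem (mul_mem hd h3) (inv_mem hd)
        have e5 : d * (d⁻¹ * ((v (i + 1))⁻¹ * w) * d) * d⁻¹ = (v (i + 1))⁻¹ * w := by group
        rwa [e5] at this
      have h6 : (v (i + 1))⁻¹ * w ∈ U i ⊓ U (i + 1) :=
        ⟨(zpowers_le.2 (D.mem i)) h5, (U (i + 1)).mul_mem ((U (i + 1)).inv_mem (D.mem _)) hw⟩
      rw [D.inf i (i + 1) hij, mem_bot] at h6
      exact hwv (inv_mul_eq_one.1 h6).symm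
  -- conclusion
  intro r hr
  have hle : ∀ r ∈ R, ∀ e ∈ U i, r * e * r⁻¹ ∈ U i := by
    intro r hr e he
    have h1 := key e he r hr
    have h2 := mul_mem he ((zpowers_le.2 (D.mem i)) h1)
    have e2 : e * (e⁻¹ * r * e * r⁻¹) = r * e * r⁻¹ := by group
    rwa [e2] at h2
  rw [mem_normalizer_iff]
  intro x
  refine ⟨fun hx => hle r hr x hx, fun hx => ?_⟩
  have h2 := hle r⁻¹ (inv_mem hr) _ hx
  have e : r⁻¹ * (r * x * r⁻¹) * r⁻¹⁻¹ = x := by group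
  rwa [e] at h2

/-- **LEMMA X** : `C_G(v i) = C_{C_G(v i)}(N i) R` is impossible. -/
theorem lemX (hII : NonLoc (CC v 0) (CC v 1)) {i : Fin 2}
    (hmax : CC v (i + 1) ≤ centralizer (zc T : Set G) ⊔ (P ⊓ centralizer (U (i + 1) : Set G)))
    {R : Subgroup G} (hRC : R ≤ CC v i) (hCR : CC v i ≤ normalizer (R : Set G))
    (hUR : ∀ r ∈ R, ∀ u ∈ U i, u⁻¹ * r * u * r⁻¹ ∈ EU T v i)
    (hT : ∀ n ∈ EU T v i, (∀ t ∈ T, n⁻¹ * t * n * t⁻¹ ∈ zpowers (v i)) → n ∈ zc T)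
    (hR : ∀ n ∈ EU T v i, (∀ r ∈ R, n⁻¹ * r * n * r⁻¹ ∈ zpowers (v i)) → n ∈ zpowers (v i)) :
    ¬ CC v i ≤ FF U v i ⊔ R := fun h =>
  D.step_f hII i hmax (h.trans (sup_le_sup_left (le_inf hRC (D.R_le_normalizer_U hRC hCR hUR hT hR)) _))

end Sit

end Cfsg.Agent.Omega.OM.KTwo
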