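import Cfsg.Agent.Omega.OM.KTwo.Sit
import Cfsg.Agent.Omega.NOThreeL.Pair

/-!
# NO-3S, `k = 2`, `q = 2`: (2), (3) of helper790 #14826

`D : Sit S P T U v`, `C i = C_G(v i)`, `Q i = O₂(C i)`.

* `le_o2_of_commutator` : a subgroup of `C` acting trivially on `O₂(C) / Z₀` and on `Z₀` lies in `O₂(C)`;
* `Sit.U_le_Q` : `U i ≤ Q i`;
* `Sit.lift` : two conjugates of the `U i` which normalise each other commute;
* `W D i = ⟨U i ^ C i⟩ ≤ Q i`, `N D i = ⟨U j ^ C i⟩ ≤ Z(Q i)`; `Sit.WN_comm`, `Sit.WN_sq` : `W i N i` is elementary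
  abelian.
-/

set_option autoImplicit false
set_option linter.unusedSectionVars false

namespace Cfsg.Agent.Omega.OM.KTwo

open Subgroup Cfsg Cfsg.Agent.ZN Cfsg.Agent.Omega.MinPar
open Cfsg.Agent.Omega.NO3S Cfsg.Agent.Omega.FrameNOFF
open Cfsg.Agent.Omega.NoFF.Basic (conj_conj mem_conj conj_le_iff conj_le_centralizer comm_symm comm_mono)
open Cfsg.Agent.Omega.NOThreeL.Pair (conj_eq_of_mem conj_le_normalizer)
open Cfsg.Agent.ZN.ChoiceSit (Syl exists_syl syl_conj o2_le_syl)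
open Cfsg.Agent.MinSimple.VModule (mem_zc zc_le normalizer_le_normalizer_zc zc_le_zl le_normalizer_zl zl_le
  le_normalizer_o2 le_o2 o2_le o2_isPGroup)
open scoped Pointwise

universe u

variable {G : Type u} [Group G]

/-! ### Stability -/

/-- `A ≤ C` acts trivially on `O₂(C) / Z₀`, `Z₀` central in `C` of exponent 2, `C_C(O₂(C)) ≤ O₂(C)`: `A ≤ O₂(C)`. -/
theorem le_o2_of_commutator {C A Z₀ : Subgroup G} (hC : C ⊓ centralizer (o2 C : Set G) ≤ o2 C)
    (hZc : ∀ c ∈ C, ∀ z ∈ Z₀, c * z = z * c) (hsq : ∀ z ∈ Z₀, z * z = 1)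
    (hAC : A ≤ C) (hA : ∀ a ∈ A, ∀ q ∈ o2 C, a * q * a⁻¹ * q⁻¹ ∈ Z₀) : A ≤ o2 C := by
  have hq : ∀ c ∈ C, ∀ q ∈ o2 C, c * q * c⁻¹ ∈ o2 C := fun c hc q hq =>
    (mem_normalizer_iff.1 (le_normalizer_o2 C hc) q).1 hq
  have hqi : ∀ c ∈ C, ∀ q ∈ o2 C, c⁻¹ * q * c ∈ o2 C := fun c hc q hq' => by
    have := hq c⁻¹ (inv_mem hc) q hq'
    rwa [inv_inv] at this
  let K : Subgroup G :=
    { carrier := {x | x ∈ C ∧ ∀ q ∈ o2 C, x * q * x⁻¹ * q⁻¹ ∈ Z₀}
      one_mem' := ⟨one_mem C, fun q _ => by simp⟩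
      mul_mem' := by
        rintro x y ⟨hx, h1⟩ ⟨hy, h2⟩
        refine ⟨mul_mem hx hy, fun q hq' => ?_⟩
        have h3 := h2 q hq'
        have h4 := h1 q hq'
        have h5 := hZc x hx _ h3
        have e : x * y * q * (x * y)⁻¹ * q⁻¹ = x * (y * q * y⁻¹ * q⁻¹) * (q * x⁻¹ * q⁻¹) := by group
        rw [e, h5]
        have e2 : y * q * y⁻¹ * q⁻¹ * x * (q * x⁻¹ * q⁻¹) = y * q * y⁻¹ * q⁻¹ * (x * q * x⁻¹ * q⁻¹) := by group
        rw [e2]
        exact mul_mem h3 h4
      inv_mem' := by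
        rintro x ⟨hx, h1⟩
        refine ⟨inv_mem hx, fun q hq' => ?_⟩
        have h2 := h1 _ (hqi x hx q hq')
        have e : x⁻¹ * q * x⁻¹⁻¹ * q⁻¹ = (x * (x⁻¹ * q * x) * x⁻¹ * (x⁻¹ * q * x)⁻¹)⁻¹ := by group
        rw [e]
        exact inv_mem h2 }
  have hKC : K ≤ C := fun x hx => hx.1
  have hAK : A ≤ K := fun a ha => ⟨hAC ha, hA a ha⟩
  have key : ∀ c ∈ C, ∀ x ∈ K, c * x * c⁻¹ ∈ K := by
    intro c hc x hx
    refine ⟨mul_mem (mul_mem hc hx.1) (inv_mem hc), fun q hq' => ?_⟩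
    have h1 := hx.2 _ (hqi c hc q hq')
    have h2 := hZc c hc _ h1
    have e : c * x * c⁻¹ * q * (c * x * c⁻¹)⁻¹ * q⁻¹ =
        c * (x * (c⁻¹ * q * c) * x⁻¹ * (c⁻¹ * q * c)⁻¹) * c⁻¹ := by group
    rw [e, h2, mul_inv_cancel_right]
    exact h1
  have hn : C ≤ normalizer (K : Set G) := by
    intro c hc
    rw [mem_normalizer_iff]
    intro x
    refine ⟨key c hc x, fun hx => ?_⟩
    have := key c⁻¹ (inv_mem hc) _ hx
    simpa [mul_assoc] using this
  have hK2 : IsPGroup 2 K := by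
    rintro ⟨x, hx⟩
    have h1 : x * x ∈ o2 C := by
      apply hC
      refine ⟨mul_mem hx.1 hx.1, mem_centralizer_iff.2 fun q hq' => ?_⟩
      have h2 := hx.2 q hq'
      have h3 := hZc x hx.1 _ h2
      have h4 := hsq _ h2
      -- `x q x⁻¹ = c q`
      have h5 : x * q = (x * q * x⁻¹ * q⁻¹) * q * x := by group
      generalize x * q * x⁻¹ * q⁻¹ = c at h3 h4 h5
      symm
      calc x * x * q = x * (x * q) := by group
        _ = x * (c * q * x) := by rw [h5]
        _ = (x * c) * q * x := by group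
        _ = c * (x * q) * x := by rw [h3]; group
        _ = c * (c * q * x) * x := by rw [h5]
        _ = (c * c) * q * (x * x) := by group
        _ = q * (x * x) := by rw [h4, one_mul]
    obtain ⟨n, hn⟩ := o2_isPGroup C ⟨_, h1⟩
    refine ⟨n + 1, Subtype.ext ?_⟩
    have h2 := congrArg Subtype.val hn
    simp only [SubgroupClass.coe_pow, OneMemClass.coe_one] at h2 ⊢
    rw [pow_succ', pow_mul, pow_two]
    exact h2
  exact hAK.trans (le_o2 hKC hK2 hn)

namespace Sit

variable [Finite G] {S : Sylow 2 G} {P T : Subgroup G} {U : Fin 2 → Subgroup G} {v : Fin 2 → G}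
  (D : Sit S P T U v)

theorem exists_ne (i : Fin 2) : ∃ j, i ≠ j := ⟨1 - i, by revert i; decide⟩

include D

/-! ### Easy facts -/

theorem comm {a b : G} (ha : a ∈ zl (S : Subgroup G) P) (hb : b ∈ zl (S : Subgroup G) P) : a * b = b * a :=
  (amb D.hyp).comm a ha b hb

theorem sq {a : G} (ha : a ∈ zl (S : Subgroup G) P) : a * a = 1 := by
  have := (amb D.hyp).sq a ha
  rwa [pow_two] at this

theorem T_le : T ≤ (S : Subgroup G) := by
  rw [D.T_eq 0]
  exact inf_le_left

theorem T_isPGroup : IsPGroup 2 T := S.isPGroup'.to_le D.T_le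

theorem T_le_N (i : Fin 2) : T ≤ normalizer (U i : Set G) := by
  rw [D.T_eq i]
  exact inf_le_right

theorem S_le_P : (S : Subgroup G) ≤ P := D.hyp.star.isLoc.le

theorem V_le_T : zl (S : Subgroup G) P ≤ T := by
  rw [D.T_eq 0]
  refine le_inf D.hyp.V_le_S fun x hx => ?_
  rw [mem_normalizer_iff]
  intro y
  constructor
  · intro hy
    have : x * y * x⁻¹ = y := by rw [D.comm hx (D.le 0 hy)]; group
    rwa [this]
  · intro hy
    have h1 := D.comm hx (D.le 0 hy)
    have h2 : y = x * y * x⁻¹ := by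
      have h3 : x * (x * y * x⁻¹) = x * y := by rw [h1]; group
      exact (mul_left_cancel h3).symm
    rwa [h2]

theorem U_le_T (i : Fin 2) : U i ≤ T := (D.le i).trans D.V_le_T

theorem T_le_C (i : Fin 2) : T ≤ centralizer ({v i} : Set G) := (D.syl i).1

theorem v_sq (i : Fin 2) : v i * v i = 1 := D.sq (D.le i (D.mem i))

theorem v_sq' (i : Fin 2) : v i ^ 2 = 1 := by rw [pow_two]; exact D.v_sq i

theorem char2 (i : Fin 2) : centralizer ({v i} : Set G) ⊓
    centralizer (o2 (centralizer ({v i} : Set G)) : Set G) ≤ o2 (centralizer ({v i} : Set G)) :=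
  MinSimple.Basic.char2_centralizer D.hyp.ctx.char2 (D.v_sq' i) (D.ne i)

theorem v_mem_Q (i : Fin 2) : v i ∈ o2 (centralizer ({v i} : Set G)) := by
  apply D.char2 i
  refine ⟨mem_centralizer_singleton_iff.2 rfl, mem_centralizer_iff.2 fun q hq => ?_⟩
  exact mem_centralizer_singleton_iff.1 (o2_le _ hq)

theorem Q_le_T (i : Fin 2) : o2 (centralizer ({v i} : Set G)) ≤ T := o2_le_syl (D.syl i)

/-- `U i ≤ X` as soon as a subgroup `X ≤ U i` contains `v i` and another involution. -/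
theorem le_or {i : Fin 2} {X : Subgroup G} (hv : v i ∈ X) :
    U i ≤ X ∨ ∀ x ∈ U i ⊓ X, x = 1 ∨ x = v i := by
  by_cases hc : ∀ x ∈ U i ⊓ X, x = 1 ∨ x = v i
  · exact Or.inr hc
  left
  push Not at hc
  obtain ⟨x, ⟨hxU, hxX⟩, hx1, hxv⟩ := hc
  intro y hy
  by_cases hy1 : y = 1
  · rw [hy1]; exact one_mem X
  rcases NO3S.eq_of_card_four (D.four i) (fun a ha => (amb D.hyp).sq a (D.le i ha)) (D.mem i) (D.ne i) hxU hx1
    (Ne.symm hxv) hy hy1 with h | h | h
  · rw [h]; exact hv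
  · rw [h]; exact hxX
  · rw [h]; exact mul_mem hv hxX

/-! ### (2) -/

/-- **(2)** `U i ≤ O₂(C_G(v i))`. -/
theorem U_le_Q (i : Fin 2) : U i ≤ o2 (centralizer ({v i} : Set G)) := by
  rcases D.le_or (D.v_mem_Q i) with h | h
  · exact h
  have hUC : U i ≤ centralizer ({v i} : Set G) := (D.U_le_T i).trans (D.T_le_C i)
  refine le_o2_of_commutator (Z₀ := zpowers (v i)) (D.char2 i) ?_ ?_ hUC ?_
  · intro c hc z hz
    obtain ⟨n, rfl⟩ := mem_zpowers_iff.1 hz
    have h1 : Commute c (v i) := mem_centralizer_singleton_iff.1 hc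
    exact (h1.zpow_right n).eq
  · intro z hz
    obtain ⟨n, rfl⟩ := mem_zpowers_iff.1 hz
    rw [← zpow_add, ← two_mul, zpow_mul]
    have : v i ^ (2 : ℤ) = 1 := by
      have := D.v_sq' i
      exact_mod_cast this
    rw [this, one_zpow]
  · intro a ha q hq
    have h1 : a * q * a⁻¹ ∈ o2 (centralizer ({v i} : Set G)) :=
      (mem_normalizer_iff.1 (le_normalizer_o2 _ (hUC ha)) q).1 hq
    have h2 : q * a⁻¹ * q⁻¹ ∈ U i :=
      (mem_normalizer_iff.1 (D.T_le_N i (D.Q_le_T i hq)) _).1 (inv_mem ha)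
    have h3 : a * q * a⁻¹ * q⁻¹ ∈ U i ⊓ o2 (centralizer ({v i} : Set G)) := by
      refine ⟨?_, (o2 (centralizer ({v i} : Set G))).mul_mem h1 (inv_mem hq)⟩
      have e : a * q * a⁻¹ * q⁻¹ = a * (q * a⁻¹ * q⁻¹) := by group
      rw [e]
      exact mul_mem ha h2
    rcases h _ h3 with h4 | h4
    · rw [h4]; exact one_mem _
    · rw [h4]; exact mem_zpowers _

theorem V_le_Q (i : Fin 2) : zl (S : Subgroup G) P ≤ o2 (centralizer ({v i} : Set G)) := by
  obtain ⟨j, hij⟩ := exists_ne i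
  exact (D.sup i j hij).trans (sup_le (D.U_le_Q i) (D.half i j hij).1)

/-! ### (3) -/

/-- a 2-subgroup of `N_{C i}(U i)` is in a conjugate of `T` under this group -/
theorem exists_le_conj_T (i : Fin 2) {E : Subgroup G} (hE : IsPGroup 2 E)
    (h1 : E ≤ centralizer ({v i} : Set G)) (h2 : E ≤ normalizer (U i : Set G)) :
    ∃ a ∈ centralizer ({v i} : Set G), a ∈ normalizer (U i : Set G) ∧ E ≤ MulAut.conj a • T := by
  have hS : Syl T (centralizer ({v i} : Set G) ⊓ normalizer (U i : Set G)) :=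
    ⟨le_inf (D.T_le_C i) (D.T_le_N i), D.T_isPGroup, fun R hR hR2 hTR => (D.syl i).2.2 R (hR.trans inf_le_left)
      hR2 hTR⟩
  obtain ⟨R, hR, hER⟩ := exists_syl hE (le_inf h1 h2)
  obtain ⟨a, ha, haR⟩ := syl_conj hS hR
  refine ⟨a, ha.1, ha.2, ?_⟩
  have : MulAut.conj a • T = R := haR
  rw [this]
  exact hER

theorem conj_Q {i : Fin 2} {c : G} (hc : c ∈ centralizer ({v i} : Set G)) :
    MulAut.conj c • o2 (centralizer ({v i} : Set G)) = o2 (centralizer ({v i} : Set G)) :=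
  conj_eq_of_mem (le_normalizer_o2 _ hc)

theorem conj_C {i : Fin 2} {c : G} (hc : c ∈ centralizer ({v i} : Set G)) :
    MulAut.conj c • centralizer ({v i} : Set G) = centralizer ({v i} : Set G) :=
  NoFF.Basic.conj_self hc

theorem Q_le_conj_T {i : Fin 2} {c : G} (hc : c ∈ centralizer ({v i} : Set G)) :
    o2 (centralizer ({v i} : Set G)) ≤ MulAut.conj c • T := by
  rw [← D.conj_Q hc]
  exact conj_le_iff.2 (D.Q_le_T i)

omit D in
theorem conj_isPGroup {g : G} {A : Subgroup G} (h : IsPGroup 2 A) : IsPGroup 2 (MulAut.conj g • A : Subgroup G) :=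
  ChoiceBase.isPGroup_cj g h

theorem T_le_P : T ≤ P := D.T_le.trans D.S_le_P

theorem U_isPGroup (i : Fin 2) : IsPGroup 2 (U i) := D.T_isPGroup.to_le (D.U_le_T i)

/-- (3), the case of a common point -/
theorem lift_point (i : Fin 2) {h : G} (hh : h ∈ centralizer ({v i} : Set G))
    (h1 : U i ≤ normalizer ((MulAut.conj h • U i : Subgroup G) : Set G))
    (h2 : MulAut.conj h • U i ≤ normalizer (U i : Set G)) :
    U i ≤ centralizer ((MulAut.conj h • U i : Subgroup G) : Set G) := by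
  obtain ⟨j, hij⟩ := exists_ne i
  have hUC : U i ≤ centralizer ({v i} : Set G) := (D.U_le_T i).trans (D.T_le_C i)
  obtain ⟨a, ha, haN, haT⟩ := D.exists_le_conj_T i (E := MulAut.conj h • U i) (conj_isPGroup (D.U_isPGroup i))
    (by
      have := conj_le_iff (g := h).2 hUC
      rwa [D.conj_C hh] at this) h2
  have hh' : h⁻¹ ∈ centralizer ({v i} : Set G) := inv_mem hh
  obtain ⟨b, hb, hbN, hbT⟩ := D.exists_le_conj_T i (E := MulAut.conj h⁻¹ • U i) (conj_isPGroup (D.U_isPGroup i))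
    (by
      have := conj_le_iff (g := h⁻¹).2 hUC
      rwa [D.conj_C hh'] at this) (by
      have := conj_le_normalizer (g := h⁻¹) h1
      rwa [conj_conj, inv_mul_cancel, map_one, one_smul] at this)
  have hbT' : U i ≤ MulAut.conj (h * b) • T := by
    have := conj_le_iff (g := h).2 hbT
    rwa [conj_conj, mul_inv_cancel, map_one, one_smul, conj_conj] at this
  have hhb : h * b ∈ centralizer ({v i} : Set G) := mul_mem hh hb
  have haU : MulAut.conj a • U i = U i := conj_eq_of_mem haN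
  have hhbU : MulAut.conj (h * b) • U i = MulAut.conj h • U i := by
    rw [← conj_conj, conj_eq_of_mem hbN]
  have hUj : ∀ c ∈ centralizer ({v i} : Set G), MulAut.conj c • U j ≤ o2 (centralizer ({v i} : Set G)) := by
    intro c hc
    rw [← D.conj_Q hc]
    exact conj_le_iff.2 (D.half i j hij).1
  have hTP : ∀ c : G, MulAut.conj c • T ≤ MulAut.conj c • P := fun c => conj_le_iff.2 D.T_le_P
  -- the lines `V^a`, `V^(hb)` normalise each other
  have hVa : MulAut.conj a • zl (S : Subgroup G) P ≤ MulAut.conj (h * b) • P := by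
    refine le_trans ?_ (hTP _)
    refine (conj_le_iff.2 (D.sup i j hij)).trans ?_
    rw [Subgroup.smul_sup]
    refine sup_le ?_ ((hUj a ha).trans (D.Q_le_conj_T hhb))
    rw [haU]
    exact hbT'
  have hVb : MulAut.conj (h * b) • zl (S : Subgroup G) P ≤ MulAut.conj a • P := by
    refine le_trans ?_ (hTP _)
    refine (conj_le_iff.2 (D.sup i j hij)).trans ?_
    rw [Subgroup.smul_sup]
    refine sup_le ?_ ((hUj _ hhb).trans (D.Q_le_conj_T ha))
    rw [hhbU]
    exact haT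
  have hfin := D.hyp.geo.toSys.noff' (Set.mem_singleton P) (Set.mem_singleton P) hVa hVb
  have hfin' := comm_mono hfin (conj_le_iff (g := a).2 (D.le i)) (conj_le_iff (g := h * b).2 (D.le i))
  rwa [haU, hhbU] at hfin'

/-- (3) for conjugates of the same `U i` -/
theorem lift_same (i : Fin 2) (g : G)
    (h1 : U i ≤ normalizer ((MulAut.conj g • U i : Subgroup G) : Set G))
    (h2 : MulAut.conj g • U i ≤ normalizer (U i : Set G)) :
    U i ≤ centralizer ((MulAut.conj g • U i : Subgroup G) : Set G) := by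
  obtain ⟨j, hij⟩ := exists_ne i
  by_contra hcon
  obtain ⟨a, ha, b, hb, hab⟩ : ∃ a ∈ U i, ∃ b ∈ MulAut.conj g • U i, b * a ≠ a * b := by
    by_contra h
    push Not at h
    exact hcon fun a ha => mem_centralizer_iff.2 fun b hb => h a ha b hb
  set c := a * b * a⁻¹ * b⁻¹ with hc
  have hc1 : c ≠ 1 := by
    intro h
    apply hab
    rw [hc, mul_inv_eq_one] at h
    rw [← mul_inv_eq_iff_eq_mul.1 h]
  have hcU : c ∈ U i := by
    have e : c = a * (b * a⁻¹ * b⁻¹) := by rw [hc]; group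
    rw [e]
    exact mul_mem ha ((mem_normalizer_iff.1 (h2 hb) _).1 (inv_mem ha))
  have hcU' : c ∈ MulAut.conj g • U i :=
    mul_mem ((mem_normalizer_iff.1 (h1 ha) _).1 hb) (inv_mem hb)
  obtain ⟨l, -, -, hlU, hlc⟩ := D.tr i j hij c hcU hc1
  have hcg : g⁻¹ * c * g ∈ U i := mem_conj.1 hcU'
  obtain ⟨l', -, -, hlU', hlc'⟩ := D.tr i j hij _ hcg (by
    intro h
    apply hc1
    have h3 := congrArg (fun t => g * t * g⁻¹) h
    simpa [mul_assoc] using h3)
  have hh : l⁻¹ * g * l' ∈ centralizer ({v i} : Set G) := by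
    rw [mem_centralizer_singleton_iff]
    have h3 : l' * v i = g⁻¹ * c * g * l' := by rw [← hlc']; group
    have h4 : c = l * v i * l⁻¹ := hlc.symm
    calc l⁻¹ * g * l' * v i = l⁻¹ * g * (l' * v i) := by group
      _ = l⁻¹ * c * g * l' := by rw [h3]; group
      _ = v i * (l⁻¹ * g * l') := by rw [h4]; group
  have e1 : MulAut.conj l • (MulAut.conj (l⁻¹ * g * l') • U i) = MulAut.conj g • U i := by
    rw [conj_conj]
    have e2 : l * (l⁻¹ * g * l') = g * l' := by group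
    rw [e2, ← conj_conj, hlU']
  apply hcon
  have hmain := D.lift_point i hh ?_ ?_
  · have h3 := conj_le_centralizer (g := l) hmain
    rwa [e1, hlU] at h3
  · rw [← conj_le_iff (g := l), hlU]
    refine h1.trans ?_
    rw [← e1, NoFF.Main.normalizer_conj]
  · rw [← conj_le_iff (g := l), e1]
    refine h2.trans ?_
    rw [← NoFF.Main.normalizer_conj, hlU]

/-- **(3) LIFT**: two conjugates of `U 0`, `U 1` which normalise each other commute. -/
theorem lift (i j : Fin 2) (g g' : G)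
    (h1 : MulAut.conj g • U i ≤ normalizer ((MulAut.conj g' • U j : Subgroup G) : Set G))
    (h2 : MulAut.conj g' • U j ≤ normalizer ((MulAut.conj g • U i : Subgroup G) : Set G)) :
    MulAut.conj g • U i ≤ centralizer ((MulAut.conj g' • U j : Subgroup G) : Set G) := by
  -- `U j` is a conjugate of `U i`
  obtain ⟨s, hs⟩ : ∃ s : G, MulAut.conj s • U i = U j := by
    by_cases hij : i = j
    · exact ⟨1, by rw [map_one, one_smul, hij]⟩
    · obtain ⟨s, -, -, h⟩ := D.swap
      exact ⟨s, (h i j hij).1⟩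
  have hx : MulAut.conj g • (MulAut.conj (g⁻¹ * g' * s) • U i) = MulAut.conj g' • U j := by
    rw [conj_conj]
    have e2 : g * (g⁻¹ * g' * s) = g' * s := by group
    rw [e2, ← conj_conj, hs]
  have hmain := D.lift_same i (g⁻¹ * g' * s) ?_ ?_
  · have h3 := conj_le_centralizer (g := g) hmain
    rwa [hx] at h3
  · rw [← conj_le_iff (g := g)]
    refine h1.trans ?_
    rw [← hx, NoFF.Main.normalizer_conj]
  · rw [← conj_le_iff (g := g), hx]
    refine h2.trans ?_
    rw [NoFF.Main.normalizer_conj]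

end Sit

end Cfsg.Agent.Omega.OM.KTwo
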