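import Cfsg.Agent.Omega.OM.KTwo.Pt
import Cfsg.Agent.Omega.NO3S.Basic

/-!
# NO-3S, sums of natural `SL₂(2)`-modules: `T` is a Sylow subgroup of `C_G(v_B)` (helper790 #14826 (1))

`h : Hyp S P`, `M : NatK F S P V_P ⊥ k`, `|F| = 2`, `B` a block of `S`, `T = So M B = N_S(V_B)`, `v_B = pt M B`,
`z = pt M univ`, `Ω₁Z(S) = ⟨z⟩`, `Y = Ω₁Z(T) = ⟨v_B, v_B'⟩`.

* `gen_fac` : `P = ⟨S, C_P(V_B), C_P(V_B')⟩`;
* `nonLoc_of_par` : `P' ∈ P*(S)`, `P' ≤ N_G(T)` implies `|V_P'| = 4` and `⟨P', C_G(z)⟩` nonlocal;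
* `syl_centralizer`, `syl_normalizer` : if no `P' ∈ P*(S)` with `|V_P'| = 4` and `⟨P', C_G(z)⟩` nonlocal exists, then
  `T` is a Sylow 2-subgroup of `C_G(v_B)` and of `N_G(V_B)`.
-/

set_option autoImplicit false
set_option linter.unusedSectionVars false

namespace Cfsg.Agent.Omega.OM.KTwo

open Subgroup Cfsg Cfsg.Agent.ZN Cfsg.Agent.Omega.FFThm Cfsg.Agent.Omega.MinPar
open Cfsg.Agent.Omega.Half Cfsg.Agent.Omega.Half.NatA
open Cfsg.Agent.Omega.NatPair (ap ap_one)
open Cfsg.Agent.Omega.NO3S Cfsg.Agent.Omega.FrameNOFF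
open Cfsg.Agent.ZN.ChoiceSit (Syl)
open Cfsg.Agent.MinSimple.VModule (mem_zc zc_le normalizer_le_normalizer_zc zc_le_zl le_normalizer_zl zl_le)

universe u

variable {G : Type u} [Group G] {F : Type} [Field F] {k : ℕ}

section gen

variable {T H V : Subgroup G} {M : NatK F T H V ⊥ k} {B : Set (Fin k)} (hA : Amb T H V)

include hA

theorem mem_centralizer_of_e {x y : G} (hx : x ∈ H) (hy : y ∈ H)
    (hxy : ∀ v ∈ V, M.e (x * v * x⁻¹) = M.e (y * v * y⁻¹)) : x⁻¹ * y ∈ centralizer (V : Set G) := by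
  rw [mem_centralizer_iff]
  intro v hv
  have h1 : x * v * x⁻¹ = y * v * y⁻¹ := inj M (hA.conj_mem hx hv) (hA.conj_mem hy hv) (hxy v hv)
  calc v * (x⁻¹ * y) = x⁻¹ * (x * v * x⁻¹) * y := by group
    _ = x⁻¹ * (y * v * y⁻¹) * y := by rw [h1]
    _ = x⁻¹ * y * v := by group

theorem mem_centralizer_fac {x : G} (hx : x ∈ H) {C : Set (Fin k)}
    (hxC : ∀ v ∈ V, ∀ i ∉ C, M.e v i = 0 → M.e (x * v * x⁻¹) i = 0)
    (hxC' : ∀ v ∈ V, ∀ i ∈ C, M.e (x * v * x⁻¹) i = M.e v i) : x ∈ centralizer (fac M C : Set G) := by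
  rw [mem_centralizer_iff]
  intro v hv
  have hv' : v ∈ fac M C := hv
  have h1 : x * v * x⁻¹ = v := by
    apply inj M (hA.conj_mem hx hv'.1) hv'.1
    funext i
    by_cases hi : i ∈ C
    · exact hxC' v hv'.1 i hi
    · rw [hv'.2 i hi]
      exact hxC v hv'.1 i hi (hv'.2 i hi)
  calc v * x = x * v * x⁻¹ * x := by rw [h1]
    _ = x * v := by group

/-- `P = ⟨S, C_P(V_B), C_P(V_B')⟩`. -/
theorem gen_fac {K : Subgroup G} (hS : T ≤ K) (h1 : H ⊓ centralizer (fac M B : Set G) ≤ K)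
    (h2 : H ⊓ centralizer (fac M Bᶜ : Set G) ≤ K) : H ≤ K := by
  classical
  refine M.gen K hS fun x hx A hxA => ?_
  obtain ⟨g, hg, hgA, -⟩ := M.lift fun i => if i ∈ B then 1 else A i
  obtain ⟨g', hg', hgA', -⟩ := M.lift fun i => if i ∈ B then A i else 1
  replace hgA : ∀ v ∈ V, ∀ i, M.e (g * v * g⁻¹) i = ap (if i ∈ B then 1 else A i) (M.e v i) := hgA
  replace hgA' : ∀ v ∈ V, ∀ i, M.e (g' * v * g'⁻¹) i = ap (if i ∈ B then A i else 1) (M.e v i) := hgA'
  have hgc : g ∈ centralizer (fac M B : Set G) := by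
    refine mem_centralizer_fac hA hg (fun v hv i hi h0 => ?_) fun v hv i hi => ?_
    · rw [hgA v hv i, h0, ap_zero]
    · rw [hgA v hv i, if_pos hi, ap_one]
  have hgc' : g' ∈ centralizer (fac M Bᶜ : Set G) := by
    refine mem_centralizer_fac hA hg' (fun v hv i hi h0 => ?_) fun v hv i hi => ?_
    · rw [hgA' v hv i, h0, ap_zero]
    · rw [hgA' v hv i, if_neg (show i ∉ B from hi), ap_one]
  have hc : (g' * g)⁻¹ * x ∈ centralizer (V : Set G) := by
    refine mem_centralizer_of_e hA (M := M) (mul_mem hg' hg) hx fun v hv => ?_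
    have e1 : g' * g * v * (g' * g)⁻¹ = g' * (g * v * g⁻¹) * g'⁻¹ := by group
    funext i
    rw [e1, hgA' _ (hA.conj_mem hg hv) i, hgA v hv i, hxA.1 v hv i]
    by_cases hi : i ∈ B
    · rw [if_pos hi, if_pos hi, ap_one]
    · rw [if_neg hi, if_neg hi, ap_one]
  have e2 : x = g' * g * ((g' * g)⁻¹ * x) := by group
  rw [e2]
  exact mul_mem (mul_mem (h2 ⟨hg', hgc'⟩) (h1 ⟨hg, hgc⟩))
    (h1 ⟨H.mul_mem (H.inv_mem (H.mul_mem hg' hg)) hx, centralizer_le (fac_le M B) hc⟩)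

end gen

section frame

variable [Finite G] {S : Sylow 2 G} {P : Subgroup G} (h : Hyp S P) (hq : Nat.card F = 2)
  {M : NatK F (S : Subgroup G) P (zl (S : Subgroup G) P) ⊥ k} {B : Set (Fin k)} (hB : Blk M B)

theorem amb (h : Hyp S P) : Amb (S : Subgroup G) P (zl (S : Subgroup G) P) :=
  amb_of_loc h.ctx.char2 S h.star.isLoc

include h hq hB

theorem z_mem : pt M Set.univ ∈ zc (S : Subgroup G) := (mem_zc_iff hq (amb h) hB).2 (Or.inr rfl)

theorem z_ne : pt M Set.univ ≠ 1 := pt_ne M (hB.ne.mono (Set.subset_univ _))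

theorem mem_CZ_iff {g : G} : g ∈ CZ (S : Subgroup G) ↔ g * pt M Set.univ * g⁻¹ = pt M Set.univ := by
  constructor
  · intro hg
    have h1 := mem_centralizer_iff.1 hg _ (z_mem h hq hB)
    rw [← h1]
    group
  · intro hg
    rw [mem_centralizer_iff]
    intro x hx
    rcases (mem_zc_iff hq (amb h) hB).1 hx with rfl | rfl
    · rw [one_mul, mul_one]
    · calc pt M Set.univ * g = g * pt M Set.univ * g⁻¹ * g := by rw [hg]
        _ = g * pt M Set.univ := by group

theorem CZ_eq : CZ (S : Subgroup G) = centralizer ({pt M Set.univ} : Set G) := by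
  ext g
  rw [mem_CZ_iff h hq hB, mem_centralizer_singleton_iff]
  exact mul_inv_eq_iff_eq_mul

theorem normalizer_zc_le : normalizer (zc (S : Subgroup G) : Set G) ≤ CZ (S : Subgroup G) := by
  intro g hg
  rw [mem_CZ_iff h hq hB]
  have h1 := (mem_normalizer_iff.1 hg _).1 (z_mem h hq hB)
  rcases (mem_zc_iff hq (amb h) hB).1 h1 with h2 | h2
  · exact absurd (conj_eq_one_iff.1 h2) (z_ne h hq hB)
  · exact h2

theorem card_zc : Nat.card (zc (S : Subgroup G)) = 2 := by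
  have h1 : ((zc (S : Subgroup G) : Subgroup G) : Set G) = {1, pt M Set.univ} := by
    ext x
    rw [SetLike.mem_coe, mem_zc_iff hq (amb h) hB]
    simp
  have h2 : Nat.card (zc (S : Subgroup G)) = ((zc (S : Subgroup G) : Subgroup G) : Set G).ncard := rfl
  rw [h2, h1, Set.ncard_pair (z_ne h hq hB).symm]

/-- If a 2-group `R > T` centralises `v_B`, then `N_G(T)` moves `z`. -/
theorem exists_move_z {R : Subgroup G} (hR : IsPGroup 2 R) (hTR : So M B ≤ R) (hne : R ≠ So M B)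
    (hRc : ∀ r ∈ R, r * pt M B * r⁻¹ = pt M B) :
    R ≤ normalizer (So M B : Set G) ∧
      ∃ n ∈ normalizer (So M B : Set G), n * pt M Set.univ * n⁻¹ ≠ pt M Set.univ := by
  have hA := amb h
  -- orders
  have hcard := card_So hA hB
  have hrel : Nat.card (So M B) * (So M B).relIndex R = Nat.card R := Half.card_mul_relIndex hTR
  have hle : Nat.card R ≤ Nat.card (S : Subgroup G) := card_le_sylow S hR
  have hne1 : (So M B).relIndex R ≠ 1 := fun h1 => hne (le_antisymm (relIndex_eq_one.1 h1) hTR)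
  have hne0 : (So M B).relIndex R ≠ 0 := fun h1 => by
    rw [h1, mul_zero] at hrel
    exact Nat.card_pos.ne hrel
  have hT0 : 0 < Nat.card (So M B) := Nat.card_pos
  have hrel2 : (So M B).relIndex R = 2 := by
    have h1 : (So M B).relIndex R ≤ 2 := by
      by_contra h2
      push Not at h2
      have h3 : Nat.card (So M B) * 2 < Nat.card (So M B) * (So M B).relIndex R :=
        Nat.mul_lt_mul_of_pos_left h2 hT0
      omega
    omega
  have hRS : Nat.card R = Nat.card (S : Subgroup G) := by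
    rw [← hrel, hrel2, hcard, mul_comm]
  have hRn : R ≤ normalizer (So M B : Set G) := by
    have h1 : ((So M B).subgroupOf R).Normal := normal_of_index_eq_two hrel2
    exact (normal_subgroupOf_iff_le_normalizer hTR).1 h1
  refine ⟨hRn, ?_⟩
  -- `Ω₁Z(R)` has order 2
  have hzR : Nat.card (zc R) = 2 := by
    rw [card_zc_of_card_eq S hR hRS, card_zc h hq hB]
  have hbR : pt M B ∈ zc R := by
    refine mem_zc.2 ⟨hTR (V_le_So hA hB (pt_V M B)), fun r hr => ?_, hA.sq _ (pt_V M B)⟩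
    calc r * pt M B = r * pt M B * r⁻¹ * r := by group
      _ = pt M B * r := by rw [hRc r hr]
  obtain ⟨r, hr, hrc⟩ : ∃ r ∈ R, r * pt M Bᶜ * r⁻¹ ≠ pt M Bᶜ := by
    by_contra hcon
    push Not at hcon
    have hcR : pt M Bᶜ ∈ zc R := by
      refine mem_zc.2 ⟨hTR (V_le_So hA hB (pt_V M _)), fun r hr => ?_, hA.sq _ (pt_V M _)⟩
      calc r * pt M Bᶜ = r * pt M Bᶜ * r⁻¹ * r := by group
        _ = pt M Bᶜ * r := by rw [hcon r hr]
    obtain ⟨y, -, hy⟩ := (Nat.card_eq_two_iff' (1 : zc R)).1 hzR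
    have h1 := hy ⟨_, hbR⟩ fun h2 => pt_ne M hB.ne (congrArg Subtype.val h2)
    have h2 := hy ⟨_, hcR⟩ fun h2 => pt_ne M hB.ne' (congrArg Subtype.val h2)
    exact pt_ne_of_ne M (compl_ne hB) (congrArg Subtype.val (h1.trans h2.symm))
  have h1 : r * pt M Bᶜ * r⁻¹ ∈ zc (So M B) :=
    (mem_normalizer_iff.1 (normalizer_le_normalizer_zc _ (hRn hr)) _).1 (pt_compl_mem_zc_So hq hA hB)
  refine ⟨r⁻¹, inv_mem (hRn hr), ?_⟩
  rcases (mem_zc_So_iff hq hA hB).1 h1 with h2 | h2 | h2 | h2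
  · exact absurd (conj_eq_one_iff.1 h2) (pt_ne M hB.ne')
  · exfalso
    apply pt_ne_of_ne M (compl_ne hB)
    have h3 : r * pt M Bᶜ * r⁻¹ = r * pt M B * r⁻¹ := by rw [h2, hRc r hr]
    exact (mul_left_cancel (mul_right_cancel h3)).symm
  · exact absurd h2 hrc
  · rw [← h2]
    intro h3
    apply pt_ne_of_ne M (ne_univ hB.compl)
    rw [← h2, ← h3]
    group

/-- If `N_G(T)` moves `z` then it contains a member of `P*(S)`. -/
theorem exists_par {n : G} (hn : n ∈ normalizer (So M B : Set G)) (hnz : n * pt M Set.univ * n⁻¹ ≠ pt M Set.univ) :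
    ∃ P' : Subgroup G, IsParS (S : Subgroup G) P' ∧ P' ≤ normalizer (So M B : Set G) := by
  have hA := amb h
  have hT2 : IsPGroup 2 (So M B) := S.isPGroup'.to_le inf_le_left
  have hT1 : So M B ≠ ⊥ := fun h1 => pt_ne M hB.ne (by
    have := V_le_So hA hB (pt_V M B)
    rwa [h1, mem_bot] at this)
  have hL := isLoc_normalizer S hT2 hT1 (le_normalizer_So hA hB)
  obtain ⟨P', h1, h2, h3⟩ := hL.exists_not_le (M := CZ (S : Subgroup G)) S
    (inf_le_right.trans ((normalizer_le_normalizer_zc _).trans (normalizer_zc_le h hq hB)))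
    fun h1 => hnz ((mem_CZ_iff h hq hB).1 (h1 hn))
  exact ⟨P', ⟨h1, fun h4 => h3 (h4.trans (normalizer_zc_le h hq hB))⟩, h2⟩

/-- For `P' ∈ P*(S)`, `P' ≤ N_G(T)`: all points of `Y` are conjugate to `z` in `P'`. -/
theorem exists_conj_z {P' : Subgroup G} (hP' : IsParS (S : Subgroup G) P')
    (hn : P' ≤ normalizer (So M B : Set G)) :
    (∃ p ∈ P', p * pt M Set.univ * p⁻¹ = pt M B) ∧ ∃ p ∈ P', p * pt M Set.univ * p⁻¹ = pt M Bᶜ := by
  have hA := amb h
  obtain ⟨s, hs, hns⟩ := exists_swap hA hB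
  have hsP : s ∈ P' := hP'.isLoc.le hs
  obtain ⟨p, hp, hpz⟩ : ∃ p ∈ P', p * pt M Set.univ * p⁻¹ ≠ pt M Set.univ := by
    by_contra hcon
    push Not at hcon
    refine hP'.not_zc fun p hp => ?_
    exact centralizer_le_normalizer _ ((mem_CZ_iff h hq hB).2 (hcon p hp))
  have h1 : p * pt M Set.univ * p⁻¹ ∈ zc (So M B) :=
    (mem_normalizer_iff.1 (normalizer_le_normalizer_zc _ (hn hp)) _).1
      ((mem_zc_So_iff hq hA hB).2 (Or.inr (Or.inr (Or.inr rfl))))
  rcases (mem_zc_So_iff hq hA hB).1 h1 with h2 | h2 | h2 | h2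
  · exact absurd (conj_eq_one_iff.1 h2) (z_ne h hq hB)
  · refine ⟨⟨p, hp, h2⟩, s * p, mul_mem hsP hp, ?_⟩
    calc s * p * pt M Set.univ * (s * p)⁻¹ = s * (p * pt M Set.univ * p⁻¹) * s⁻¹ := by group
      _ = pt M Bᶜ := by rw [h2, conj_swap hq hA hB hs hns]
  · refine ⟨⟨s * p, mul_mem hsP hp, ?_⟩, p, hp, h2⟩
    calc s * p * pt M Set.univ * (s * p)⁻¹ = s * (p * pt M Set.univ * p⁻¹) * s⁻¹ := by group
      _ = pt M B := by rw [h2, conj_swap' hq hA hB hs hns]
  · exact absurd h2 hpz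

theorem zl_eq {P' : Subgroup G} (hP' : IsParS (S : Subgroup G) P') (hn : P' ≤ normalizer (So M B : Set G)) :
    zl (S : Subgroup G) P' = zc (So M B) := by
  have hA := amb h
  obtain ⟨⟨p, hp, h1⟩, p', hp', h2⟩ := exists_conj_z h hq hB hP' hn
  have hz := z_mem h hq hB
  have hzl : pt M Set.univ ∈ zl (S : Subgroup G) P' := zc_le_zl _ _ hz
  have hconj : ∀ p ∈ P', p * pt M Set.univ * p⁻¹ ∈ zl (S : Subgroup G) P' := fun p hp =>
    (mem_normalizer_iff.1 (le_normalizer_zl _ _ hp) _).1 hzl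
  apply le_antisymm
  · refine zl_le ?_ (hn.trans (normalizer_le_normalizer_zc _))
    intro x hx
    rw [mem_zc_So_iff hq hA hB]
    rcases (mem_zc_iff hq hA hB).1 hx with h3 | h3
    · exact Or.inl h3
    · exact Or.inr (Or.inr (Or.inr h3))
  · intro x hx
    rcases (mem_zc_So_iff hq hA hB).1 hx with rfl | rfl | rfl | rfl
    · exact one_mem _
    · rw [← h1]; exact hconj p hp
    · rw [← h2]; exact hconj p' hp'
    · exact hzl

/-- `P' ∈ P*(S)`, `P' ≤ N_G(T)`: `|V_P'| = 4` and `⟨P', C_G(z)⟩` is nonlocal. -/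
theorem nonLoc_of_par {P' : Subgroup G} (hP' : IsParS (S : Subgroup G) P')
    (hn : P' ≤ normalizer (So M B : Set G)) :
    Nat.card (zl (S : Subgroup G) P') = 4 ∧ NonLoc P' (CZ (S : Subgroup G)) := by
  have hA := amb h
  refine ⟨by rw [zl_eq h hq hB hP' hn, card_zc_So hq hA hB], fun U hU h1 h2 => ?_⟩
  obtain ⟨⟨p, hp, h3⟩, p', hp', h4⟩ := exists_conj_z h hq hB hP' hn
  -- centralisers of conjugates of `z`
  have key : ∀ p ∈ P', ∀ v, p * pt M Set.univ * p⁻¹ = v → centralizer ({v} : Set G) ≤ normalizer (U : Set G) := by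
    intro p hp v hv x hx
    rw [mem_centralizer_singleton_iff] at hx
    have h5 : p⁻¹ * x * p ∈ CZ (S : Subgroup G) := by
      rw [mem_CZ_iff h hq hB]
      have h6 : x * v * x⁻¹ = v := by rw [hx]; group
      calc p⁻¹ * x * p * pt M Set.univ * (p⁻¹ * x * p)⁻¹ = p⁻¹ * (x * (p * pt M Set.univ * p⁻¹) * x⁻¹) * p := by
            group
        _ = p⁻¹ * (p * pt M Set.univ * p⁻¹) * p := by rw [hv, h6]
        _ = pt M Set.univ := by group
    have h6 := mul_mem (mul_mem (h1 hp) (h2 h5)) (inv_mem (h1 hp))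
    have e : p * (p⁻¹ * x * p) * p⁻¹ = x := by group
    rwa [e] at h6
  refine h.nonLoc U hU (gen_fac hA (M := M) (B := B) (hP'.isLoc.le.trans h1) ?_ ?_) h2
  · refine le_trans ?_ (key p hp _ h3)
    refine inf_le_right.trans (centralizer_le ?_)
    exact Set.singleton_subset_iff.2 (pt_mem M B)
  · refine le_trans ?_ (key p' hp' _ h4)
    refine inf_le_right.trans (centralizer_le ?_)
    exact Set.singleton_subset_iff.2 (pt_mem M Bᶜ)

/-- **(1)** `T` is a Sylow 2-subgroup of `C_G(v_B)`. -/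
theorem syl_centralizer (hno : ∀ P' : Subgroup G, IsParS (S : Subgroup G) P' → NonLoc P' (CZ (S : Subgroup G)) →
      Nat.card (zl (S : Subgroup G) P') ≠ 4) :
    Syl (So M B) (centralizer ({pt M B} : Set G)) := by
  have hA := amb h
  refine ⟨fun t ht => ?_, S.isPGroup'.to_le inf_le_left, fun R hR hR2 hTR => ?_⟩
  · rw [mem_centralizer_singleton_iff]
    have h1 := fix hq hA hB ht
    calc t * pt M B = t * pt M B * t⁻¹ * t := by group
      _ = pt M B * t := by rw [h1]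
  · by_contra hne
    obtain ⟨-, n, hn, hnz⟩ := exists_move_z h hq hB hR2 hTR hne fun r hr => by
      have h1 := mem_centralizer_singleton_iff.1 (hR hr)
      rw [h1]
      group
    obtain ⟨P', hP', hP'n⟩ := exists_par h hq hB hn hnz
    obtain ⟨h1, h2⟩ := nonLoc_of_par h hq hB hP' hP'n
    exact hno P' hP' h2 h1

/-- **(1)** `T` is a Sylow 2-subgroup of `N_G(V_B)`. -/
theorem syl_normalizer (hno : ∀ P' : Subgroup G, IsParS (S : Subgroup G) P' → NonLoc P' (CZ (S : Subgroup G)) →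
      Nat.card (zl (S : Subgroup G) P') ≠ 4) :
    Syl (So M B) (normalizer (fac M B : Set G)) := by
  have hA := amb h
  have hS := syl_centralizer h hq hB hno
  refine ⟨inf_le_right, S.isPGroup'.to_le inf_le_left, fun R hR hR2 hTR => ?_⟩
  by_contra hne
  -- a subgroup `R₁` of `R` with `|R₁ : T| = 2`... `N_R(T) > T`
  have hlt : So M B < R := lt_of_le_of_ne hTR (Ne.symm hne)
  obtain ⟨r, hr, hrT, hrn⟩ : ∃ r ∈ R, r ∉ So M B ∧ r ∈ normalizer (So M B : Set G) := by
    have : Fact (Nat.Prime 2) := ⟨Nat.prime_two⟩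
    have hnil : Group.IsNilpotent R := hR2.isNilpotent
    have h1 : (So M B).subgroupOf R < ⊤ := by
      rw [lt_top_iff_ne_top, Ne, subgroupOf_eq_top]
      exact fun h2 => hlt.not_ge h2
    have h2 := Group.normalizerCondition_of_isNilpotent _ h1
    obtain ⟨r, hr1, hr2⟩ := SetLike.exists_of_lt h2
    refine ⟨r, r.2, fun h3 => hr2 (mem_subgroupOf.2 h3), ?_⟩
    rw [mem_normalizer_iff] at hr1 ⊢
    intro x
    constructor
    · intro hx
      have := (hr1 ⟨x, hTR hx⟩).1 (mem_subgroupOf.2 hx)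
      exact mem_subgroupOf.1 this
    · intro hx
      have hxR : x ∈ R := by
        have h4 := mul_mem (mul_mem (inv_mem r.2) (hTR hx)) r.2
        have e : (r : G)⁻¹ * ((r : G) * x * (r : G)⁻¹) * r = x := by group
        rwa [e] at h4
      exact mem_subgroupOf.1 ((hr1 ⟨x, hxR⟩).2 (mem_subgroupOf.2 hx))
  -- `r` centralises `v_B`
  have hrc : r * pt M B * r⁻¹ = pt M B := by
    have h1 : r * pt M B * r⁻¹ ∈ fac M B := (mem_normalizer_iff.1 (hR hr) _).1 (pt_mem M B)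
    rcases fix_fac hq hA hB h1 (fun t ht => by
      have h2 : r⁻¹ * t * r ∈ So M B := by
        have := (mem_normalizer_iff.1 (inv_mem hrn) t).1 ht
        rwa [inv_inv] at this
      have h3 := fix hq hA hB h2
      calc t * (r * pt M B * r⁻¹) * t⁻¹ = r * ((r⁻¹ * t * r) * pt M B * (r⁻¹ * t * r)⁻¹) * r⁻¹ := by group
        _ = r * pt M B * r⁻¹ := by rw [h3]) with h2 | h2
    · exact absurd (conj_eq_one_iff.1 h2) (pt_ne M hB.ne)
    · exact h2
  -- `⟨T, r⟩` contradicts `syl_centralizer`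
  have hsup : So M B ⊔ zpowers r ≤ centralizer ({pt M B} : Set G) := by
    refine sup_le hS.1 ((zpowers_le).2 ?_)
    rw [mem_centralizer_singleton_iff]
    calc r * pt M B = r * pt M B * r⁻¹ * r := by group
      _ = pt M B * r := by rw [hrc]
  have hsupR : So M B ⊔ zpowers r ≤ R := sup_le hTR ((zpowers_le).2 hr)
  have h1 := hS.2.2 _ hsup (hR2.to_le hsupR) le_sup_left
  apply hrT
  rw [← h1]
  exact le_sup_right (a := So M B) (mem_zpowers r)

end frame

end Cfsg.Agent.Omega.OM.KTwo
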