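import Cfsg.Agent.Omega.NOThreeL.RTools.Symp

/-!
# Case (E), `d = 1`, `|N₁ : C(N₂)| = 2` (#18644 of helper118): (3), (4), linear algebra (helper178)

`Form U PP B` of `NOThreeL/RTools/Symp.lean` (an alternating form with a connected set of points):

* `Form.all_points` : (3) if one totally isotropic line consists of points then all vectors `≠ 1` are points;
* `Form.rad_eq` : the radical is trivial;
* `Form.bot_or_perp` : (4) a subgroup of `e^⊥` containing `e`, absorbing the points of `e^⊥`, is `⟨e⟩` or `e^⊥`.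
-/

set_option autoImplicit false

namespace Cfsg.Agent.Omega.OM.KTwo.OneSymp

open Subgroup Cfsg.Agent.Omega.NOThreeL.RTools.Symp

variable {G : Type*} [Group G] {U : Subgroup G} {PP : Set G} {B : G → G → ℤˣ}

/-- the point `x` lies on a totally isotropic line of points -/
def OnLine (PP : Set G) (B : G → G → ℤˣ) (x : G) : Prop := ∃ y ∈ PP, y ≠ x ∧ B x y = 1 ∧ x * y ∈ PP

/-- two points with the same image modulo the radical are equal -/
def Inj (U : Subgroup G) (PP : Set G) (B : G → G → ℤˣ) : Prop :=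
  ∀ p ∈ PP, ∀ q ∈ PP, (∀ y ∈ U, B (p * q) y = 1) → p = q

variable (F : Form U PP B)
include F

/-- no point lies in the radical if there are two points -/
theorem not_rad {x y : G} (hx : x ∈ PP) (hy : y ∈ PP) (hne : x ≠ y) {p : G} (hp : p ∈ PP) :
    ∃ w ∈ PP, B p w = -1 := by
  by_contra hc
  push Not at hc
  have h1 : ({p} : Set G) = PP := F.conn {p} (by rintro _ rfl; exact hp) ⟨p, rfl⟩ (by
    rintro _ rfl p' hp' h2
    exact absurd h2 (hc p' hp'))
  have h2 : x ∈ ({p} : Set G) := h1 ▸ hx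
  have h3 : y ∈ ({p} : Set G) := h1 ▸ hy
  exact hne (h2.trans h3.symm)

theorem ne_one {p w : G} (hw : w ∈ PP) (h : B p w = -1) : p ≠ 1 := by
  rintro rfl
  rw [F.one_left (F.sub w hw)] at h
  exact absurd h (by decide)

/-- the transvection at the point `c` (`B x c = -1`) -/
theorem onLine_step {x x' : G} (hx : x ∈ PP) (hx' : x' ∈ PP) (h : B x x' = -1) (hl : OnLine PP B x) :
    OnLine PP B x' := by
  obtain ⟨y, hy, hyx, hB, hxy⟩ := hl
  have hxU := F.sub x hx
  have hx'U := F.sub x' hx'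
  have hyU := F.sub y hy
  have hcom := F.comm x hxU x' hx'U
  have hsq := F.sq x hxU
  have hsq' := F.sq x' hx'U
  have hx'x : B x' x = -1 := by rw [F.symm x' hx'U x hxU, h]
  have hc : x * x' ∈ PP := F.tr x hx x' hx' h
  have hcU := F.sub _ hc
  -- `y` is replaced by its image under the transvection at `x x'`
  by_cases hyc : B y (x * x') = 1
  · -- `y` is fixed
    have hyx' : B y x' = 1 := by
      rw [F.mul y hyU x hxU x' hx'U, F.symm y hyU x hxU, hB, one_mul] at hyc
      exact hyc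
    refine ⟨y, hy, ?_, by rw [F.symm x' hx'U y hyU, hyx'], ?_⟩
    · rintro rfl
      rw [hB] at h
      exact absurd h (by decide)
    · -- `x' y = (x y) (x x')`
      have h1 : B (x * y) (x * x') = -1 := by
        rw [F.mul_left hxU hyU hcU, F.mul x hxU x hxU x' hx'U, F.self x hxU, h, hyc]
        decide
      have h2 := F.tr _ hxy _ hc h1
      have h3 : x * y * (x * x') = x' * y := by
        rw [F.comm x hxU y hyU, mul_assoc, ← mul_assoc x x x', hsq, one_mul, F.comm y hyU x' hx'U]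
      rwa [h3] at h2
  · have hyc := Form.ne_of hyc
    have hyx' : B y x' = -1 := by
      rw [F.mul y hyU x hxU x' hx'U, F.symm y hyU x hxU, hB, one_mul] at hyc
      exact hyc
    have hy1 : y * (x * x') ∈ PP := F.tr y hy _ hc hyc
    have hy1U := F.sub _ hy1
    refine ⟨y * (x * x'), hy1, ?_, ?_, ?_⟩
    · intro h1
      apply hyx
      have h2 : y * x = 1 := by
        have h3 : y * x * x' = x' := by rw [mul_assoc]; exact h1
        exact mul_eq_right.1 h3
      rw [mul_eq_one_iff_eq_inv, F.inv hxU] at h2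
      exact h2
    · rw [F.mul x' hx'U y hyU _ hcU, F.mul x' hx'U x hxU x' hx'U, F.self x' hx'U, hx'x, F.symm x' hx'U y hyU, hyx']
      decide
    · -- `x' * (y x x') = x y`
      have h3 : x' * (y * (x * x')) = x * y := by
        rw [hcom, ← mul_assoc, ← mul_assoc, F.comm x' hx'U y hyU, mul_assoc y x' x', hsq', mul_one,
          F.comm y hyU x hxU]
      rw [h3]
      exact hxy

/-- all points lie on a totally isotropic line of points -/
theorem onLine_all {x : G} (hx : x ∈ PP) (hl : OnLine PP B x) {p : G} (hp : p ∈ PP) : OnLine PP B p := by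
  have h := F.conn {p | p ∈ PP ∧ OnLine PP B p} (fun p hp => hp.1) ⟨x, hx, hl⟩ (by
    rintro p ⟨hp, hl⟩ p' hp' h
    exact ⟨hp', onLine_step F hp hp' h hl⟩)
  have h1 : p ∈ {p | p ∈ PP ∧ OnLine PP B p} := by rw [h]; exact hp
  exact h1.2

/-- **(3)** for the point `x` -/
theorem mul_mem_of_perp (inj : Inj U PP B) {x : G} (hx : x ∈ PP) (hl : OnLine PP B x) {p : G} (hp : p ∈ PP)
    (hpx : p ≠ x) (h : B x p = 1) : x * p ∈ PP := by
  have hxU := F.sub x hx
  obtain ⟨y, hy, hyx, hxy, hxyP⟩ := hl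
  have hnr : ∀ p ∈ PP, ∃ w ∈ PP, B p w = -1 := fun p hp => not_rad F hy hx hyx hp
  set GG : Set G := {y | y ∈ PP ∧ y ≠ x ∧ B x y = 1 ∧ x * y ∈ PP} with hGG
  -- (i)
  have step : ∀ y ∈ GG, ∀ y' ∈ PP, B x y' = 1 → B y y' = -1 → y' ∈ GG := by
    rintro y ⟨hy, hyx, hxy, hxyP⟩ y' hy' h1 h2
    have hyU := F.sub y hy
    have hy'U := F.sub y' hy'
    have hxyU := U.mul_mem hxU hyU
    have h3 : x * y * y' ∈ PP := F.tr _ hxyP y' hy' (by rw [F.mul_left hxU hyU hy'U, h1, h2, one_mul])
    have h4 : x * y * y' * y ∈ PP := F.tr _ h3 y hy (by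
      rw [F.mul_left hxyU hy'U hyU, F.mul_left hxU hyU hyU, hxy, F.self y hyU, F.symm y' hy'U y hyU, h2]
      decide)
    have h5 : x * y * y' * y = x * y' := by
      rw [mul_assoc (x * y), F.comm y' hy'U y hyU, mul_assoc x, ← mul_assoc y y, F.sq y hyU, one_mul]
    rw [h5] at h4
    refine ⟨hy', ?_, h1, h4⟩
    rintro rfl
    rw [F.symm y hyU y' hy'U, hxy] at h2
    exact absurd h2 (by decide)
  have hyG : y ∈ GG := ⟨hy, hyx, hxy, hxyP⟩
  have hyU := F.sub y hy
  have hxyG : x * y ∈ GG := by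
    refine ⟨hxyP, ?_, ?_, ?_⟩
    · intro h1
      obtain ⟨w, hw, h2⟩ := hnr y hy
      exact ne_one F hw h2 (mul_eq_left.1 h1)
    · rw [F.mul x hxU x hxU y hyU, F.self x hxU, hxy, one_mul]
    · rw [← mul_assoc, F.sq x hxU, one_mul]
      exact hy
  set B0 : Subgroup G := closure GG with hB0
  have hGB : ∀ y ∈ GG, y ∈ B0 := fun y hy => subset_closure hy
  have hxB : x ∈ B0 := by
    have h1 := mul_mem (hGB _ hxyG) (hGB _ hyG)
    rwa [mul_assoc, F.sq y hyU, mul_one] at h1
  have hB : ∀ b ∈ B0, b ∈ U ∧ B x b = 1 := fun b hb =>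
    F.eq_one_of_closure (A := GG) (fun a ha => F.sub a ha.1) hxU (fun a ha => ha.2.2.1) hb
  have hgen : B0 ≤ closure {p | p ∈ PP ∧ p ∈ B0} := closure_mono fun p hp => ⟨hp.1, hGB p hp⟩
  -- a point not perpendicular to `B0` lies in `GG`
  have hpG : ∀ p ∈ PP, B x p = 1 → (∃ b ∈ B0, B p b = -1) → p ∈ GG := by
    rintro p hp h1 ⟨b, hb, h2⟩
    by_contra hc
    have h3 := (F.eq_one_of_closure (A := GG) (fun a ha => F.sub a ha.1) (F.sub p hp) (fun a ha => by
      by_contra h4
      exact hc (step a ha p hp h1 (by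
        rw [F.symm a (F.sub a ha.1) p (F.sub p hp)]
        exact Form.ne_of h4))) hb).2
    rw [h3] at h2
    exact absurd h2 (by decide)
  have habs : ∀ p ∈ PP, B x p = 1 → (∃ a ∈ B0, B p a = -1) → p ∈ B0 := fun p hp h1 h2 =>
    hGB p (hpG p hp h1 h2)
  have hnot : ∃ a ∈ B0, ∃ b ∈ B0, B a b = -1 := by
    by_contra hcon
    push Not at hcon
    rcases F.iso_le hx (fun a ha => (hB a ha).1) habs
      (fun a ha b hb => by
        by_contra h1
        exact hcon a ha b hb (Form.ne_of h1)) (hGB _ hyG) with h1 | h1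
    · obtain ⟨w, hw, h2⟩ := hnr y hy
      rw [h1 w (F.sub w hw)] at h2
      exact absurd h2 (by decide)
    · exact hyx (inj y hy x hx h1)
  have hfull : ∀ u ∈ U, B x u = 1 → u ∈ B0 := fun u hu h1 =>
    F.full hx (fun p hp h2 => inj p hp x hx h2) hxB hB hgen habs hnot hu h1
  -- the point `p`
  have hpU := F.sub p hp
  have h1 : ∃ b ∈ B0, B p b = -1 := by
    by_contra hcon
    push Not at hcon
    rcases F.rad_or hxU hpU (fun y hy h2 => by
      by_contra h3
      exact hcon y (hfull y hy h2) (Form.ne_of h3)) with h2 | h2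
    · obtain ⟨w, hw, h3⟩ := hnr p hp
      rw [h2 w (F.sub w hw)] at h3
      exact absurd h3 (by decide)
    · exact hpx (inj p hp x hx h2)
  exact (hpG p hp h h1).2.2.2

/-- **(3)**: if one totally isotropic line consists of points then all vectors `≠ 1` are points. -/
theorem all_points (inj : Inj U PP B) {x : G} (hx : x ∈ PP) (hl : OnLine PP B x) {u : G} (hu : u ∈ U)
    (hu1 : u ≠ 1) : u ∈ PP := by
  have key : ∀ p ∈ PP, ∀ q ∈ PP, p * q = 1 ∨ p * q ∈ PP := by
    intro p hp q hq
    by_cases hpq : q = p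
    · left
      rw [hpq, F.sq p (F.sub p hp)]
    · right
      by_cases h1 : B p q = 1
      · exact mul_mem_of_perp F inj hp (onLine_all F hx hl hp) hq hpq h1
      · exact F.tr p hp q hq (Form.ne_of h1)
  have h1 : u = 1 ∨ u ∈ PP := by
    refine closure_induction (p := fun u _ => u = 1 ∨ u ∈ PP) ?_ ?_ ?_ ?_ (F.gen hu)
    · exact fun p hp => Or.inr hp
    · exact Or.inl rfl
    · rintro a b _ _ ha hb
      rcases ha with rfl | ha
      · rw [one_mul]; exact hb
      · rcases hb with rfl | hb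
        · rw [mul_one]; exact Or.inr ha
        · exact key a ha b hb
    · rintro a _ ha
      rcases ha with rfl | ha
      · rw [inv_one]; exact Or.inl rfl
      · rw [F.inv (F.sub a ha)]; exact Or.inr ha
  exact h1.resolve_left hu1

/-- the radical is trivial -/
theorem rad_eq (inj : Inj U PP B) {x : G} (hx : x ∈ PP) (hl : OnLine PP B x) {u : G} (hu : u ∈ U)
    (h : ∀ y ∈ U, B u y = 1) : u = 1 := by
  by_contra hu1
  have h1 := all_points F inj hx hl hu hu1
  obtain ⟨y, hy, hyx, -, -⟩ := hl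
  obtain ⟨w, hw, h2⟩ := not_rad F hy hx hyx h1
  rw [h w (F.sub w hw)] at h2
  exact absurd h2 (by decide)

/-- **(4)**: a subgroup of `e^⊥` containing `e`, absorbing the points of `e^⊥`, is `⟨e⟩` or `e^⊥`. -/
theorem bot_or_perp (inj : Inj U PP B) {e : G} (he : e ∈ PP) (hl : OnLine PP B e) {A : Subgroup G} (heA : e ∈ A)
    (hA : ∀ a ∈ A, a ∈ U ∧ B e a = 1) (habs : ∀ p ∈ PP, B e p = 1 → (∃ a ∈ A, B p a = -1) → p ∈ A) :
    (∀ a ∈ A, a = 1 ∨ a = e) ∨ ∀ u ∈ U, B e u = 1 → u ∈ A := by
  by_cases hiso : ∀ a ∈ A, ∀ b ∈ A, B a b = 1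
  · left
    intro a ha
    have haU := (hA a ha).1
    rcases F.iso_le he (fun a ha => (hA a ha).1) habs hiso ha with h1 | h1
    · exact Or.inl (rad_eq F inj he hl haU h1)
    · right
      have h2 := rad_eq F inj he hl (U.mul_mem haU (F.sub e he)) h1
      rwa [mul_eq_one_iff_eq_inv, F.inv (F.sub e he)] at h2
  · right
    push Not at hiso
    obtain ⟨a, ha, b, hb, h1⟩ := hiso
    intro u hu h2
    refine F.full he (fun p hp h3 => inj p hp e he h3) heA hA (fun a ha => ?_) habs ⟨a, ha, b, hb, Form.ne_of h1⟩ hu h2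
    by_cases ha1 : a = 1
    · rw [ha1]; exact one_mem _
    · exact subset_closure ⟨all_points F inj he hl (hA a ha).1 ha1, ha⟩

end Cfsg.Agent.Omega.OM.KTwo.OneSymp
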