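import Cfsg.Agent.Omega.OM.KTwo.OneSymp

/-!
# Case (E), `d = 1`, `|N₁ : C(N₂)| = 2` (#18644 of helper118): (2), (3), (4) with the radical `v` (helper178)

`FormV U v PP B` : `U` elementary abelian, `1 ≠ v ∈ U` in the radical of the alternating form `B`, `p q v ∈ PP` for
non-perpendicular points `p, q`, the points are connected by 'not perpendicular', points are equal if they agree modulo
the radical, and some totally isotropic line modulo `v` consists of points.

* `FormV.all_points` (a) : `u = 1`, `u = v`, `u ∈ PP` or `u v ∈ PP` for `u ∈ U`;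
* `FormV.not_both` (b) : `p v ∉ PP` for `p ∈ PP`;   `FormV.rad_eq` (c) : the radical is `{1, v}`;
* `FormV.four_or_perp` (4) : an invariant subgroup of `x^⊥` containing `v`, `x` is `{1, v, x, x v}` or `x^⊥`.
-/

set_option autoImplicit false

namespace Cfsg.Agent.Omega.OM.KTwo.OneSympV

open Subgroup Cfsg.Agent.Omega.NOThreeL.RTools.Symp Cfsg.Agent.Omega.OM.KTwo.OneSymp

variable {G : Type*} [Group G]

/-- an alternating form on `U` with `v` in the radical, with points -/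
structure FormV (U : Subgroup G) (v : G) (PP : Set G) (B : G → G → ℤˣ) : Prop where
  sq : ∀ u ∈ U, u * u = 1
  comm : ∀ u ∈ U, ∀ w ∈ U, u * w = w * u
  sub : ∀ p ∈ PP, p ∈ U
  gen : U ≤ closure PP
  v_mem : v ∈ U
  v_ne : v ≠ 1
  mul : ∀ u ∈ U, ∀ w ∈ U, ∀ w' ∈ U, B u (w * w') = B u w * B u w'
  symm : ∀ u ∈ U, ∀ w ∈ U, B u w = B w u
  self : ∀ u ∈ U, B u u = 1
  vr : ∀ u ∈ U, B v u = 1
  tr : ∀ p ∈ PP, ∀ q ∈ PP, B p q = -1 → p * q * v ∈ PP
  conn : ∀ A : Set G, A ⊆ PP → A.Nonempty → (∀ p ∈ A, ∀ p' ∈ PP, B p p' = -1 → p' ∈ A) → A = PP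
  inj : ∀ p ∈ PP, ∀ q ∈ PP, (∀ y ∈ U, B (p * q) y = 1) → p = q
  line : ∃ x ∈ PP, ∃ y ∈ PP, x ≠ y ∧ B x y = 1 ∧ (x * y ∈ PP ∨ x * y * v ∈ PP)

/-- a complement of `⟨v⟩` -/
theorem exists_compl [Finite G] {U : Subgroup G} {v : G} (sq : ∀ u ∈ U, u * u = 1)
    (comm : ∀ u ∈ U, ∀ w ∈ U, u * w = w * u) (hv1 : v ≠ 1) :
    ∃ U₀ : Subgroup G, U₀ ≤ U ∧ v ∉ U₀ ∧ ∀ u ∈ U, u ∈ U₀ ∨ u * v ∈ U₀ := by
  have hfin : Finite (Subgroup G) := inferInstance
  obtain ⟨U₀, -, hU⟩ := Finite.exists_le_maximal (α := Subgroup G) (p := fun X => X ≤ U ∧ v ∉ X) (a := ⊥)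
    ⟨bot_le, by rwa [mem_bot]⟩
  refine ⟨U₀, hU.prop.1, hU.prop.2, fun u hu => ?_⟩
  by_contra hc
  push Not at hc
  -- the subgroup `U₀ ∪ U₀ u`
  let X : Subgroup G :=
    { carrier := {x | x ∈ U₀ ∨ x * u ∈ U₀}
      one_mem' := Or.inl (one_mem _)
      mul_mem' := by
        rintro a b (ha | ha) (hb | hb)
        · exact Or.inl (mul_mem ha hb)
        · exact Or.inr (by rw [mul_assoc]; exact mul_mem ha hb)
        · right
          have hbU := hU.prop.1 hb
          rw [mul_assoc, comm b hbU u hu, ← mul_assoc]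
          exact mul_mem ha hb
        · left
          have haU : a ∈ U := (U.mul_mem_cancel_right hu).1 (hU.prop.1 ha)
          have hbU : b ∈ U := (U.mul_mem_cancel_right hu).1 (hU.prop.1 hb)
          have h1 := mul_mem ha hb
          rwa [mul_assoc, comm b hbU u hu, ← mul_assoc u, sq u hu, one_mul] at h1
      inv_mem' := by
        rintro a (ha | ha)
        · exact Or.inl (inv_mem ha)
        · right
          have haU : a ∈ U := (U.mul_mem_cancel_right hu).1 (hU.prop.1 ha)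
          rwa [inv_eq_of_mul_eq_one_left (sq a haU)] }
  have hX : ∀ x, x ∈ X ↔ x ∈ U₀ ∨ x * u ∈ U₀ := fun x => Iff.rfl
  have hle : U₀ ≤ X := fun x hx => (hX x).2 (Or.inl hx)
  have huX : u ∈ X := (hX u).2 (Or.inr (by rw [sq u hu]; exact one_mem _))
  have hXU : X ≤ U := by
    intro x hx
    rcases (hX x).1 hx with h | h
    · exact hU.prop.1 h
    · exact (U.mul_mem_cancel_right hu).1 (hU.prop.1 h)
  have hvX : v ∉ X := by
    intro h
    rcases (hX v).1 h with h | h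
    · exact hU.prop.2 h
    · apply hc.2
      rwa [comm u hu v (hXU ((hX v).2 (Or.inr h)))]
  exact hc.1 (hU.2 ⟨hXU, hvX⟩ hle huX)

namespace FormV

variable {U : Subgroup G} {v : G} {PP : Set G} {B : G → G → ℤˣ} (F : FormV U v PP B)
include F

theorem inv {u : G} (hu : u ∈ U) : u⁻¹ = u := inv_eq_of_mul_eq_one_left (F.sq u hu)

theorem mul_left {u w x : G} (hu : u ∈ U) (hw : w ∈ U) (hx : x ∈ U) : B (u * w) x = B u x * B w x := by
  rw [F.symm _ (U.mul_mem hu hw) x hx, F.mul x hx u hu w hw, F.symm x hx u hu, F.symm x hx w hw]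

theorem mul_v {u w : G} (hu : u ∈ U) (hw : w ∈ U) : B (u * v) w = B u w := by
  rw [F.mul_left hu F.v_mem hw, F.vr w hw, mul_one]

theorem mul_v' {u w : G} (hu : u ∈ U) (hw : w ∈ U) : B w (u * v) = B w u := by
  rw [F.symm w hw _ (U.mul_mem hu F.v_mem), F.mul_v hu hw, F.symm u hu w hw]

/-- (b) -/
theorem not_both {p : G} (hp : p ∈ PP) : p * v ∉ PP := by
  intro h
  have hpU := F.sub p hp
  have h1 := F.inj p hp _ h fun y hy => by
    rw [← mul_assoc, F.sq p hpU, one_mul, F.vr y hy]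
  exact F.v_ne (mul_eq_left.1 h1.symm)

/-- the points of a complement -/
def pts (U₀ : Subgroup G) (v : G) (PP : Set G) : Set G := {u | u ∈ U₀ ∧ (u ∈ PP ∨ u * v ∈ PP)}

theorem vv : v * v = 1 := F.sq v F.v_mem

theorem mul_vv (x : G) : x * v * v = x := by rw [mul_assoc, F.vv, mul_one]

/-- the form on a complement of `⟨v⟩` -/
theorem form {U₀ : Subgroup G} (h0 : U₀ ≤ U) (hv : v ∉ U₀) (hU : ∀ u ∈ U, u ∈ U₀ ∨ u * v ∈ U₀) :
    Form U₀ (pts U₀ v PP) B := by
  refine ⟨fun u hu => F.sq u (h0 hu), fun u hu w hw => F.comm u (h0 hu) w (h0 hw), fun p hp => hp.1, ?_,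
    fun u hu w hw w' hw' => F.mul u (h0 hu) w (h0 hw) w' (h0 hw'), fun u hu w hw => F.symm u (h0 hu) w (h0 hw),
    fun u hu => F.self u (h0 hu), ?_, ?_⟩
  · -- generation
    have key : ∀ x ∈ closure PP, x ∈ U ∧ (x ∈ closure (pts U₀ v PP) ∨ x * v ∈ closure (pts U₀ v PP)) := by
      intro x hx
      refine closure_induction (p := fun x _ => x ∈ U ∧ (x ∈ closure (pts U₀ v PP) ∨ x * v ∈ closure (pts U₀ v PP)))
        ?_ ?_ ?_ ?_ hx
      · intro p hp
        have hpU := F.sub p hp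
        refine ⟨hpU, ?_⟩
        rcases hU p hpU with h | h
        · exact Or.inl (subset_closure ⟨h, Or.inl hp⟩)
        · exact Or.inr (subset_closure ⟨h, Or.inr (by rw [F.mul_vv]; exact hp)⟩)
      · exact ⟨one_mem _, Or.inl (one_mem _)⟩
      · rintro a b _ _ ⟨ha, ha'⟩ ⟨hb, hb'⟩
        refine ⟨mul_mem ha hb, ?_⟩
        rcases ha' with ha' | ha' <;> rcases hb' with hb' | hb'
        · exact Or.inl (mul_mem ha' hb')
        · exact Or.inr (by rw [mul_assoc]; exact mul_mem ha' hb')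
        · right
          rw [mul_assoc, F.comm b hb v F.v_mem, ← mul_assoc]
          exact mul_mem ha' hb'
        · left
          have h1 := mul_mem ha' hb'
          rwa [mul_assoc, F.comm b hb v F.v_mem, ← mul_assoc v, F.vv, one_mul] at h1
      · rintro a _ ⟨ha, ha'⟩
        rw [F.inv ha]
        exact ⟨ha, ha'⟩
    intro u hu
    have hle : closure (pts U₀ v PP) ≤ U₀ := (closure_le _).2 fun p hp => hp.1
    rcases (key u (F.gen (h0 hu))).2 with h | h
    · exact h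
    · exfalso
      apply hv
      have h1 := mul_mem (inv_mem hu) (hle h)
      rwa [inv_mul_cancel_left] at h1
  · -- transvections
    rintro p ⟨hp, hp'⟩ q ⟨hq, hq'⟩ h
    refine ⟨mul_mem hp hq, ?_⟩
    have hpU := h0 hp
    have hqU := h0 hq
    rcases hp' with hp' | hp' <;> rcases hq' with hq' | hq'
    · exact Or.inr (F.tr p hp' q hq' h)
    · left
      have h1 := F.tr p hp' _ hq' (by rw [F.mul_v' hqU hpU, h])
      rwa [← mul_assoc, F.mul_vv] at h1
    · left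
      have h1 := F.tr _ hp' q hq' (by rw [F.mul_v hpU hqU, h])
      rwa [mul_assoc p v q, F.comm v F.v_mem q hqU, ← mul_assoc, F.mul_vv] at h1
    · right
      have h1 := F.tr _ hp' _ hq' (by rw [F.mul_v hpU (U.mul_mem hqU F.v_mem), F.mul_v' hqU hpU, h])
      have h2 : p * v * (q * v) * v = p * q * v := by
        rw [mul_assoc (p * v), F.mul_vv, mul_assoc p v q, F.comm v F.v_mem q hqU, mul_assoc]
      rwa [h2] at h1
  · -- connectedness
    intro A hA hne hcl
    have hA' : {p | p ∈ PP ∧ (p ∈ A ∨ p * v ∈ A)} = PP := by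
      refine F.conn _ (fun p hp => hp.1) ?_ ?_
      · obtain ⟨a, ha⟩ := hne
        rcases (hA ha).2 with h | h
        · exact ⟨a, h, Or.inl ha⟩
        · exact ⟨a * v, h, Or.inr (by rw [F.mul_vv]; exact ha)⟩
      · rintro p ⟨hp, hpA⟩ p' hp' h
        have hpU := F.sub p hp
        have hp'U := F.sub p' hp'
        refine ⟨hp', ?_⟩
        -- the representatives
        obtain ⟨a, haA, haU, hap⟩ : ∃ a ∈ A, a ∈ U ∧ ∀ w ∈ U, B a w = B p w := by
          rcases hpA with h1 | h1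
          · exact ⟨p, h1, hpU, fun w _ => rfl⟩
          · exact ⟨p * v, h1, U.mul_mem hpU F.v_mem, fun w hw => F.mul_v hpU hw⟩
        rcases hU p' hp'U with h1 | h1
        · exact Or.inl (hcl a haA p' ⟨h1, Or.inl hp'⟩ (by rw [hap p' hp'U, h]))
        · right
          refine hcl a haA _ ⟨h1, Or.inr (by rw [F.mul_vv]; exact hp')⟩ ?_
          rw [hap _ (U.mul_mem hp'U F.v_mem), F.mul_v' hp'U hpU, h]
    refine Set.Subset.antisymm hA ?_
    rintro p ⟨hp, hp'⟩
    rcases hp' with h | h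
    · have h1 : p ∈ {p | p ∈ PP ∧ (p ∈ A ∨ p * v ∈ A)} := by rw [hA']; exact h
      rcases h1.2 with h2 | h2
      · exact h2
      · exfalso
        apply hv
        have h3 := mul_mem (inv_mem hp) (hA h2).1
        rwa [inv_mul_cancel_left] at h3
    · have h1 : p * v ∈ {p | p ∈ PP ∧ (p ∈ A ∨ p * v ∈ A)} := by rw [hA']; exact h
      rcases h1.2 with h2 | h2
      · exfalso
        apply hv
        have h3 := mul_mem (inv_mem hp) (hA h2).1
        rwa [inv_mul_cancel_left] at h3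
      · rwa [F.mul_vv] at h2

/-- points with the same image modulo the radical are equal, in a complement -/
theorem inj₀ {U₀ : Subgroup G} (h0 : U₀ ≤ U) (hv : v ∉ U₀) (hU : ∀ u ∈ U, u ∈ U₀ ∨ u * v ∈ U₀) :
    Inj U₀ (pts U₀ v PP) B := by
  rintro p ⟨hp, hp'⟩ q ⟨hq, hq'⟩ h
  have hpU := h0 hp
  have hqU := h0 hq
  have hpq : ∀ y ∈ U, B (p * q) y = 1 := by
    intro y hy
    rcases hU y hy with h1 | h1
    · exact h y h1
    · rw [← F.mul_v' hy (U.mul_mem hpU hqU)]
      exact h _ h1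
  have e1 : ∀ y ∈ U, B (p * (q * v)) y = 1 := fun y hy => by
    rw [← mul_assoc, F.mul_v (U.mul_mem hpU hqU) hy, hpq y hy]
  have e2 : ∀ y ∈ U, B (p * v * q) y = 1 := fun y hy => by
    rw [mul_assoc, F.comm v F.v_mem q hqU, ← mul_assoc, F.mul_v (U.mul_mem hpU hqU) hy, hpq y hy]
  have e3 : ∀ y ∈ U, B (p * v * (q * v)) y = 1 := fun y hy => by
    rw [← mul_assoc, F.mul_v (U.mul_mem (U.mul_mem hpU F.v_mem) hqU) hy]
    exact e2 y hy
  rcases hp' with hp' | hp' <;> rcases hq' with hq' | hq'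
  · exact F.inj p hp' q hq' hpq
  · exfalso
    have h1 := F.inj p hp' _ hq' e1
    apply hv
    have h2 := mul_mem (inv_mem hq) hp
    rwa [h1, inv_mul_cancel_left] at h2
  · exfalso
    have h1 := F.inj _ hp' q hq' e2
    apply hv
    have h2 := mul_mem (inv_mem hp) hq
    rwa [← h1, inv_mul_cancel_left] at h2
  · exact mul_right_cancel (F.inj _ hp' _ hq' e3)

/-- the representative in a complement -/
theorem exists_rep {U₀ : Subgroup G} (hU : ∀ u ∈ U, u ∈ U₀ ∨ u * v ∈ U₀) {u : G} (hu : u ∈ U) :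
    ∃ u₀ ∈ U₀, (u₀ = u ∨ u₀ = u * v) ∧ (∀ w ∈ U, B u₀ w = B u w) := by
  rcases hU u hu with h | h
  · exact ⟨u, h, Or.inl rfl, fun _ _ => rfl⟩
  · exact ⟨u * v, h, Or.inr rfl, fun w hw => F.mul_v hu hw⟩

theorem rep_pts {U₀ : Subgroup G} {p u₀ : G} (hp : p ∈ PP) (hu₀ : u₀ ∈ U₀) (h : u₀ = p ∨ u₀ = p * v) :
    u₀ ∈ pts U₀ v PP := by
  refine ⟨hu₀, ?_⟩
  rcases h with rfl | rfl
  · exact Or.inl hp
  · right
    rw [F.mul_vv]
    exact hp

/-- a line in a complement -/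
theorem exists_line {U₀ : Subgroup G} (h0 : U₀ ≤ U) (hU : ∀ u ∈ U, u ∈ U₀ ∨ u * v ∈ U₀) :
    ∃ x ∈ pts U₀ v PP, OnLine (pts U₀ v PP) B x := by
  obtain ⟨x, hx, y, hy, hxy, hB, hxyP⟩ := F.line
  have hxU := F.sub x hx
  have hyU := F.sub y hy
  obtain ⟨x₀, hx₀, ex, bx⟩ := F.exists_rep hU hxU
  obtain ⟨y₀, hy₀, ey, bY⟩ := F.exists_rep hU hyU
  have hx₀U := h0 hx₀
  have hy₀U := h0 hy₀
  refine ⟨x₀, F.rep_pts hx hx₀ ex, y₀, F.rep_pts hy hy₀ ey, ?_, ?_, ?_⟩
  · intro h
    rw [h] at ey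
    rcases ex with ex | ex <;> rcases ey with ey | ey
    · exact hxy (ex.symm.trans ey)
    · apply F.not_both hy
      rw [← ey, ex]; exact hx
    · apply F.not_both hx
      rw [← ex, ey]; exact hy
    · exact hxy (mul_right_cancel (ex.symm.trans ey))
  · rw [bx y₀ hy₀U, F.symm x hxU y₀ hy₀U, bY x hxU, F.symm y hyU x hxU, hB]
  · refine ⟨mul_mem hx₀ hy₀, ?_⟩
    have e : x₀ * y₀ = x * y ∨ x₀ * y₀ = x * y * v := by
      rcases ex with rfl | rfl <;> rcases ey with rfl | rfl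
      · exact Or.inl rfl
      · exact Or.inr (by rw [mul_assoc])
      · exact Or.inr (by rw [mul_assoc, F.comm v F.v_mem y₀ hyU, ← mul_assoc])
      · left
        rw [← mul_assoc, mul_assoc x v y, F.comm v F.v_mem y hyU, ← mul_assoc, F.mul_vv]
    rcases e with e | e
    · rw [e]
      exact hxyP
    · rw [e, F.mul_vv]
      exact hxyP.symm

/-- (a) -/
theorem all_points [Finite G] {u : G} (hu : u ∈ U) : u = 1 ∨ u = v ∨ u ∈ PP ∨ u * v ∈ PP := by
  obtain ⟨U₀, h0, hv, hU⟩ := exists_compl F.sq F.comm F.v_ne (U := U) (v := v)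
  obtain ⟨x, hx, hl⟩ := F.exists_line h0 hU
  have hF := F.form h0 hv hU
  have hi := F.inj₀ h0 hv hU
  obtain ⟨u₀, hu₀, e, -⟩ := F.exists_rep hU hu
  by_cases h1 : u₀ = 1
  · rcases e with e | e
    · exact Or.inl (e.symm.trans h1)
    · right; left
      rw [h1, eq_comm, mul_eq_one_iff_eq_inv, F.inv F.v_mem] at e
      exact e
  · have h2 := OneSymp.all_points hF hi hx hl hu₀ h1
    right; right
    rcases e with rfl | rfl
    · exact h2.2
    · have := h2.2
      rw [F.mul_vv] at this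
      exact this.symm

/-- (c) the radical is `{1, v}` -/
theorem rad_eq [Finite G] {u : G} (hu : u ∈ U) (h : ∀ y ∈ U, B u y = 1) : u = 1 ∨ u = v := by
  obtain ⟨U₀, h0, hv, hU⟩ := exists_compl F.sq F.comm F.v_ne (U := U) (v := v)
  obtain ⟨x, hx, hl⟩ := F.exists_line h0 hU
  have hF := F.form h0 hv hU
  have hi := F.inj₀ h0 hv hU
  obtain ⟨u₀, hu₀, e, b⟩ := F.exists_rep hU hu
  have h1 := OneSymp.rad_eq hF hi hx hl hu₀ fun y hy => by rw [b y (h0 hy), h y (h0 hy)]
  rcases e with e | e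
  · exact Or.inl (e.symm.trans h1)
  · right
    rw [h1, eq_comm, mul_eq_one_iff_eq_inv, F.inv F.v_mem] at e
    exact e

/-- every point is non-perpendicular to some point -/
theorem exists_nonperp [Finite G] {p : G} (hp : p ∈ PP) : ∃ q ∈ PP, B p q = -1 := by
  by_contra hc
  push Not at hc
  have hpU := F.sub p hp
  have h1 : ∀ y ∈ U, B p y = 1 := by
    intro y hy
    rcases F.all_points hy with rfl | rfl | h | h
    · have h := F.mul p hpU 1 U.one_mem 1 U.one_mem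
      rw [mul_one, units_mul_self] at h
      exact h
    · rw [F.symm p hpU _ hy, F.vr p hpU]
    · by_contra h2
      exact hc y h (Form.ne_of h2)
    · by_contra h2
      exact hc _ h (by rw [F.mul_v' hy hpU]; exact Form.ne_of h2)
  rcases F.rad_eq hpU h1 with rfl | rfl
  · -- `1 ∈ PP`
    have h2 : ({1} : Set G) = PP := F.conn {1} (by rintro _ rfl; exact hp) ⟨1, rfl⟩ (by
      rintro _ rfl p' hp' h2
      exact absurd h2 (hc p' hp'))
    obtain ⟨x, hx, y, hy, hxy, -⟩ := F.line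
    rw [← h2] at hx hy
    exact hxy (hx.trans hy.symm)
  · have h2 : ({p} : Set G) = PP := F.conn {p} (by rintro _ rfl; exact hp) ⟨p, rfl⟩ (by
      rintro _ rfl p' hp' h2
      exact absurd h2 (hc p' hp'))
    obtain ⟨x, hx, y, hy, hxy, -⟩ := F.line
    rw [← h2] at hx hy
    exact hxy (hx.trans hy.symm)

/-- (4) -/
theorem four_or_perp [Finite G] {x : G} (hx : x ∈ PP) {A : Subgroup G} (hvA : v ∈ A) (hxA : x ∈ A)
    (hA : ∀ a ∈ A, a ∈ U ∧ B x a = 1)
    (habs : ∀ p ∈ PP, B x p = 1 → ∀ a ∈ A, B p a = -1 → a * (p * v) ∈ A) :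
    (∀ a ∈ A, a = 1 ∨ a = v ∨ a = x ∨ a = x * v) ∨ ∀ u ∈ U, B x u = 1 → u ∈ A := by
  obtain ⟨U₀, h0, hv, hU⟩ := exists_compl F.sq F.comm F.v_ne (U := U) (v := v)
  obtain ⟨x', hx', hl'⟩ := F.exists_line h0 hU
  have hF := F.form h0 hv hU
  have hi := F.inj₀ h0 hv hU
  have hxU := F.sub x hx
  obtain ⟨x₀, hx₀, ex, bx⟩ := F.exists_rep hU hxU
  have hx₀P := F.rep_pts hx hx₀ ex
  have hl : OnLine (pts U₀ v PP) B x₀ := OneSymp.onLine_all hF hx' hl' hx₀P
  have hvm : ∀ a : G, a ∈ A → a * v ∈ A := fun a ha => mul_mem ha hvA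
  have hx₀A : x₀ ∈ A := by
    rcases ex with rfl | rfl
    · exact hxA
    · exact hvm _ hxA
  rcases OneSymp.bot_or_perp hF hi hx₀P hl (A := A ⊓ U₀) ⟨hx₀A, hx₀⟩
    (fun a ha => ⟨ha.2, by rw [bx a (h0 ha.2)]; exact (hA a ha.1).2⟩) (by
      rintro p ⟨hp, hp'⟩ h1 ⟨a, ha, h2⟩
      have hpU := h0 hp
      refine ⟨?_, hp⟩
      have haU := (hA a ha.1).1
      rw [bx p hpU] at h1
      rcases hp' with hp' | hp'
      · have h3 := A.mul_mem (A.inv_mem ha.1) (habs p hp' h1 a ha.1 h2)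
        rw [inv_mul_cancel_left] at h3
        have h4 := hvm _ h3
        rwa [F.mul_vv] at h4
      · have h3 := A.mul_mem (A.inv_mem ha.1) (habs _ hp' (by rw [F.mul_v' hpU hxU, h1]) a ha.1
          (by rw [F.mul_v hpU haU, h2]))
        rwa [inv_mul_cancel_left, F.mul_vv] at h3) with h1 | h1
  · left
    intro a ha
    have haU := (hA a ha).1
    obtain ⟨a₀, ha₀, ea, -⟩ := F.exists_rep hU haU
    have ha₀A : a₀ ∈ A := by
      rcases ea with rfl | rfl
      · exact ha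
      · exact hvm _ ha
    have e1 : a = a₀ ∨ a = a₀ * v := by
      rcases ea with rfl | rfl
      · exact Or.inl rfl
      · right; rw [F.mul_vv]
    have e2 : a₀ = 1 ∨ a₀ = x ∨ a₀ = x * v := by
      rcases h1 a₀ ⟨ha₀A, ha₀⟩ with e | e
      · exact Or.inl e
      · right; rw [e]; exact ex
    rcases e1 with e1 | e1 <;> rcases e2 with e2 | e2 | e2
    · left; rw [e1, e2]
    · right; right; left; rw [e1, e2]
    · right; right; right; rw [e1, e2]
    · right; left; rw [e1, e2, one_mul]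
    · right; right; right; rw [e1, e2]
    · right; right; left; rw [e1, e2, F.mul_vv]
  · right
    intro u hu h2
    obtain ⟨u₀, hu₀, eu, bu⟩ := F.exists_rep hU hu
    have h3 : u₀ ∈ A := (h1 u₀ hu₀ (by
      rw [bx u₀ (h0 hu₀), F.symm x hxU u₀ (h0 hu₀), bu x hxU, F.symm u hu x hxU, h2])).1
    rcases eu with rfl | rfl
    · exact h3
    · have h4 := hvm _ h3
      rwa [F.mul_vv] at h4

end FormV

end Cfsg.Agent.Omega.OM.KTwo.OneSympV
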