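import Cfsg.Agent.Omega.Half.AppNat

/-!
# NO-3S, sums of natural `SL₂(2)`-modules: the points of a block (project OMEGA, helper790 #14826 (1))

`M : NatK F S P V ⊥ k` with `|F| = 2`, `B` a block of `S` (`Half.NatA.Blk`), `V_B = fac M B`, `T = So M B = N_S(V_B)`.

* `pt M B` : the vector with all coordinates `(1, 0)` in `B` and `0` outside; `z = pt M univ`, `v_B = pt M B`;
* `conj_pt`, `fix` : `S` permutes them as it permutes the blocks; `T` centralises `v_B`;
* `fix_cases` : `C_V(T) = ⟨v_B, v_B'⟩`; `fix_fac` : `C_{V_B}(T) = ⟨v_B⟩`;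
* `mem_zc_iff` : `Ω₁Z(S) = ⟨z⟩`;
* `mem_zc_So_iff` : `Ω₁Z(T) = ⟨v_B, v_B'⟩ = Y`; `card_zc_So` : `|Y| = 4`.
-/

set_option autoImplicit false
set_option linter.unusedSectionVars false

namespace Cfsg.Agent.Omega.OM.KTwo

open Subgroup Cfsg Cfsg.Agent.ZN Cfsg.Agent.Omega.FFThm Cfsg.Agent.Omega.MinPar
open Cfsg.Agent.Omega.Half Cfsg.Agent.Omega.Half.NatA
open Cfsg.Agent.Omega.NatPair (ap ap_one ext2 ap_zero' ap_one')
open Cfsg.Agent.Lib.SL2Mat (up up_00 up_01)
open Cfsg.Agent.MinSimple.VModule (mem_zc zc_le normalizer_le_normalizer_zc)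

universe u

/-! ### The field with two elements -/

section field

variable {F : Type} [Field F]

theorem elt_cases (hq : Nat.card F = 2) (a : F) : a = 0 ∨ a = 1 := by
  obtain ⟨b, -, hb⟩ := (Nat.card_eq_two_iff' (0 : F)).1 hq
  by_cases h : a = 0
  · exact Or.inl h
  · right
    rw [hb a h, hb 1 one_ne_zero]

theorem vec_cases (hq : Nat.card F = 2) {x : Fin 2 → F} (h : x 1 = 0) : x = 0 ∨ x = ![1, 0] := by
  rcases elt_cases hq (x 0) with h0 | h0
  · left
    exact ext2 h0 h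
  · right
    exact ext2 h0 h

theorem e11_ne : (![1, 0] : Fin 2 → F) ≠ 0 := fun h => one_ne_zero (congrFun h 0)

end field

variable {G : Type u} [Group G] {F : Type} [Field F] {T H V : Subgroup G} {k : ℕ}

section pt

variable (M : NatK F T H V ⊥ k)

open Classical in
/-- the vector with all coordinates `(1, 0)` in `B` and `0` outside -/
noncomputable def pt (B : Set (Fin k)) : G := (M.surj fun i => if i ∈ B then ![1, 0] else 0).choose

theorem pt_V (B : Set (Fin k)) : pt M B ∈ V := by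
  classical
  exact (M.surj fun i => if i ∈ B then ![1, 0] else 0).choose_spec.1

theorem e_pt_mem {B : Set (Fin k)} {i : Fin k} (hi : i ∈ B) : M.e (pt M B) i = ![1, 0] := by
  classical
  have h := (M.surj fun i => if i ∈ B then ![1, 0] else 0).choose_spec.2
  exact (congrFun h i).trans (if_pos hi)

theorem e_pt_not {B : Set (Fin k)} {i : Fin k} (hi : i ∉ B) : M.e (pt M B) i = 0 := by
  classical
  have h := (M.surj fun i => if i ∈ B then ![1, 0] else 0).choose_spec.2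
  exact (congrFun h i).trans (if_neg hi)

theorem pt_mem (B : Set (Fin k)) : pt M B ∈ fac M B := ⟨pt_V M B, fun _ hi => e_pt_not M hi⟩

theorem e_pt_one (B : Set (Fin k)) (i : Fin k) : M.e (pt M B) i 1 = 0 := by
  by_cases hi : i ∈ B
  · rw [e_pt_mem M hi]; rfl
  · rw [e_pt_not M hi]; rfl

theorem pt_ne {B : Set (Fin k)} (hB : B.Nonempty) : pt M B ≠ 1 := by
  intro h
  obtain ⟨i, hi⟩ := hB
  have h1 := e_pt_mem M hi
  rw [h, e_one] at h1
  exact e11_ne h1.symm

theorem e_pt_ne_iff {B : Set (Fin k)} {i : Fin k} : M.e (pt M B) i = 0 ↔ i ∉ B := by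
  constructor
  · intro h hi
    rw [e_pt_mem M hi] at h
    exact e11_ne h
  · exact e_pt_not M

theorem pt_mul (B : Set (Fin k)) : pt M B * pt M Bᶜ = pt M Set.univ := by
  apply inj M (mul_mem (pt_V M B) (pt_V M _)) (pt_V M _)
  rw [M.mul _ (pt_V M B) _ (pt_V M _)]
  funext i
  rw [Pi.add_apply, e_pt_mem M (Set.mem_univ i)]
  by_cases hi : i ∈ B
  · rw [e_pt_mem M hi, e_pt_not M fun h : i ∈ Bᶜ => h hi, add_zero]
  · rw [e_pt_not M hi, e_pt_mem M hi, zero_add]

theorem pt_ne_of_ne {B C : Set (Fin k)} (h : B ≠ C) : pt M B ≠ pt M C := by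
  intro h1
  apply h
  ext i
  have h2 := e_pt_ne_iff M (B := B) (i := i)
  rw [h1, e_pt_ne_iff] at h2
  exact (not_iff_not.1 h2).symm

end pt

section fix

variable {M : NatK F T H V ⊥ k} {B : Set (Fin k)} (hq : Nat.card F = 2) (hA : Amb T H V)

include hA

theorem sq_one {x : G} (hx : x ∈ V) : x * x = 1 := by
  have := hA.sq x hx
  rwa [pow_two] at this

include hq

/-- `T` permutes the vectors `pt M B`. -/
theorem conj_pt {t : G} (ht : t ∈ T) {σ : Equiv.Perm (Fin k)} (hσ : Mv M t σ) (B : Set (Fin k)) :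
    t * pt M B * t⁻¹ = pt M (σ '' B) := by
  apply inj M (hA.conj_mem (hA.TH ht) (pt_V M B)) (pt_V M _)
  funext j
  obtain ⟨ρ, hρ⟩ := M.line t ht
  have h1 : M.e (t * pt M B * t⁻¹) j 1 = 0 := by
    have h2 := (hρ _ (pt_V M B) (ρ.symm j)).2 (e_pt_one M B _)
    rwa [ρ.apply_symm_apply] at h2
  have h2 : M.e (t * pt M B * t⁻¹) j = 0 ↔ j ∉ σ '' B := by
    have h3 := hσ _ (pt_V M B) (σ.symm j)
    rw [σ.apply_symm_apply, e_pt_ne_iff] at h3
    rw [h3, Equiv.image_eq_preimage_symm]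
    rfl
  by_cases hj : j ∈ σ '' B
  · rw [e_pt_mem M hj]
    exact (vec_cases hq h1).resolve_left fun h => (h2.1 h) hj
  · rw [e_pt_not M hj]
    exact h2.2 hj

theorem fix_univ {t : G} (ht : t ∈ T) : t * pt M Set.univ * t⁻¹ = pt M Set.univ := by
  obtain ⟨σ, hσ⟩ := M.perm t (hA.TH ht)
  rw [conj_pt hq hA ht hσ, Set.image_univ, σ.surjective.range_eq]

/-- `T = N_S(V_B)` centralises `v_B`. -/
theorem fix (hB : Blk M B) {t : G} (ht : t ∈ So M B) : t * pt M B * t⁻¹ = pt M B := by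
  obtain ⟨σ, hσ⟩ := M.perm t (hA.TH ht.1)
  rw [conj_pt hq hA ht.1 hσ, (mem_So hA hB ht.1 hσ).1 ht]

omit hq in
/-- the upper unitriangular elements are in `So` -/
theorem exists_unip : ∃ t ∈ T, (Mv M t 1) ∧ ∀ v ∈ V, ∀ i, M.e (t * v * t⁻¹) i = ap (up 1) (M.e v i) := by
  obtain ⟨t, ht, h1, -⟩ := M.unip fun _ => 1
  refine ⟨t, ht, fun v hv i => ?_, h1⟩
  rw [Equiv.Perm.one_apply, h1 v hv i]
  constructor
  · intro h2
    have h3 : ap (up (1 : F))⁻¹ (ap (up 1) (M.e v i)) = M.e v i := Cfsg.Agent.Omega.NatPair.ap_inv_ap _ _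
    rw [h2, ap_zero] at h3
    exact h3.symm
  · intro h2
    rw [h2, ap_zero]

omit hq in
theorem line_of_fix (hB : Blk M B) {v : G} (hv : v ∈ V) (hfix : ∀ t ∈ So M B, t * v * t⁻¹ = v) (i : Fin k) :
    M.e v i 1 = 0 := by
  obtain ⟨t, ht, h1, h2⟩ := exists_unip (M := M) hA
  have h3 : t ∈ So M B := by
    rw [mem_So hA hB ht h1]
    simp
  have h4 := h2 v hv i
  rw [hfix t h3] at h4
  have h5 := congrFun h4 0
  rw [ap_zero', up_00, up_01, one_mul, one_mul] at h5
  exact left_eq_add.1 h5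

omit hq in
theorem zero_iff (hB : Blk M B) {v : G} (hv : v ∈ V) (hfix : ∀ t ∈ So M B, t * v * t⁻¹ = v) {i j : Fin k}
    (hi : i ∈ B) (hj : j ∈ B) : M.e v i = 0 ↔ M.e v j = 0 := by
  obtain ⟨t, ht, σ, hσ, h1⟩ := exists_move hA hB hi hj
  have h2 := hσ v hv i
  rw [hfix t ht, h1] at h2
  exact h2.symm

/-- `C_V(T) = ⟨v_B, v_B'⟩`. -/
theorem fix_cases (hB : Blk M B) {v : G} (hv : v ∈ V) (hfix : ∀ t ∈ So M B, t * v * t⁻¹ = v) :
    v = 1 ∨ v = pt M B ∨ v = pt M Bᶜ ∨ v = pt M Set.univ := by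
  have hl := line_of_fix hA hB hv hfix
  have hfix' : ∀ t ∈ So M Bᶜ, t * v * t⁻¹ = v := by
    rw [So_compl hA hB]
    exact hfix
  obtain ⟨i, hi⟩ := hB.ne
  obtain ⟨j, hj⟩ := hB.ne'
  have key : ∀ x, M.e v x = 0 ∨ M.e v x = ![1, 0] := fun x => vec_cases hq (hl x)
  have hbi : ∀ x ∈ B, M.e v x = M.e v i := by
    intro x hx
    have h1 := zero_iff hA hB hv hfix hx hi
    rcases key x with h2 | h2 <;> rcases key i with h3 | h3
    · rw [h2, h3]
    · rw [h1.1 h2] at h3
      exact absurd h3.symm e11_ne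
    · rw [h1.2 h3] at h2
      exact absurd h2.symm e11_ne
    · rw [h2, h3]
  have hbj : ∀ x ∉ B, M.e v x = M.e v j := by
    intro x hx
    have h1 := zero_iff hA hB.compl hv hfix' (i := x) (j := j) hx hj
    rcases key x with h2 | h2 <;> rcases key j with h3 | h3
    · rw [h2, h3]
    · rw [h1.1 h2] at h3
      exact absurd h3.symm e11_ne
    · rw [h1.2 h3] at h2
      exact absurd h2.symm e11_ne
    · rw [h2, h3]
  have eqv : ∀ C : Set (Fin k), (∀ x, M.e v x = M.e (pt M C) x) → v = pt M C :=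
    fun C h => inj M hv (pt_V M C) (funext h)
  rcases key i with h2 | h2 <;> rcases key j with h3 | h3
  · left
    apply eq_one M hv
    funext x
    by_cases hx : x ∈ B
    · rw [hbi x hx, h2]; rfl
    · rw [hbj x hx, h3]; rfl
  · right; right; left
    refine eqv _ fun x => ?_
    by_cases hx : x ∈ B
    · rw [hbi x hx, h2, e_pt_not M fun h : x ∈ Bᶜ => h hx]
    · rw [hbj x hx, h3, e_pt_mem M hx]
  · right; left
    refine eqv _ fun x => ?_
    by_cases hx : x ∈ B
    · rw [hbi x hx, h2, e_pt_mem M hx]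
    · rw [hbj x hx, h3, e_pt_not M hx]
  · right; right; right
    refine eqv _ fun x => ?_
    rw [e_pt_mem M (Set.mem_univ x)]
    by_cases hx : x ∈ B
    · rw [hbi x hx, h2]
    · rw [hbj x hx, h3]

omit hq hA in
theorem compl_ne (hB : Blk M B) : B ≠ Bᶜ := by
  obtain ⟨i, hi⟩ := hB.ne
  intro h
  have h1 : i ∈ Bᶜ := h ▸ hi
  exact h1 hi

omit hq hA in
theorem ne_univ (hB : Blk M B) : B ≠ Set.univ := by
  obtain ⟨i, hi⟩ := hB.ne'
  intro h
  exact hi (h ▸ Set.mem_univ i)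

/-- `C_{V_B}(T) = ⟨v_B⟩`. -/
theorem fix_fac (hB : Blk M B) {v : G} (hv : v ∈ fac M B) (hfix : ∀ t ∈ So M B, t * v * t⁻¹ = v) :
    v = 1 ∨ v = pt M B := by
  obtain ⟨j, hj⟩ := hB.ne'
  have h0 := hv.2 j hj
  rcases fix_cases hq hA hB hv.1 hfix with h | h | h | h
  · exact Or.inl h
  · exact Or.inr h
  · rw [h, e_pt_mem M hj] at h0
    exact absurd h0 e11_ne
  · rw [h, e_pt_mem M (Set.mem_univ j)] at h0
    exact absurd h0 e11_ne

/-- `Ω₁Z(S) = ⟨z⟩`. -/
theorem mem_zc_iff (hB : Blk M B) {x : G} : x ∈ zc T ↔ x = 1 ∨ x = pt M Set.univ := by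
  constructor
  · intro hx
    have hV := hA.zc hx
    have hc : ∀ t ∈ T, t * x * t⁻¹ = x := fun t ht => by
      rw [(mem_zc.1 hx).2.1 t ht]
      group
    rcases fix_cases hq hA hB hV (fun t ht => hc t ht.1) with h | h | h | h
    · exact Or.inl h
    · exfalso
      obtain ⟨s, hs, hns⟩ := exists_swap hA hB
      obtain ⟨σ, hσ⟩ := exists_mv (M := M) hA hs
      have h1 := hB.blk s hs σ hσ
      have h2 : σ '' B = Bᶜ := h1.resolve_left fun h3 => hns ((mem_So hA hB hs hσ).2 h3)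
      have h3 := conj_pt hq hA hs hσ B
      rw [← h, hc s hs, h, h2] at h3
      exact pt_ne_of_ne M (compl_ne hB) h3
    · exfalso
      obtain ⟨s, hs, hns⟩ := exists_swap hA hB.compl
      obtain ⟨σ, hσ⟩ := exists_mv (M := M) hA hs
      have h1 := hB.compl.blk s hs σ hσ
      have h2 : σ '' Bᶜ = Bᶜᶜ := h1.resolve_left fun h3 => hns ((mem_So hA hB.compl hs hσ).2 h3)
      have h3 := conj_pt hq hA hs hσ Bᶜ
      rw [← h, hc s hs, h, h2] at h3
      exact pt_ne_of_ne M (compl_ne hB.compl) h3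
    · exact Or.inr h
  · rintro (rfl | rfl)
    · exact one_mem _
    · refine mem_zc.2 ⟨hA.VT (pt_V M _), fun t ht => ?_, hA.sq _ (pt_V M _)⟩
      have h1 := fix_univ (M := M) hq hA ht
      calc t * pt M Set.univ = t * pt M Set.univ * t⁻¹ * t := by group
        _ = pt M Set.univ * t := by rw [h1]

end fix

/-! ### `Ω₁Z(T)`, `T = N_S(V_B)` -/

section zcSo

variable {M : NatK F T H V ⊥ k} {B : Set (Fin k)} (hq : Nat.card F = 2) (hA : Amb T H V) (hB : Blk M B)

include hA hB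

theorem So_mul {a b : G} (ha : a ∈ T) (hb : b ∈ T) (ha' : a ∉ So M B) (hb' : b ∉ So M B) : a * b ∈ So M B := by
  obtain ⟨σ, hσ⟩ := exists_mv (M := M) hA ha
  obtain ⟨ρ, hρ⟩ := exists_mv (M := M) hA hb
  have h1 : Mv M (a * b) (σ * ρ) := by
    intro v hv i
    have e1 : a * b * v * (a * b)⁻¹ = a * (b * v * b⁻¹) * a⁻¹ := by group
    rw [e1, Equiv.Perm.mul_apply, hσ _ (hA.conj_mem (hA.TH hb) hv), hρ v hv]
  rw [mem_So hA hB ha hσ] at ha'
  rw [mem_So hA hB hb hρ] at hb'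
  rw [mem_So hA hB (mul_mem ha hb) h1]
  have h2 := (hB.blk a ha σ hσ).resolve_left ha'
  have h3 := (hB.blk b hb ρ hρ).resolve_left hb'
  rw [Equiv.Perm.coe_mul, Set.image_comp, h3, image_compl, h2, compl_compl]

theorem le_normalizer_So : T ≤ normalizer (So M B : Set G) := by
  have key : ∀ s ∈ T, ∀ t ∈ So M B, s * t * s⁻¹ ∈ So M B := by
    intro s hs t ht
    by_cases hsS : s ∈ So M B
    · exact mul_mem (mul_mem hsS ht) (inv_mem hsS)
    · by_contra h1
      have h2 := So_mul hA hB (mul_mem (mul_mem hs ht.1) (inv_mem hs)) hs h1 hsS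
      have h3 : s * t * s⁻¹ * s = s * t := by group
      rw [h3] at h2
      exact hsS ((Subgroup.mul_mem_cancel_right _ ht).1 h2)
  intro s hs
  rw [mem_normalizer_iff]
  intro t
  refine ⟨key s hs t, fun h => ?_⟩
  have := key s⁻¹ (inv_mem hs) _ h
  simpa [mul_assoc] using this

theorem V_le_So : V ≤ So M B := by
  refine le_inf hA.VT fun v hv => ?_
  rw [mem_normalizer_iff]
  intro x
  constructor
  · intro hx
    have : v * x * v⁻¹ = x := by rw [hA.comm v hv x hx.1]; group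
    rwa [this]
  · intro hx
    have h1 := hA.comm v hv _ hx.1
    have h2 : x = v * x * v⁻¹ := by
      have h3 : v * (v * x * v⁻¹) = v * x := by rw [h1]; group
      exact (mul_left_cancel h3).symm
    rwa [h2]

include hq

/-- an element of `S` outside `T` exchanges `v_B` and `v_B'` -/
theorem conj_swap {s : G} (hs : s ∈ T) (hns : s ∉ So M B) : s * pt M B * s⁻¹ = pt M Bᶜ := by
  obtain ⟨σ, hσ⟩ := exists_mv (M := M) hA hs
  have h1 := hB.blk s hs σ hσ
  have h2 : σ '' B = Bᶜ := h1.resolve_left fun h3 => hns ((mem_So hA hB hs hσ).2 h3)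
  rw [conj_pt hq hA hs hσ, h2]

theorem conj_swap' {s : G} (hs : s ∈ T) (hns : s ∉ So M B) : s * pt M Bᶜ * s⁻¹ = pt M B := by
  have hns' : s ∉ So M Bᶜ := by rwa [So_compl hA hB]
  rw [conj_swap hq hA hB.compl hs hns', compl_compl]

theorem pt_mem_zc_So : pt M B ∈ zc (So M B) := by
  refine mem_zc.2 ⟨V_le_So hA hB (pt_V M B), fun t ht => ?_, hA.sq _ (pt_V M _)⟩
  have h1 := fix hq hA hB ht
  calc t * pt M B = t * pt M B * t⁻¹ * t := by group
    _ = pt M B * t := by rw [h1]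

theorem pt_compl_mem_zc_So : pt M Bᶜ ∈ zc (So M B) := by
  have h := pt_mem_zc_So hq hA hB.compl
  rwa [So_compl hA hB] at h

theorem fixT {s x : G} (hs : s ∈ T) (hns : s ∉ So M B) (hx : x ∈ zc (So M B)) (h1 : s * x * s⁻¹ = x) :
    x ∈ zc T := by
  refine mem_zc.2 ⟨(mem_zc.1 hx).1.1, fun t ht => ?_, (mem_zc.1 hx).2.2⟩
  by_cases htS : t ∈ So M B
  · exact (mem_zc.1 hx).2.1 t htS
  · have h2 : t * s ∈ So M B := So_mul hA hB ht hs htS hns
    have h3 := (mem_zc.1 hx).2.1 _ h2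
    have h4 : s * x = x * s := by
      calc s * x = s * x * s⁻¹ * s := by group
        _ = x * s := by rw [h1]
    have h5 : t * x * s = x * t * s := by
      rw [mul_assoc t x s, ← h4, ← mul_assoc, h3, mul_assoc]
    exact mul_right_cancel h5

/-- **`Ω₁Z(T) = ⟨v_B, v_B'⟩`.** -/
theorem mem_zc_So_iff {x : G} : x ∈ zc (So M B) ↔ x = 1 ∨ x = pt M B ∨ x = pt M Bᶜ ∨ x = pt M Set.univ := by
  constructor
  · intro hx
    obtain ⟨s, hs, hns⟩ := exists_swap hA hB
    have hss : s * s ∈ So M B := So_mul hA hB hs hs hns hns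
    have hsx : s * x * s⁻¹ ∈ zc (So M B) :=
      (mem_normalizer_iff.1 (normalizer_le_normalizer_zc _ (le_normalizer_So hA hB hs)) x).1 hx
    have hcomm : x * (s * x * s⁻¹) = (s * x * s⁻¹) * x := (mem_zc.1 hsx).2.1 _ (mem_zc.1 hx).1
    have hxx : ∀ y ∈ zc (So M B), y * y = 1 := fun y hy => by
      have := (mem_zc.1 hy).2.2
      rwa [pow_two] at this
    have hyT : x * (s * x * s⁻¹) ∈ zc T := by
      refine fixT hq hA hB hs hns (mul_mem hx hsx) ?_
      have h1 : s * s * x = x * (s * s) := (mem_zc.1 hx).2.1 _ hss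
      calc s * (x * (s * x * s⁻¹)) * s⁻¹ = (s * x * s⁻¹) * (s * s * x * (s * s)⁻¹) := by group
        _ = (s * x * s⁻¹) * x := by rw [h1]; group
        _ = x * (s * x * s⁻¹) := hcomm.symm
    rcases (mem_zc_iff hq hA hB).1 hyT with h1 | h1
    · have h2 : s * x * s⁻¹ = x := by
        have h3 : x * (s * x * s⁻¹) = x * x := by rw [h1, hxx x hx]
        exact mul_left_cancel h3
      rcases (mem_zc_iff hq hA hB).1 (fixT hq hA hB hs hns hx h2) with h4 | h4
      · exact Or.inl h4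
      · exact Or.inr (Or.inr (Or.inr h4))
    · have hb := pt_mem_zc_So hq hA hB
      have hx' : x * pt M B ∈ zc (So M B) := mul_mem hx hb
      have h2 : s * (x * pt M B) * s⁻¹ = x * pt M B := by
        have e1 : s * (x * pt M B) * s⁻¹ = (s * x * s⁻¹) * (s * pt M B * s⁻¹) := by group
        have e2 : s * x * s⁻¹ = x * pt M Set.univ := by
          rw [← h1, ← mul_assoc, hxx x hx, one_mul]
        rw [e1, e2, conj_swap hq hA hB hs hns, ← pt_mul M B, ← mul_assoc, mul_assoc _ (pt M Bᶜ) (pt M Bᶜ),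
          sq_one hA (pt_V M _), mul_one]
      rcases (mem_zc_iff hq hA hB).1 (fixT hq hA hB hs hns hx' h2) with h4 | h4
      · right; left
        calc x = x * (pt M B * pt M B) := by rw [sq_one hA (pt_V M _), mul_one]
          _ = x * pt M B * pt M B := by group
          _ = pt M B := by rw [h4, one_mul]
      · right; right; left
        calc x = x * (pt M B * pt M B) := by rw [sq_one hA (pt_V M _), mul_one]
          _ = x * pt M B * pt M B := by group
          _ = pt M B * pt M Bᶜ * pt M B := by rw [h4, pt_mul]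
          _ = pt M B * (pt M Bᶜ * pt M B) := by group
          _ = pt M B * (pt M B * pt M Bᶜ) := by rw [hA.comm _ (pt_V M Bᶜ) _ (pt_V M B)]
          _ = pt M Bᶜ := by rw [← mul_assoc, sq_one hA (pt_V M _), one_mul]
  · rintro (rfl | rfl | rfl | rfl)
    · exact one_mem _
    · exact pt_mem_zc_So hq hA hB
    · exact pt_compl_mem_zc_So hq hA hB
    · rw [← pt_mul M B]
      exact mul_mem (pt_mem_zc_So hq hA hB) (pt_compl_mem_zc_So hq hA hB)

theorem card_zc_So : Nat.card (zc (So M B)) = 4 := by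
  have h1 : ((zc (So M B) : Subgroup G) : Set G) = {1, pt M B, pt M Bᶜ, pt M Set.univ} := by
    ext x
    rw [SetLike.mem_coe, mem_zc_So_iff hq hA hB]
    simp
  have h2 : Nat.card (zc (So M B)) = ((zc (So M B) : Subgroup G) : Set G).ncard := rfl
  have n1 : pt M B ≠ 1 := pt_ne M hB.ne
  have n2 : pt M Bᶜ ≠ 1 := pt_ne M hB.ne'
  have n3 : pt M Set.univ ≠ 1 := pt_ne M (hB.ne.mono (Set.subset_univ _))
  have n4 : pt M B ≠ pt M Bᶜ := pt_ne_of_ne M (compl_ne hB)
  have n5 : pt M B ≠ pt M Set.univ := pt_ne_of_ne M (ne_univ hB)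
  have n6 : pt M Bᶜ ≠ pt M Set.univ := pt_ne_of_ne M (ne_univ hB.compl)
  rw [h2, h1, Set.ncard_insert_of_notMem, Set.ncard_insert_of_notMem, Set.ncard_pair n6]
  · simp [n4, n5]
  · simp [n1.symm, n2.symm, n3.symm]

end zcSo

end Cfsg.Agent.Omega.OM.KTwo
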