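import Cfsg.Agent.Omega.OM.KTwo.One

/-!
# NO-3S, `V_P` the sum of two natural `SL₂(2)`-modules: the situation (helper790 #14826)

`Sit S P T U v` : `V_P = U 0 × U 1` (four-groups), `T = N_S(U i)`, `v i ∈ U i` centralised by `T`,
`Ω₁Z(T) = ⟨v 0, v 1⟩`, `Ω₁Z(S) = ⟨v 0 v 1⟩`; `T` is a Sylow 2-subgroup of `C_G(v i)` and `N_G(U i)` ((1));
`U j ≤ Z(O₂(C_G(v i)))` for `i ≠ j` (HALF LEMMA, (2)).

* `exists_sit` : `Hyp S P`, `NatK` with `k = 2`, `|F| = 2` and no `P' ∈ P*(S)` with `|V_P'| = 4`, `⟨P', C_G(z)⟩` nonlocal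
  give `Sit`.
-/

set_option autoImplicit false
set_option linter.unusedSectionVars false

namespace Cfsg.Agent.Omega.OM.KTwo

open Subgroup Cfsg Cfsg.Agent.ZN Cfsg.Agent.Omega.FFThm Cfsg.Agent.Omega.MinPar
open Cfsg.Agent.Omega.Half Cfsg.Agent.Omega.Half.NatA
open Cfsg.Agent.Omega.NatPair (ap ap_one exists_ap)
open Cfsg.Agent.Omega.NO3S Cfsg.Agent.Omega.FrameNOFF
open Cfsg.Agent.ZN.ChoiceSit (Syl)
open Cfsg.Agent.MinSimple.VModule (mem_zc zc_le normalizer_le_normalizer_zc zc_le_zl le_normalizer_zl zl_le)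
open scoped Pointwise

universe u

variable {G : Type u} [Group G]

/-- **The situation of NO-3S, `k = 2`, `q = 2`.** -/
structure Sit [Finite G] (S : Sylow 2 G) (P T : Subgroup G) (U : Fin 2 → Subgroup G) (v : Fin 2 → G) : Prop where
  hyp : Hyp S P
  T_eq : ∀ i, T = (S : Subgroup G) ⊓ normalizer (U i : Set G)
  card_T : Nat.card (S : Subgroup G) = 2 * Nat.card T
  le : ∀ i, U i ≤ zl (S : Subgroup G) P
  four : ∀ i, Nat.card (U i) = 4
  inf : ∀ i j, i ≠ j → U i ⊓ U j = ⊥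
  sup : ∀ i j, i ≠ j → zl (S : Subgroup G) P ≤ U i ⊔ U j
  mem : ∀ i, v i ∈ U i
  ne : ∀ i, v i ≠ 1
  cen : ∀ i, ∀ t ∈ T, t * v i * t⁻¹ = v i
  zT : ∀ x, x ∈ zc T ↔ x = 1 ∨ x = v 0 ∨ x = v 1 ∨ x = v 0 * v 1
  zS : ∀ x, x ∈ zc (S : Subgroup G) ↔ x = 1 ∨ x = v 0 * v 1
  /-- `S` exchanges `U 0` and `U 1` -/
  swap : ∃ s ∈ (S : Subgroup G), s * s ∈ T ∧ ∀ i j, i ≠ j → MulAut.conj s • U i = U j ∧ s * v i * s⁻¹ = v j
  perm : ∀ p ∈ P, ∃ σ : Equiv.Perm (Fin 2), ∀ i, MulAut.conj p • U i = U (σ i)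
  /-- `C_P(U j)` is transitive on the involutions of `U i` -/
  tr : ∀ i j, i ≠ j → ∀ x ∈ U i, x ≠ 1 → ∃ l ∈ P, l ∈ centralizer (U j : Set G) ∧ MulAut.conj l • U i = U i ∧
    l * v i * l⁻¹ = x
  gen : ∀ K : Subgroup G, (S : Subgroup G) ≤ K → (∀ i, P ⊓ centralizer (U i : Set G) ≤ K) → P ≤ K
  syl : ∀ i, Syl T (centralizer ({v i} : Set G))
  sylN : ∀ i, Syl T (normalizer (U i : Set G))
  half : ∀ i j, i ≠ j → U j ≤ o2 (centralizer ({v i} : Set G)) ∧
    o2 (centralizer ({v i} : Set G)) ≤ centralizer (U j : Set G)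

section two

variable {F : Type} [Field F] {T H V : Subgroup G} (M : NatK F T H V ⊥ 2)

theorem compl_two {i j : Fin 2} (hij : i ≠ j) : ({i} : Set (Fin 2))ᶜ = {j} := by
  ext x
  simp only [Set.mem_compl_iff, Set.mem_singleton_iff]
  revert i j x
  decide

theorem card_fac (hq : Nat.card F = 2) (i : Fin 2) : Nat.card (fac M {i}) = 4 := by
  have hF : Finite F := Nat.finite_of_card_ne_zero (by rw [hq]; norm_num)
  have h1 : Nat.card (Fin 2 → F) = Nat.card (fac M {i}) := by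
    refine (Nat.card_congr (Equiv.ofBijective (fun v : fac M {i} => M.e (v : G) i) ⟨?_, ?_⟩)).symm
    · intro v w hvw
      apply Subtype.ext
      apply inj M v.2.1 w.2.1
      funext x
      by_cases hx : x = i
      · rw [hx]; exact hvw
      · rw [v.2.2 x hx, w.2.2 x hx]
    · intro x
      obtain ⟨v, hv, hx⟩ := exists_fac M {i} fun _ => x
      exact ⟨⟨v, hv⟩, hx i rfl⟩
  rw [← h1]
  simp [Nat.card_fun, hq]

theorem le_fac_sup {i j : Fin 2} (hij : i ≠ j) : V ≤ fac M {i} ⊔ fac M {j} := by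
  intro v hv
  obtain ⟨w, hw, hwi⟩ := exists_fac M {i} (M.e v)
  have h1 : w⁻¹ * v ∈ fac M {j} := by
    refine ⟨mul_mem (inv_mem hw.1) hv, fun x hx => ?_⟩
    have hxi : x = i := by
      have : x ∈ ({j} : Set (Fin 2))ᶜ := hx
      rwa [compl_two hij.symm] at this
    rw [M.mul _ (inv_mem hw.1) v hv, e_inv M hw.1, Pi.add_apply, Pi.neg_apply, hxi, hwi i rfl, neg_add_cancel]
  have e : v = w * (w⁻¹ * v) := by group
  rw [e]
  exact mul_mem (mem_sup_left hw) (mem_sup_right h1)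

end two

section exists_sit

variable [Finite G] {S : Sylow 2 G} {P : Subgroup G} {F : Type} [Field F]

theorem smul_fac {T H V : Subgroup G} {k : ℕ} {M : NatK F T H V ⊥ k} (hA : Amb T H V) {g : G} (hg : g ∈ H)
    {σ : Equiv.Perm (Fin k)} (hσ : Mv M g σ) (B : Set (Fin k)) :
    MulAut.conj g • fac M B = fac M (σ '' B) := by
  apply le_antisymm
  · intro x hx
    rw [NoFF.Basic.mem_conj] at hx
    have h1 := hσ.conj M hA hg hx
    have e : g * (g⁻¹ * x * g) * g⁻¹ = x := by group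
    rwa [e] at h1
  · intro x hx
    rw [NoFF.Basic.mem_conj]
    have h1 := (hσ.inv M hA hg).conj M hA (inv_mem hg) hx
    have h2 : σ.symm '' (σ '' B) = B := by
      rw [← Set.image_comp]
      simp
    rw [h2, inv_inv] at h1
    exact h1

/-- **(1), (2)**: the situation. -/
theorem exists_sit (h : Hyp S P) (hq : Nat.card F = 2)
    (M : NatK F (S : Subgroup G) P (zl (S : Subgroup G) P) ⊥ 2)
    (hno : ∀ P' : Subgroup G, IsParS (S : Subgroup G) P' → NonLoc P' (CZ (S : Subgroup G)) →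
      Nat.card (zl (S : Subgroup G) P') ≠ 4) :
    Sit S P (So M {0}) (fun i => fac M {i}) (fun i => pt M {i}) := by
  have hA := amb h
  have hB : ∀ i : Fin 2, Blk M {i} := blk_two M
  have hT : ∀ i : Fin 2, So M {0} = So M {i} := by
    intro i
    by_cases hi : i = 0
    · rw [hi]
    · rw [← compl_two (i := i) (j := 0) hi, So_compl hA (hB i)]
  have huniv : pt M {(0 : Fin 2)} * pt M {(1 : Fin 2)} = pt M Set.univ := by
    rw [← compl_two (i := 0) (j := 1) (by decide), pt_mul]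
  constructor
  · exact h
  · exact fun i => hT i
  · exact card_So hA (hB 0)
  · exact fun i => fac_le M _
  · exact fun i => card_fac M hq i
  · intro i j hij
    rw [eq_bot_iff]
    rintro x ⟨h1, h2⟩
    rw [mem_bot]
    refine fac_inf_compl M (B := {i}) h1 ?_
    rw [compl_two hij]
    exact h2
  · exact fun i j hij => le_fac_sup M hij
  · exact fun i => pt_mem M _
  · exact fun i => pt_ne M ⟨i, rfl⟩
  · intro i t ht
    exact fix hq hA (hB i) (hT i ▸ ht)
  · intro x
    rw [mem_zc_So_iff hq hA (hB 0), compl_two (i := 0) (j := 1) (by decide), huniv]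
  · intro x
    rw [mem_zc_iff hq hA (hB 0), huniv]
  · obtain ⟨s, hs, hns⟩ := exists_swap hA (hB 0)
    refine ⟨s, hs, So_mul hA (hB 0) hs hs hns hns, fun i j hij => ?_⟩
    have hnsi : s ∉ So M {i} := by rwa [← hT i]
    obtain ⟨σ, hσ⟩ := exists_mv (M := M) hA hs
    have h1 := (hB i).blk s hs σ hσ
    have h2 : σ '' {i} = {j} := by
      rw [← compl_two hij]
      exact h1.resolve_left fun h3 => hnsi ((mem_So hA (hB i) hs hσ).2 h3)
    refine ⟨?_, ?_⟩
    · rw [smul_fac hA (hA.TH hs) hσ, h2]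
    · rw [conj_pt hq hA hs hσ, h2]
  · intro p hp
    obtain ⟨σ, hσ⟩ := M.perm p hp
    refine ⟨σ, fun i => ?_⟩
    rw [smul_fac hA hp hσ, Set.image_singleton]
  · intro i j hij x hx hx1
    have hxi : M.e x i ≠ 0 := by
      intro h0
      apply hx1
      apply eq_one M hx.1
      funext y
      by_cases hy : y = i
      · rw [hy, h0]; rfl
      · exact hx.2 y hy
    have hvi : M.e (pt M {i}) i ≠ 0 := by
      rw [e_pt_mem M (B := {i}) (i := i) rfl]
      exact e11_ne
    obtain ⟨A, hAx⟩ := exists_ap hvi hxi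
    obtain ⟨l, hl, hlA, -⟩ := M.lift (Function.update 1 i A)
    have h1 : ∀ v ∈ zl (S : Subgroup G) P, M.e (l * v * l⁻¹) i = ap A (M.e v i) := fun v hv => by
      rw [hlA v hv i, Function.update_self]
    have h2 : ∀ v ∈ zl (S : Subgroup G) P, ∀ y, y ≠ i → M.e (l * v * l⁻¹) y = M.e v y := fun v hv y hy => by
      rw [hlA v hv y, Function.update_of_ne hy, Pi.one_apply, ap_one]
    have hmv : Mv M l 1 := by
      intro v hv y
      rw [Equiv.Perm.one_apply]
      by_cases hy : y = i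
      · rw [hy, h1 v hv]
        constructor
        · intro h3
          have h4 : ap A⁻¹ (ap A (M.e v i)) = M.e v i := Cfsg.Agent.Omega.NatPair.ap_inv_ap _ _
          rw [h3, ap_zero] at h4
          exact h4.symm
        · intro h3
          rw [h3, ap_zero]
      · rw [h2 v hv y hy]
    refine ⟨l, hl, ?_, ?_, ?_⟩
    · refine mem_centralizer_fac hA hl (fun v hv y hy h0 => ?_) fun v hv y hy => ?_
      · have hyi : y = i := by
          have : y ∈ ({j} : Set (Fin 2))ᶜ := hy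
          rwa [compl_two hij.symm] at this
        rw [hyi] at h0 ⊢
        rw [h1 v hv, h0, ap_zero]
      · exact h2 v hv y fun h3 => hij (h3.symm.trans hy)
    · rw [smul_fac hA hl hmv]
      simp
    · apply inj M (hA.conj_mem hl (pt_V M _)) hx.1
      funext y
      by_cases hy : y = i
      · rw [hy, h1 _ (pt_V M _), hAx]
      · rw [h2 _ (pt_V M _) y hy, hx.2 y hy]
        exact e_pt_not M (B := {i}) hy
  · intro K hS hK
    refine gen_fac hA (M := M) (B := {0}) hS (hK 0) ?_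
    rw [compl_two (i := 0) (j := 1) (by decide)]
    exact hK 1
  · intro i
    rw [hT i]
    exact syl_centralizer h hq (hB i) hno
  · intro i
    rw [hT i]
    exact syl_normalizer h hq (hB i) hno
  · intro i j hij
    exact app_two h.ctx.char2 S M hA hij (pt_mem M _) (pt_ne M ⟨i, rfl⟩)

end exists_sit

end Cfsg.Agent.Omega.OM.KTwo
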