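import Cfsg.Agent.Omega.OM.KTwo.StrSp

/-!
# The structure lemma in the transvection case (helper918 #19487, section 0, (gl); TV2 (#16747) at group level)

`h : TBase C D M T N v e x₀ a`, two elements of `C` act on `N` as different transvections with centre `x₀ e`:

* `TBase.clique` : any two points `p ≠ q` are joined (`q ↦ q p e` for some element with centre `p e`);
* `TBase.gl_e` : `e = 1`, if `p ∈ Pts` implies `p v ∉ Pts`; `TBase.gl_all` : all elements `≠ 1` of `N` are points;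
* `TBase.gl_E` : an invariant subgroup of `N` containing `x₀`, `a` is `N`.
-/

set_option autoImplicit false
set_option linter.unusedSectionVars false

namespace Cfsg.Agent.Omega.OM.KTwo.StrSp

open Subgroup

universe u

variable {G : Type u} [Group G]

/-- `C_N(t)` -/
def kerS (N : Subgroup G) (t : G) : Set G := {n | n ∈ N ∧ t * n * t⁻¹ = n}

/-- the hyperplanes of the transvections with centre `p e` -/
def Phi (C N : Subgroup G) (e p : G) : Set (Set G) := {S | ∃ t, Tr C N e p t ∧ S = kerS N t}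

/-- `p - q` -/
def Ad (C N : Subgroup G) (e p q : G) : Prop := ∃ t, Tr C N e p t ∧ t * q * t⁻¹ ≠ q

/-- the conjugate of a set -/
def cS (c : G) (S : Set G) : Set G := {x | c⁻¹ * x * c ∈ S}

theorem cS_inj (c : G) : Function.Injective (cS c) := by
  intro S S' h
  ext x
  have h1 : c * x * c⁻¹ ∈ cS c S ↔ c * x * c⁻¹ ∈ cS c S' := by rw [h]
  have e : c⁻¹ * (c * x * c⁻¹) * c = x := by group
  simpa only [cS, Set.mem_ofPred_eq, e] using h1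

namespace TBase

variable {C D M T N : Subgroup G} {v e x₀ a : G} (h : TBase C D M T N v e x₀ a)
include h

/-- a transvection fixes its centre -/
theorem tr_self {p t : G} (ht : Tr C N e p t) : t * p * t⁻¹ = p := by
  have hpe := h.pe_mem ht
  have h2 : t * (p * e) * t⁻¹ = p * e := by
    rcases ht.2.1 _ hpe with h2 | h2
    · exact h2
    · exfalso
      rw [h.sq _ hpe] at h2
      apply h.pe_ne ht
      have : p * e = t⁻¹ * (t * (p * e) * t⁻¹) * t := by group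
      rw [this, h2]; group
  have h3 : p = p * e * e := by rw [mul_assoc, h.ee, mul_one]
  have h4 : t * p * t⁻¹ = p * e * e := by
    calc t * p * t⁻¹ = t * (p * e * e) * t⁻¹ := by rw [← h3]
      _ = t * (p * e) * t⁻¹ * (t * e * t⁻¹) := by group
      _ = p * e * e := by rw [h2, h.e_conj ht.1]
  rw [h4, ← h3]

theorem tr_pe {p t : G} (ht : Tr C N e p t) : t * (p * e) * t⁻¹ = p * e := by
  rw [h.conj_mul' t, h.tr_self ht, h.e_conj ht.1]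

/-- products of transvections with the same centre -/
theorem tr_mul {p t s : G} (ht : Tr C N e p t) (hs : Tr C N e p s) {n : G} (hn : n ∈ N) :
    (t * s * n * (t * s)⁻¹ = n ∨ t * s * n * (t * s)⁻¹ = n * (p * e)) ∧
      (t * s * n * (t * s)⁻¹ = n ↔ (t * n * t⁻¹ = n ↔ s * n * s⁻¹ = n)) := by
  have hne := h.pe_ne ht
  have hpe := h.pe_mem ht
  have e1 : t * s * n * (t * s)⁻¹ = t * (s * n * s⁻¹) * t⁻¹ := by group
  rw [e1]
  have hn1 : n * (p * e) ≠ n := fun h1 => hne (mul_eq_left.1 h1)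
  rcases hs.2.1 n hn with h1 | h1
  · rw [h1]
    exact ⟨ht.2.1 n hn, by simp⟩
  · rw [h1, h.conj_mul' t, h.tr_pe ht]
    rcases ht.2.1 n hn with h2 | h2
    · rw [h2]
      exact ⟨Or.inr rfl, by simp [hn1]⟩
    · rw [h2, mul_assoc n, h.sq _ hpe, mul_one]
      exact ⟨Or.inl rfl, by simp [hn1]⟩

theorem tr_mul' {p t s : G} (ht : Tr C N e p t) (hs : Tr C N e p s) (hne : ∃ n ∈ N, ¬ (t * n * t⁻¹ = n ↔ s * n * s⁻¹ = n)) :
    Tr C N e p (t * s) := by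
  obtain ⟨n, hn, h1⟩ := hne
  exact ⟨mul_mem ht.1 hs.1, fun m hm => (h.tr_mul ht hs hm).1, n, hn, fun h2 => h1 ((h.tr_mul ht hs hn).2.1 h2)⟩

/-- (a) -/
theorem tr_a {p q f g : G} (hp : p ∈ Pts C x₀) (hq : q ∈ Pts C x₀) (hf : Tr C N e p f) (hfq : f * q * f⁻¹ = q)
    (hg : Tr C N e q g) (hgp : g * p * g⁻¹ ≠ p) :
    ∃ t, Tr C N e q t ∧ ∀ n ∈ N, (t * n * t⁻¹ = n ↔ f * n * f⁻¹ = n) := by
  have hpN := h.pt_mem hp
  have hqN := h.pt_mem hq
  have hpe := h.pe_mem hf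
  have hqe := h.pe_mem hg
  have hee := h.ee
  have hgp' : g * p * g⁻¹ = p * (q * e) := (hg.2.1 p hpN).resolve_left hgp
  have hfqe : f * (q * e) * f⁻¹ = q * e := by rw [h.conj_mul' f, hfq, h.e_conj hf.1]
  -- the conjugate `g f g⁻¹`
  have hk := h.conj_tr hf hg.1
  rw [hgp'] at hk
  have hcen : p * (q * e) * e = p * q := by rw [mul_assoc, mul_assoc q, hee, mul_one]
  -- its fixed points
  have hfix : ∀ n ∈ N, (g * f * g⁻¹ * n * (g * f * g⁻¹)⁻¹ = n ↔ f * n * f⁻¹ = n) := by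
    intro n hn
    have e1 : g * f * g⁻¹ * n * (g * f * g⁻¹)⁻¹ = g * (f * (g⁻¹ * n * g) * f⁻¹) * g⁻¹ := by group
    have e2 : n = g * (g⁻¹ * n * g) * g⁻¹ := by group
    have h1 : g * (f * (g⁻¹ * n * g) * f⁻¹) * g⁻¹ = n ↔ f * (g⁻¹ * n * g) * f⁻¹ = g⁻¹ * n * g := by
      constructor
      · intro h1
        calc f * (g⁻¹ * n * g) * f⁻¹ = g⁻¹ * (g * (f * (g⁻¹ * n * g) * f⁻¹) * g⁻¹) * g := by group
          _ = g⁻¹ * n * g := by rw [h1]
      · intro h1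
        rw [h1]; group
    rw [e1, h1]
    have hm := h.conj_N' hg.1 hn
    rcases hg.2.1 _ hm with h2 | h2
    · rw [← e2] at h2
      rw [← h2]
    · rw [← e2] at h2
      have h3 : g⁻¹ * n * g = n * (q * e) := by
        calc g⁻¹ * n * g = g⁻¹ * n * g * (q * e) * (q * e) := by rw [mul_assoc (g⁻¹ * n * g), h.sq _ hqe, mul_one]
          _ = n * (q * e) := by rw [← h2]
      rw [h3, h.conj_mul' f, hfqe]
      exact ⟨fun h4 => mul_right_cancel h4, fun h4 => by rw [h4]⟩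
  refine ⟨g * f * g⁻¹ * f, ⟨mul_mem hk.1 hf.1, fun n hn => ?_, ?_⟩, fun n hn => ?_⟩
  all_goals
    have key : ∀ n ∈ N, (f * n * f⁻¹ = n → g * f * g⁻¹ * f * n * (g * f * g⁻¹ * f)⁻¹ = n) ∧
        (f * n * f⁻¹ ≠ n → g * f * g⁻¹ * f * n * (g * f * g⁻¹ * f)⁻¹ = n * (q * e)) := by
      intro n hn
      have e1 : g * f * g⁻¹ * f * n * (g * f * g⁻¹ * f)⁻¹ =
          g * f * g⁻¹ * (f * n * f⁻¹) * (g * f * g⁻¹)⁻¹ := by group
      constructor
      · intro h1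
        rw [e1, h1]
        exact (hfix n hn).2 h1
      · intro h1
        rw [e1, (hf.2.1 n hn).resolve_left h1, h.conj_mul' (g * f * g⁻¹), (hfix _ hpe).2 (h.tr_pe hf),
          (hk.2.1 n hn).resolve_left fun h2 => h1 ((hfix n hn).1 h2), hcen, mul_assoc n]
        congr 1
        calc p * q * (p * e) = q * p * (p * e) := by rw [h.comm p hpN q hqN]
          _ = q * (p * p) * e := by group
          _ = q * e := by rw [h.sq p hpN, mul_one]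
  · by_cases h1 : f * n * f⁻¹ = n
    · exact Or.inl ((key n hn).1 h1)
    · exact Or.inr ((key n hn).2 h1)
  · obtain ⟨n, hn, h1⟩ := hf.2.2
    refine ⟨n, hn, fun h2 => h.pe_ne hg ?_⟩
    rw [(key n hn).2 h1] at h2
    exact mul_eq_left.1 h2
  · constructor
    · intro h2
      by_contra h1
      rw [(key n hn).2 h1] at h2
      exact h.pe_ne hg (mul_eq_left.1 h2)
    · exact (key n hn).1

theorem kerS_conj {c t : G} (hc : c ∈ C) : kerS N (c * t * c⁻¹) = cS c (kerS N t) := by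
  ext n
  constructor
  · rintro ⟨hn, h1⟩
    refine ⟨h.conj_N' hc hn, ?_⟩
    calc t * (c⁻¹ * n * c) * t⁻¹ = c⁻¹ * (c * t * c⁻¹ * n * (c * t * c⁻¹)⁻¹) * c := by group
      _ = c⁻¹ * n * c := by rw [h1]
  · rintro ⟨hn, h1⟩
    have e2 : n = c * (c⁻¹ * n * c) * c⁻¹ := by group
    refine ⟨?_, ?_⟩
    · rw [e2]; exact h.conj_N hc hn
    · calc c * t * c⁻¹ * n * (c * t * c⁻¹)⁻¹ = c * (t * (c⁻¹ * n * c) * t⁻¹) * c⁻¹ := by group
        _ = n := by rw [h1]; group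

theorem Phi_conj {c p : G} (hc : c ∈ C) : Phi C N e (c * p * c⁻¹) = cS c '' Phi C N e p := by
  ext S
  constructor
  · rintro ⟨t, ht, rfl⟩
    have h1 := h.conj_tr ht (inv_mem hc)
    have e0 : c⁻¹ * (c * p * c⁻¹) * c⁻¹⁻¹ = p := by group
    rw [e0] at h1
    refine ⟨_, ⟨_, h1, rfl⟩, ?_⟩
    rw [← h.kerS_conj hc]
    congr 1
    group
  · rintro ⟨_, ⟨t, ht, rfl⟩, rfl⟩
    exact ⟨_, h.conj_tr ht hc, (h.kerS_conj hc).symm⟩

theorem ncard_Phi {p q : G} (hp : p ∈ Pts C x₀) (hq : q ∈ Pts C x₀) : (Phi C N e p).ncard = (Phi C N e q).ncard := by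
  obtain ⟨g, hg, rfl⟩ := hp
  obtain ⟨g', hg', rfl⟩ := hq
  rw [h.Phi_conj hg, h.Phi_conj hg', Set.ncard_image_of_injective _ (cS_inj g),
    Set.ncard_image_of_injective _ (cS_inj g')]

theorem ad_symm [Finite G] {p q : G} (hp : p ∈ Pts C x₀) (hq : q ∈ Pts C x₀) (h1 : Ad C N e p q) : Ad C N e q p := by
  by_contra hc
  have hc' : ∀ t, Tr C N e q t → t * p * t⁻¹ = p := by
    intro t ht
    by_contra h2
    exact hc ⟨t, ht, h2⟩
  obtain ⟨g, hg, hgq⟩ := h1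
  have hle : Phi C N e q ⊆ Phi C N e p := by
    rintro _ ⟨f, hf, rfl⟩
    obtain ⟨t, ht, h2⟩ := h.tr_a hq hp hf (hc' f hf) hg hgq
    refine ⟨t, ht, ?_⟩
    ext n
    exact ⟨fun ⟨hn, h3⟩ => ⟨hn, (h2 n hn).2 h3⟩, fun ⟨hn, h3⟩ => ⟨hn, (h2 n hn).1 h3⟩⟩
  have heq := Set.eq_of_subset_of_ncard_le hle (h.ncard_Phi hp hq).le (Set.toFinite _)
  have h2 : kerS N g ∈ Phi C N e q := by rw [heq]; exact ⟨g, hg, rfl⟩
  obtain ⟨f, hf, h3⟩ := h2
  have h4 : q ∈ kerS N g := by rw [h3]; exact ⟨h.pt_mem hq, h.tr_self hf⟩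
  exact hgq h4.2

/-- `N` is generated by the points -/
theorem exists_moved {p t : G} (ht : Tr C N e p t) : ∃ q ∈ Pts C x₀, t * q * t⁻¹ ≠ q := by
  by_contra hc
  push Not at hc
  obtain ⟨n, hn, hn1⟩ := ht.2.2
  apply hn1
  refine closure_induction (p := fun x _ => t * x * t⁻¹ = x) (fun q hq => hc q hq) (by group) ?_ ?_ (h.gen hn)
  · intro x y _ _ hx hy
    rw [h.conj_mul' t, hx, hy]
  · intro x _ hx
    calc t * x⁻¹ * t⁻¹ = (t * x * t⁻¹)⁻¹ := by group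
      _ = x⁻¹ := by rw [hx]

/-- `u`, `x` not joined, both joined to `y`: they agree on the transvections with centre `y` -/
theorem agree_aux [Finite G] {u x y f : G} (hu : u ∈ Pts C x₀) (hy : y ∈ Pts C x₀) (hux : ¬ Ad C N e u x)
    (hxN : x ∈ N) (huy : Ad C N e u y) (hf : Tr C N e y f) (h1 : f * u * f⁻¹ = u) : f * x * f⁻¹ = x := by
  by_contra h2
  obtain ⟨g, hg, hgy⟩ := huy
  obtain ⟨t, ht, h3⟩ := h.tr_a hy hu hf h1 hg hgy
  exact hux ⟨t, ht, fun h4 => h2 ((h3 x hxN).1 h4)⟩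

theorem agree [Finite G] {u x y f : G} (hu : u ∈ Pts C x₀) (hx : x ∈ Pts C x₀) (hy : y ∈ Pts C x₀)
    (hux : ¬ Ad C N e u x) (huy : Ad C N e u y) (hxy : Ad C N e x y) (hf : Tr C N e y f) :
    f * u * f⁻¹ = u ↔ f * x * f⁻¹ = x :=
  ⟨h.agree_aux hu hy hux (h.pt_mem hx) huy hf,
    h.agree_aux hx hy (fun h1 => hux (h.ad_symm hx hu h1)) (h.pt_mem hu) hxy hf⟩

section no

variable (hno : ∃ t t', Tr C N e x₀ t ∧ Tr C N e x₀ t' ∧ ∃ n ∈ N, t * n * t⁻¹ ≠ t' * n * t'⁻¹)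
include hno

/-- a transvection with centre `y e` fixing `u` -/
theorem exists_psi {y u : G} (hy : y ∈ Pts C x₀) (hu : u ∈ Pts C x₀) : ∃ t, Tr C N e y t ∧ t * u * t⁻¹ = u := by
  obtain ⟨c, hc, rfl⟩ := hy
  obtain ⟨t, t', ht, ht', n, hn, hne⟩ := hno
  have h1 := h.conj_tr ht hc
  have h2 := h.conj_tr ht' hc
  by_cases h3 : c * t * c⁻¹ * u * (c * t * c⁻¹)⁻¹ = u
  · exact ⟨_, h1, h3⟩
  by_cases h4 : c * t' * c⁻¹ * u * (c * t' * c⁻¹)⁻¹ = u
  · exact ⟨_, h2, h4⟩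
  refine ⟨_, h.tr_mul' h1 h2 ⟨c * n * c⁻¹, h.conj_N hc hn, fun h5 => ?_⟩,
    (h.tr_mul h1 h2 (h.pt_mem hu)).2.2 (iff_of_false h3 h4)⟩
  have e1 : ∀ s : G, c * s * c⁻¹ * (c * n * c⁻¹) * (c * s * c⁻¹)⁻¹ = c * n * c⁻¹ ↔ s * n * s⁻¹ = n := by
    intro s
    have e2 : c * s * c⁻¹ * (c * n * c⁻¹) * (c * s * c⁻¹)⁻¹ = c * (s * n * s⁻¹) * c⁻¹ := by group
    rw [e2]
    exact ⟨fun h => mul_left_cancel (mul_right_cancel h), fun h => by rw [h]⟩
  rw [e1, e1] at h5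
  apply hne
  by_cases h6 : t * n * t⁻¹ = n
  · rw [h6, h5.1 h6]
  · rw [(ht.2.1 n hn).resolve_left h6, (ht'.2.1 n hn).resolve_left fun h7 => h6 (h5.2 h7)]

/-- one half of `Φ_u = Φ_x` -/
theorem half [Finite G] {u x y ψ ψu ψx : G} (hu : u ∈ Pts C x₀) (hx : x ∈ Pts C x₀) (hy : y ∈ Pts C x₀)
    (hux : ¬ Ad C N e u x) (huy : Ad C N e u y) (hxy : Ad C N e x y) (hψu : Tr C N e u ψu) (hψx : Tr C N e x ψx)
    (h1 : ∀ n ∈ N, (ψu * n * ψu⁻¹ = n ↔ ψ * n * ψ⁻¹ = n)) (h2 : ∀ n ∈ N, (ψx * n * ψx⁻¹ = n ↔ ψ * n * ψ⁻¹ = n))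
    (hψ : ψ * y * ψ⁻¹ ≠ y) {g : G} (hg : Tr C N e u g) :
    ∃ g', Tr C N e x g' ∧ ∀ n ∈ N, (g' * n * g'⁻¹ = n ↔ g * n * g⁻¹ = n) := by
  have hyN := h.pt_mem hy
  -- the case `g` fixes `y`
  have key : ∀ g, Tr C N e u g → g * y * g⁻¹ = y →
      ∃ g', Tr C N e x g' ∧ ∀ n ∈ N, (g' * n * g'⁻¹ = n ↔ g * n * g⁻¹ = n) := by
    intro g hg hgy
    obtain ⟨k, hk, hku⟩ := h.ad_symm hu hy huy
    obtain ⟨gy, hgy', h3⟩ := h.tr_a hu hy hg hgy hk hku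
    have h4 : gy * u * gy⁻¹ = u := (h3 u (h.pt_mem hu)).2 (h.tr_self hg)
    have h5 := (h.agree hu hx hy hux huy hxy hgy').1 h4
    obtain ⟨l, hl, hly⟩ := hxy
    obtain ⟨g', hg', h6⟩ := h.tr_a hy hx hgy' h5 hl hly
    exact ⟨g', hg', fun n hn => (h6 n hn).trans (h3 n hn)⟩
  by_cases hgy : g * y * g⁻¹ = y
  · exact key g hg hgy
  by_cases hsame : ∀ n ∈ N, (g * n * g⁻¹ = n ↔ ψu * n * ψu⁻¹ = n)
  · exact ⟨ψx, hψx, fun n hn => ((h2 n hn).trans (h1 n hn).symm).trans (hsame n hn).symm⟩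
  push Not at hsame
  have hgψ : Tr C N e u (g * ψu) := h.tr_mul' hg hψu (by
    obtain ⟨n, hn, h3⟩ := hsame
    refine ⟨n, hn, fun h4 => ?_⟩
    rcases h3 with ⟨h5, h6⟩ | ⟨h5, h6⟩
    · exact h6 (h4.1 h5)
    · exact h5 (h4.2 h6))
  have hψuy : ψu * y * ψu⁻¹ ≠ y := fun h3 => hψ ((h1 y hyN).1 h3)
  have h3 : g * ψu * y * (g * ψu)⁻¹ = y := (h.tr_mul hg hψu hyN).2.2 (iff_of_false hgy hψuy)
  obtain ⟨k, hk, h4⟩ := key _ hgψ h3
  -- `k ψx`
  have h5 : ∀ n ∈ N, (k * ψx * n * (k * ψx)⁻¹ = n ↔ g * n * g⁻¹ = n) := by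
    intro n hn
    rw [(h.tr_mul hk hψx hn).2, h4 n hn, (h.tr_mul hg hψu hn).2, h1 n hn, h2 n hn]
    tauto
  obtain ⟨n, hn, hn1⟩ := hg.2.2
  refine ⟨k * ψx, h.tr_mul' hk hψx ⟨n, hn, fun h6 => hn1 ?_⟩, h5⟩
  exact (h5 n hn).1 ((h.tr_mul hk hψx hn).2.2 h6)

/-- **(1)**: `-` is transitive -/
theorem ad_trans [Finite G] {u y x : G} (hu : u ∈ Pts C x₀) (hy : y ∈ Pts C x₀) (hx : x ∈ Pts C x₀)
    (huy : Ad C N e u y) (hxy : Ad C N e x y) (hne : u ≠ x) : Ad C N e u x := by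
  by_contra hux
  have hxu : ¬ Ad C N e x u := fun h1 => hux (h.ad_symm hx hu h1)
  have huN := h.pt_mem hu
  have hxN := h.pt_mem hx
  obtain ⟨ψ, hψ, hψu⟩ := h.exists_psi hno hy hu
  have hψx := (h.agree hu hx hy hux huy hxy hψ).1 hψu
  obtain ⟨g₁, hg₁, hg₁y⟩ := huy
  obtain ⟨g₂, hg₂, hg₂y⟩ := hxy
  obtain ⟨a₁, ha₁, h1⟩ := h.tr_a hy hu hψ hψu hg₁ hg₁y
  obtain ⟨a₂, ha₂, h2⟩ := h.tr_a hy hx hψ hψx hg₂ hg₂y
  obtain ⟨y', hy', hψy'⟩ := h.exists_moved hψ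
  have hy'N := h.pt_mem hy'
  have huy' : Ad C N e u y' := ⟨a₁, ha₁, fun h3 => hψy' ((h1 y' hy'N).1 h3)⟩
  have hxy' : Ad C N e x y' := ⟨a₂, ha₂, fun h3 => hψy' ((h2 y' hy'N).1 h3)⟩
  have hB : ∀ g, Tr C N e u g → ∃ g', Tr C N e x g' ∧ ∀ n ∈ N, (g' * n * g'⁻¹ = n ↔ g * n * g⁻¹ = n) :=
    fun g hg => h.half hno hu hx hy' hux huy' hxy' ha₁ ha₂ h1 h2 hψy' hg
  have hB' : ∀ g, Tr C N e x g → ∃ g', Tr C N e u g' ∧ ∀ n ∈ N, (g' * n * g'⁻¹ = n ↔ g * n * g⁻¹ = n) :=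
    fun g hg => h.half hno hx hu hy' hxu hxy' huy' ha₂ ha₁ h2 h1 hψy' hg
  -- `u`, `x` agree on all transvections
  have hall : ∀ z ∈ Pts C x₀, ∀ f, Tr C N e z f → (f * u * f⁻¹ = u ↔ f * x * f⁻¹ = x) := by
    intro z hz f hf
    by_cases h3 : Ad C N e u z
    · have h4 : Ad C N e x z := by
        obtain ⟨g, hg, hgz⟩ := h3
        obtain ⟨g', hg', h5⟩ := hB g hg
        exact ⟨g', hg', fun h6 => hgz ((h5 z (h.pt_mem hz)).1 h6)⟩
      exact h.agree hu hx hz hux h3 h4 hf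
    · have h4 : ¬ Ad C N e x z := by
        rintro ⟨g, hg, hgz⟩
        obtain ⟨g', hg', h5⟩ := hB' g hg
        exact h3 ⟨g', hg', fun h6 => hgz ((h5 z (h.pt_mem hz)).1 h6)⟩
      have h5 : f * u * f⁻¹ = u := by
        by_contra h6
        exact h3 (h.ad_symm hz hu ⟨f, hf, h6⟩)
      have h6 : f * x * f⁻¹ = x := by
        by_contra h6
        exact h4 (h.ad_symm hz hx ⟨f, hf, h6⟩)
      exact iff_of_true h5 h6
  -- the fixed points of all transvections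
  let I : Subgroup G :=
    { carrier := {n | n ∈ N ∧ ∀ z ∈ Pts C x₀, ∀ f, Tr C N e z f → f * n * f⁻¹ = n}
      one_mem' := ⟨N.one_mem, fun _ _ f _ => by group⟩
      mul_mem' := by
        rintro m n ⟨hm, hm'⟩ ⟨hn, hn'⟩
        refine ⟨mul_mem hm hn, fun z hz f hf => ?_⟩
        rw [h.conj_mul' f, hm' z hz f hf, hn' z hz f hf]
      inv_mem' := by
        rintro n ⟨hn, hn'⟩
        change n⁻¹ ∈ N ∧ ∀ z ∈ Pts C x₀, ∀ f, Tr C N e z f → f * n⁻¹ * f⁻¹ = n⁻¹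
        rw [h.inv_eq hn]
        exact ⟨hn, hn'⟩ }
  have huxI : u * x ∈ I := by
    refine ⟨mul_mem huN hxN, fun z hz f hf => ?_⟩
    have h3 := hall z hz f hf
    rw [h.conj_mul' f]
    by_cases h4 : f * u * f⁻¹ = u
    · rw [h4, h3.1 h4]
    · have h5 : f * x * f⁻¹ ≠ x := fun h5 => h4 (h3.2 h5)
      have hze := h.pe_mem hf
      rw [(hf.2.1 u huN).resolve_left h4, (hf.2.1 x hxN).resolve_left h5, mul_assoc u, ← mul_assoc (z * e),
        h.comm _ hze x hxN, mul_assoc x, h.sq _ hze, mul_one]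
  obtain ⟨g', hg', h3⟩ := hB a₁ ha₁
  have hact : ∀ n ∈ N, (a₁ * n * a₁⁻¹ = n → a₁ * g' * n * (a₁ * g')⁻¹ = n) ∧
      (a₁ * n * a₁⁻¹ ≠ n → a₁ * g' * n * (a₁ * g')⁻¹ = n * (u * x)) := by
    intro n hn
    have e1 : a₁ * g' * n * (a₁ * g')⁻¹ = a₁ * (g' * n * g'⁻¹) * a₁⁻¹ := by group
    constructor
    · intro h4
      rw [e1, (h3 n hn).2 h4, h4]
    · intro h4
      have h5 : g' * n * g'⁻¹ ≠ n := fun h5 => h4 ((h3 n hn).1 h5)
      have h6 : a₁ * x * a₁⁻¹ = x := (h3 x hxN).1 (h.tr_self hg')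
      rw [e1, (hg'.2.1 n hn).resolve_left h5, h.conj_mul' a₁, (ha₁.2.1 n hn).resolve_left h4, h.conj_mul' a₁, h6,
        h.e_conj ha₁.1, mul_assoc n]
      congr 1
      rw [h.comm x hxN e h.e_mem, mul_assoc u, ← mul_assoc e e, h.ee, one_mul]
  obtain ⟨n, hn, hn1⟩ := ha₁.2.2
  have h4 := (hact n hn).2 hn1
  rw [h.triv_series (I := I) (fun x hx => hx.1) (fun c hc n hn => ?_) (mul_mem ha₁.1 hg'.1) (fun m hm => ?_)
    (fun i hi => ?_) n hn] at h4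
  · have h5 : u * x = 1 := mul_eq_left.1 h4.symm
    rw [mul_eq_one_iff_eq_inv, h.inv_eq hxN] at h5
    exact hne h5
  · refine ⟨h.conj_N hc hn.1, fun z hz f hf => ?_⟩
    have h5 := h.conj_tr hf (inv_mem hc)
    have h6 := hn.2 _ (h.conj_pt hz (inv_mem hc)) _ h5
    calc f * (c * n * c⁻¹) * f⁻¹ = c * (c⁻¹ * f * c⁻¹⁻¹ * n * (c⁻¹ * f * c⁻¹⁻¹)⁻¹) * c⁻¹ := by group
      _ = c * n * c⁻¹ := by rw [h6]
  · by_cases h5 : a₁ * m * a₁⁻¹ = m
    · rw [(hact m hm).1 h5, h.sq m hm]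
      exact I.one_mem
    · rw [(hact m hm).2 h5, ← mul_assoc, h.sq m hm, one_mul]
      exact huxI
  · exact (hact i hi.1).1 (hi.2 u hu a₁ ha₁)

theorem x_ne : x₀ ≠ 1 := by
  rintro rfl
  obtain ⟨t, -, ht, -⟩ := hno
  obtain ⟨q, ⟨g, _, rfl⟩, h1⟩ := h.exists_moved ht
  apply h1
  group

theorem a_ne_one : a ≠ 1 := by
  rintro rfl
  obtain ⟨g, hg, h1⟩ := h.a_pt
  apply h.x_ne hno
  have : x₀ = g⁻¹ * (g * x₀ * g⁻¹) * g := by group
  rw [this, ← h1]; group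

/-- **any two points are joined** -/
theorem clique [Finite G] {p q : G} (hp : p ∈ Pts C x₀) (hq : q ∈ Pts C x₀) (hne : p ≠ q) : Ad C N e p q := by
  have hconj : ∀ c ∈ C, ∀ p q, Ad C N e p q → Ad C N e (c * p * c⁻¹) (c * q * c⁻¹) := by
    rintro c hc p q ⟨t, ht, h1⟩
    refine ⟨_, h.conj_tr ht hc, fun h2 => h1 ?_⟩
    have e2 : c * t * c⁻¹ * (c * q * c⁻¹) * (c * t * c⁻¹)⁻¹ = c * (t * q * t⁻¹) * c⁻¹ := by group
    rw [e2] at h2
    exact mul_left_cancel (mul_right_cancel h2)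
  have hx := h.x_pt
  obtain ⟨d, hd, hda⟩ := h.tau
  have hd' := (h.D_iff d).1 hd
  have hdx : d * x₀ * d⁻¹ = x₀ := by rw [hd'.2]; group
  have hdx' : d⁻¹ * x₀ * d⁻¹⁻¹ = x₀ := by
    calc d⁻¹ * x₀ * d⁻¹⁻¹ = d⁻¹ * (x₀ * d) := by group
      _ = d⁻¹ * (d * x₀) := by rw [hd'.2]
      _ = x₀ := by group
  have hda' : d⁻¹ * (x₀ * a) * d⁻¹⁻¹ = a := by rw [← hda]; group
  have hxa : Ad C N e x₀ a ∧ Ad C N e x₀ (x₀ * a) := by
    obtain ⟨t, ht⟩ := h.tr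
    obtain ⟨w, hw, hw1⟩ := h.exists_moved ht
    have h1 : Ad C N e x₀ w := ⟨t, ht, hw1⟩
    obtain ⟨f, hf, hfx⟩ := h.ad_symm hx hw h1
    by_cases h2 : f * a * f⁻¹ = a
    · have h3 : Ad C N e w (x₀ * a) := by
        refine ⟨f, hf, fun h3 => hfx ?_⟩
        rw [h.conj_mul' f, h2] at h3
        exact mul_right_cancel h3
      have h4 := h.ad_trans hno hx hw h.xa_pt h1 (h.ad_symm hw h.xa_pt h3) (fun h5 => h.a_ne_one hno (by
        exact mul_eq_left.1 h5.symm))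
      refine ⟨?_, h4⟩
      have h5 := hconj _ (inv_mem hd'.1) _ _ h4
      rwa [hdx', hda'] at h5
    · have h3 : Ad C N e w a := ⟨f, hf, h2⟩
      have h4 := h.ad_trans hno hx hw h.a_pt h1 (h.ad_symm hw h.a_pt h3) h.a_ne.symm
      refine ⟨h4, ?_⟩
      have h5 := hconj _ hd'.1 _ _ h4
      rwa [hdx, hda] at h5
  let H : Subgroup G :=
    { carrier := {c | c ∈ C ∧ (c * x₀ * c⁻¹ = x₀ ∨ Ad C N e x₀ (c * x₀ * c⁻¹))}
      one_mem' := ⟨one_mem _, by left; group⟩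
      mul_mem' := by
        rintro x y ⟨hx', h1⟩ ⟨hy', h2⟩
        refine ⟨mul_mem hx' hy', ?_⟩
        have e1 : x * y * x₀ * (x * y)⁻¹ = x * (y * x₀ * y⁻¹) * x⁻¹ := by group
        rw [e1]
        rcases h2 with h2 | h2
        · rw [h2]; exact h1
        · have h3 := hconj x hx' _ _ h2
          rcases h1 with h1 | h1
          · rw [h1] at h3; exact Or.inr h3
          · by_cases h4 : x * (y * x₀ * y⁻¹) * x⁻¹ = x₀
            · exact Or.inl h4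
            · right
              have hp1 := h.conj_pt hx hx'
              have hp2 := h.conj_pt (h.conj_pt hx hy') hx'
              exact h.ad_trans hno hx hp1 hp2 h1 (h.ad_symm hp1 hp2 h3) (Ne.symm h4)
      inv_mem' := by
        rintro x ⟨hx', h1⟩
        refine ⟨inv_mem hx', ?_⟩
        rcases h1 with h1 | h1
        · left
          rw [inv_inv]
          calc x⁻¹ * x₀ * x = x⁻¹ * (x * x₀ * x⁻¹) * x := by rw [h1]
            _ = x₀ := by group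
        · right
          have h3 := hconj x⁻¹ (inv_mem hx') _ _ (h.ad_symm hx (h.conj_pt hx hx') h1)
          have e1 : x⁻¹ * (x * x₀ * x⁻¹) * x⁻¹⁻¹ = x₀ := by group
          rwa [e1] at h3 }
  have hHall : C ≤ H := by
    refine h.CDM.trans (sup_le ?_ ?_)
    · intro d hd
      have h1 := (h.D_iff d).1 hd
      exact ⟨h1.1, Or.inl (by rw [h1.2]; group)⟩
    · intro m hm
      refine ⟨h.MC hm, ?_⟩
      rcases h.ML m hm with h1 | h1 | h1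
      · exact Or.inl h1
      · rw [h1]; exact Or.inr hxa.1
      · rw [h1]; exact Or.inr hxa.2
  obtain ⟨c, hc, rfl⟩ := hp
  obtain ⟨c', hc', rfl⟩ := hq
  have h1 : c⁻¹ * c' ∈ H := hHall (mul_mem (inv_mem hc) hc')
  have e1 : c * (c⁻¹ * c' * x₀ * (c⁻¹ * c')⁻¹) * c⁻¹ = c' * x₀ * c'⁻¹ := by group
  rcases h1.2 with h2 | h2
  · exfalso
    apply hne
    rw [← e1, h2]
  · have h3 := hconj c hc _ _ h2
    rwa [e1] at h3

theorem gl_mul [Finite G] {p q : G} (hp : p ∈ Pts C x₀) (hq : q ∈ Pts C x₀) (hne : p ≠ q) : p * q * e ∈ Pts C x₀ := by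
  obtain ⟨t, ht, h1⟩ := h.clique hno hp hq hne
  have h2 := (ht.2.1 q (h.pt_mem hq)).resolve_left h1
  have h3 := h.conj_pt hq ht.1
  rw [h2] at h3
  rwa [← mul_assoc, h.comm q (h.pt_mem hq) p (h.pt_mem hp)] at h3

/-- `e = 1` -/
theorem gl_e [Finite G] (zz : ∀ p ∈ Pts C x₀, p * v ∉ Pts C x₀) : e = 1 := by
  rcases h.he with h1 | h1
  · exact h1
  · exfalso
    have h2 := h.gl_mul hno h.x_pt h.a_pt h.a_ne.symm
    rw [h1] at h2
    exact zz _ h.xa_pt h2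

/-- all elements `≠ 1` of `N` are points -/
theorem gl_all [Finite G] (he1 : e = 1) {n : G} (hn : n ∈ N) : n = 1 ∨ n ∈ Pts C x₀ := by
  refine (closure_induction (p := fun x _ => x ∈ N ∧ (x = 1 ∨ x ∈ Pts C x₀)) ?_ ?_ ?_ ?_ (h.gen hn)).2
  · exact fun q hq => ⟨h.pt_mem hq, Or.inr hq⟩
  · exact ⟨one_mem _, Or.inl rfl⟩
  · rintro x y _ _ ⟨hx, hx'⟩ ⟨hy, hy'⟩
    refine ⟨mul_mem hx hy, ?_⟩
    rcases hx' with rfl | hx'
    · rw [one_mul]; exact hy'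
    rcases hy' with rfl | hy'
    · rw [mul_one]; exact Or.inr hx'
    by_cases h1 : x = y
    · left; rw [h1, h.sq y hy]
    · right
      have h2 := h.gl_mul hno hx' hy' h1
      rwa [he1, mul_one] at h2
  · rintro x _ ⟨hx, hx'⟩
    rw [h.inv_eq hx]
    exact ⟨hx, hx'⟩

/-- `v ∉ N` -/
theorem gl_v [Finite G] (he1 : e = 1) (hv : v ≠ 1) : v ∉ N := by
  intro h1
  rcases h.gl_all hno he1 h1 with h2 | ⟨g, hg, h2⟩
  · exact hv h2
  · have h3 : x₀ = v := by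
      have e1 : x₀ = g⁻¹ * (g * x₀ * g⁻¹) * g := by group
      rw [e1, ← h2]
      calc g⁻¹ * v * g = g⁻¹ * (v * g) := by group
        _ = g⁻¹ * (g * v) := by rw [h.vC g hg]
        _ = v := by group
    obtain ⟨g', hg', h4⟩ := h.a_pt
    apply h.a_ne
    rw [h4, h3, h.vC g' hg']; group

/-- **an invariant subgroup containing `x₀` and `a` is `N`** -/
theorem gl_E [Finite G] (he1 : e = 1) {E : Subgroup G} (hxE : x₀ ∈ E) (haE : a ∈ E)
    (hD : ∀ t ∈ D, ∀ b ∈ E, t * b * t⁻¹ ∈ E) : N ≤ E := by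
  intro y hy
  have haN := h.pt_mem h.a_pt
  have hxN := h.x_mem
  by_cases h1 : y ∈ E
  · exact h1
  have hyaN := mul_mem hy haN
  have hya : y * a ∈ Pts C x₀ := by
    refine (h.gl_all hno he1 hyaN).resolve_left fun h2 => h1 ?_
    rw [mul_eq_one_iff_eq_inv, h.inv_eq haN] at h2
    rw [h2]; exact haE
  have hE : ∀ z ∈ E, y * a ≠ z := fun z hz h2 => h1 (by
    have : y = z * a := by rw [← h2, mul_assoc, h.sq a haN, mul_one]
    rw [this]; exact mul_mem hz haE)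
  obtain ⟨f₁, hf₁, h2⟩ := h.clique hno hya h.a_pt (hE a haE)
  obtain ⟨f₂, hf₂, h3⟩ := h.clique hno hya h.xa_pt (hE _ (mul_mem hxE haE))
  -- some transvection with centre `y a` fixes `x₀` and moves `a`
  obtain ⟨t, ht, htx, hta⟩ : ∃ t, Tr C N e (y * a) t ∧ t * x₀ * t⁻¹ = x₀ ∧ t * a * t⁻¹ ≠ a := by
    by_cases h4 : f₁ * x₀ * f₁⁻¹ = x₀
    · exact ⟨f₁, hf₁, h4, h2⟩
    have h5 : ¬ (f₂ * x₀ * f₂⁻¹ = x₀ ↔ f₂ * a * f₂⁻¹ = a) := by
      intro h5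
      apply h3
      rw [h.conj_mul' f₂]
      by_cases h6 : f₂ * x₀ * f₂⁻¹ = x₀
      · rw [h6, h5.1 h6]
      · have h7 : f₂ * a * f₂⁻¹ ≠ a := fun h7 => h6 (h5.2 h7)
        have hze := h.pe_mem hf₂
        rw [(hf₂.2.1 _ hxN).resolve_left h6, (hf₂.2.1 _ haN).resolve_left h7, mul_assoc x₀, ← mul_assoc (y * a * e),
          h.comm _ hze a haN, mul_assoc a, h.sq _ hze, mul_one]
    by_cases h6 : f₂ * x₀ * f₂⁻¹ = x₀
    · exact ⟨f₂, hf₂, h6, fun h7 => h5 ⟨fun _ => h7, fun _ => h6⟩⟩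
    have h7 : f₂ * a * f₂⁻¹ = a := by
      by_contra h7
      exact h5 (iff_of_false h6 h7)
    refine ⟨f₁ * f₂, h.tr_mul' hf₁ hf₂ ⟨a, haN, fun h8 => h2 (h8.2 h7)⟩,
      (h.tr_mul hf₁ hf₂ hxN).2.2 (iff_of_false h4 h6), fun h8 => h2 ?_⟩
    exact ((h.tr_mul hf₁ hf₂ haN).2.1 h8).2 h7
  have htD : t ∈ D := (h.D_iff t).2 ⟨ht.1, by
    calc t * x₀ = t * x₀ * t⁻¹ * t := by group
      _ = x₀ * t := by rw [htx]⟩
  have h4 := hD t htD a haE
  rw [(ht.2.1 a haN).resolve_left hta, he1, mul_one, h.comm y hy a haN, ← mul_assoc, h.sq a haN, one_mul] at h4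
  exact h4

end no

end TBase

end Cfsg.Agent.Omega.OM.KTwo.StrSp
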