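import Cfsg.Agent.Omega.OM.KTwo.StrSp

/-!
# The structure lemma in the transvection case (helper918 #19487, section 0): the hyperbolic line

`h : TUn C D M T N v e x₀ a` (one transvection for every centre).

* `TUn.ti_of_zz` : if `e ≠ 1` and `p v` is not a point for a point `p`, then the line `{x₀, a, x₀ a}` is totally
  isotropic;
* `TUn.hyp` : (helper118 #18145 (4)) if `e = 1` and the line is not totally isotropic, then `N = {1, x₀, a, x₀ a}`.
-/

set_option autoImplicit false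
set_option linter.unusedSectionVars false
set_option linter.style.haveILetI false

namespace Cfsg.Agent.Omega.OM.KTwo.StrSp

open Subgroup

universe u

variable {G : Type u} [Group G]

/-- a conjugate in a Sylow 2-subgroup -/
theorem exists_conj_mem [Finite G] {C T A : Subgroup G} (hT : IsPGroup 2 T) (_ : T ≤ C)
    (hs : ¬ 2 ∣ T.relIndex C) (hAC : A ≤ C) (hA : IsPGroup 2 A) : ∃ c ∈ C, ∀ x ∈ A, c * x * c⁻¹ ∈ T := by
  haveI : Fact (Nat.Prime 2) := ⟨Nat.prime_two⟩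
  have hT' : IsPGroup 2 (T.subgroupOf C) := hT.comap_of_injective _ C.subtype_injective
  have hA' : IsPGroup 2 (A.subgroupOf C) := hA.comap_of_injective _ C.subtype_injective
  obtain ⟨Q, hQ⟩ := hA'.exists_le_sylow
  obtain ⟨g, hg⟩ := MulAction.exists_smul_eq C Q (hT'.toSylow hs)
  refine ⟨g, g.2, fun x hx => ?_⟩
  have h1 : (⟨x, hAC hx⟩ : C) ∈ (Q : Subgroup C) := hQ (mem_subgroupOf.mpr hx)
  have h2 : (MulAut.conj g) ⟨x, hAC hx⟩ ∈ ((g • Q : Sylow 2 C) : Subgroup C) := by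
    rw [Sylow.smul_def]
    exact Subgroup.smul_mem_pointwise_smul _ (MulAut.conj g) _ h1
  rw [hg] at h2
  exact mem_subgroupOf.mp h2

namespace TUn

variable {C D M T N : Subgroup G} {v e x₀ a : G} (h : TUn C D M T N v e x₀ a)
include h

theorem ti_of_zz (he1 : e = v) (zz : ∀ p ∈ Pts C x₀, p * v ∉ Pts C x₀) {t : G} (ht : Tr C N e x₀ t) :
    t * a * t⁻¹ = a := by
  have haN := h.pt_mem h.a_pt
  by_contra h1
  have h2 := (ht.2.1 a haN).resolve_left h1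
  have h3 := h.conj_pt h.a_pt ht.1
  rw [h2, ← mul_assoc, h.comm a haN x₀ h.x_mem, he1] at h3
  exact zz _ h.xa_pt h3

section frm

variable {B : G → G → ℤˣ} (F : Frm C N e x₀ B)
include F

theorem v_l (hv : v ∈ N) {u : G} (hu : u ∈ N) : B v u = 1 := by
  rw [F.symm v hv u hu]
  exact h.ext (φ := fun u => B u v) (ψ := fun _ => 1) (fun _ hx _ hy => h.mul_left F hx hy hv) (fun _ _ _ _ => by simp)
    (fun p hp => by
      obtain ⟨t, ht⟩ := h.exists_tr hp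
      exact (F.tv p hp t ht v hv).2 (by rw [h.vC t ht.1]; group)) u hu

theorem pt_ne_one {p : G} (hp : p ∈ Pts C x₀) : p ≠ 1 := by
  rintro rfl
  obtain ⟨q, hq, h1⟩ := h.exists_nonperp F hp
  rw [h.one_l F (h.pt_mem hq)] at h1
  exact absurd h1.symm neg_ne

variable (he1 : e = 1) (hTn : ∀ t ∈ T, t * a * t⁻¹ = a ∨ t * a * t⁻¹ = x₀ * a)
include he1 hTn

theorem claimA {p t : G} (hp : p ∈ Pts C x₀) (hne : p ≠ x₀) (ht : Tr C N e p t) (htT : t ∈ T) : B p a = 1 := by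
  have haN := h.pt_mem h.a_pt
  by_contra h1
  have h2 := h.neg F hp ht haN (ne_of h1)
  rw [he1, mul_one] at h2
  rcases hTn t htT with h3 | h3 <;> rw [h3] at h2
  · exact h.pt_ne_one F hp (mul_eq_left.1 h2.symm)
  · rw [h.comm a haN p (h.pt_mem hp)] at h2
    exact hne (mul_right_cancel h2).symm

/-- a transvection with centre `p ∈ x₀^⊥` in `T`, up to conjugation in `D` -/
theorem exists_T [Finite G] (hT2 : IsPGroup 2 T) {p : G} (hp : p ∈ Pts C x₀) (hne : p ≠ x₀) (h1 : B x₀ p = 1) :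
    ∃ q ∈ Pts C x₀, q ≠ x₀ ∧ ∃ t ∈ T, Tr C N e q t := by
  haveI : Fact (Nat.Prime 2) := ⟨Nat.prime_two⟩
  have hpN := h.pt_mem hp
  obtain ⟨t, ht⟩ := h.exists_tr hp
  have hpe := h.pe_mem ht
  -- `t²` centralises `N`
  have hsq : ∀ n ∈ N, t ^ 2 * n * (t ^ 2)⁻¹ = n := by
    intro n hn
    have e1 : t ^ 2 * n * (t ^ 2)⁻¹ = t * (t * n * t⁻¹) * t⁻¹ := by rw [pow_two]; group
    rw [e1]
    rcases Int.units_eq_one_or (B p n) with h2 | h2
    · rw [(F.tv p hp t ht n hn).1 h2, (F.tv p hp t ht n hn).1 h2]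
    · have h3 := h.neg F hp ht hn h2
      have h4 : t * (p * e) * t⁻¹ = p * e := by
        refine (F.tv p hp t ht _ hpe).1 ?_
        rw [h.mul_e' F hpN hpN, F.self p hpN]
      rw [h3, h.conj_mul' t, h3, h4, mul_assoc, h.sq _ hpe, mul_one]
  have hsqk : ∀ k : ℕ, ∀ n ∈ N, (t ^ 2) ^ k * n * ((t ^ 2) ^ k)⁻¹ = n := by
    intro k
    induction k with
    | zero => intro n _; simp
    | succ k ih =>
      intro n hn
      have e1 : (t ^ 2) ^ (k + 1) * n * ((t ^ 2) ^ (k + 1))⁻¹ = (t ^ 2) ^ k * (t ^ 2 * n * (t ^ 2)⁻¹) * ((t ^ 2) ^ k)⁻¹ := by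
        rw [pow_succ]; group
      rw [e1, hsq n hn, ih n hn]
  -- the 2-part of `t`
  obtain ⟨k, m, hm, hkm⟩ := Nat.exists_eq_two_pow_mul_odd (orderOf_pos t).ne'
  obtain ⟨l, hl⟩ := hm
  have hact : ∀ n ∈ N, t ^ m * n * (t ^ m)⁻¹ = t * n * t⁻¹ := by
    intro n hn
    have e1 : t ^ m = t * (t ^ 2) ^ l := by rw [hl, pow_succ', pow_mul]
    have e2 : t ^ m * n * (t ^ m)⁻¹ = t * ((t ^ 2) ^ l * n * ((t ^ 2) ^ l)⁻¹) * t⁻¹ := by rw [e1]; group
    rw [e2, hsqk l n hn]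
  have h2 : IsPGroup 2 (zpowers (t ^ m)) := by
    have h3 : (t ^ m) ^ 2 ^ k = 1 := by rw [← pow_mul, mul_comm m, ← hkm, pow_orderOf_eq_one]
    rw [IsPGroup.iff_card]
    obtain ⟨j, -, hj⟩ := (Nat.dvd_prime_pow Nat.prime_two).1 (orderOf_dvd_of_pow_eq_one h3)
    exact ⟨j, by rw [Nat.card_zpowers, hj]⟩
  have htD : t ∈ D := by
    refine (h.D_iff t).2 ⟨ht.1, ?_⟩
    have h3 := (F.tv p hp t ht x₀ h.x_mem).1 (by rw [F.symm p hpN x₀ h.x_mem, h1])
    calc t * x₀ = t * x₀ * t⁻¹ * t := by group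
      _ = x₀ * t := by rw [h3]
  have hDC : D ≤ C := fun d hd => ((h.D_iff d).1 hd).1
  have hTo : ¬ 2 ∣ T.relIndex D := fun h3 =>
    h.T_odd (h3.trans (Dvd.intro _ (relIndex_mul_relIndex T D C h.TD hDC)))
  obtain ⟨d, hd, h3⟩ := exists_conj_mem hT2 h.TD hTo (zpowers_le.2 (pow_mem htD m)) h2
  have hdC := hDC hd
  have htr : Tr C N e p (t ^ m) := by
    refine ⟨pow_mem ht.1 m, fun n hn => by rw [hact n hn]; exact ht.2.1 n hn, ?_⟩
    obtain ⟨n, hn, h4⟩ := ht.2.2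
    exact ⟨n, hn, by rwa [hact n hn]⟩
  refine ⟨d * p * d⁻¹, h.conj_pt hp hdC, fun h4 => hne ?_, _, h3 _ (mem_zpowers _), h.conj_tr htr hdC⟩
  have h5 : d * x₀ = x₀ * d := ((h.D_iff d).1 hd).2
  calc p = d⁻¹ * (d * p * d⁻¹) * d := by group
    _ = d⁻¹ * (x₀ * d) := by rw [h4]; group
    _ = x₀ := by rw [← h5]; group

/-- transvections in a 2-group with centres `o`, `o'` : `o ⊥ o'` -/
theorem perp_of_T [Finite G] (hT2 : IsPGroup 2 T) {o o' t t' : G} (ho : o ∈ Pts C x₀) (ho' : o' ∈ Pts C x₀)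
    (ht : Tr C N e o t) (ht' : Tr C N e o' t') (htT : t ∈ T) (htT' : t' ∈ T) : B o o' = 1 := by
  by_contra h1
  have h1 := ne_of h1
  have hoN := h.pt_mem ho
  have ho'N := h.pt_mem ho'
  have h1' : B o' o = -1 := by rw [F.symm o' ho'N o hoN, h1]
  have hc := h.comm o hoN o' ho'N
  have a1 : t * o' * t⁻¹ = o' * o := by have := h.neg F ho ht ho'N h1; rwa [he1, mul_one] at this
  have a2 : t' * o * t'⁻¹ = o * o' := by have := h.neg F ho' ht' hoN h1'; rwa [he1, mul_one] at this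
  have a3 : t * o * t⁻¹ = o := (F.tv o ho t ht o hoN).1 (F.self o hoN)
  have a4 : t' * o' * t'⁻¹ = o' := (F.tv o' ho' t' ht' o' ho'N).1 (F.self o' ho'N)
  have b1 : t * t' * o' * (t * t')⁻¹ = o' * o := by
    calc t * t' * o' * (t * t')⁻¹ = t * (t' * o' * t'⁻¹) * t⁻¹ := by group
      _ = o' * o := by rw [a4, a1]
  have b2 : t * t' * o * (t * t')⁻¹ = o' := by
    calc t * t' * o * (t * t')⁻¹ = t * (t' * o * t'⁻¹) * t⁻¹ := by group
      _ = t * o * t⁻¹ * (t * o' * t⁻¹) := by rw [a2]; group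
      _ = o' := by rw [a3, a1, ← hc, ← mul_assoc, h.sq o hoN, one_mul]
  have b4 : t * t' * (o' * o) * (t * t')⁻¹ = o := by
    calc t * t' * (o' * o) * (t * t')⁻¹ = t * t' * o' * (t * t')⁻¹ * (t * t' * o * (t * t')⁻¹) := by group
      _ = o' * o * o' := by rw [b1, b2]
      _ = o := by rw [← hc, mul_assoc, h.sq o' ho'N, mul_one]
  have b3 : (t * t') ^ 3 * o' * ((t * t') ^ 3)⁻¹ = o' := by
    calc (t * t') ^ 3 * o' * ((t * t') ^ 3)⁻¹
        = t * t' * (t * t' * (t * t' * o' * (t * t')⁻¹) * (t * t')⁻¹) * (t * t')⁻¹ := by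
          rw [pow_succ, pow_two]; group
      _ = o' := by rw [b1, b4, b2]
  have hgT := mul_mem htT htT'
  obtain ⟨k, hk⟩ := hT2 ⟨t * t', hgT⟩
  have hk' : (t * t') ^ 2 ^ k = 1 := by simpa using congrArg Subtype.val hk
  have hcop : Nat.Coprime 3 (orderOf (t * t')) :=
    Nat.Coprime.coprime_dvd_right (orderOf_dvd_of_pow_eq_one hk') (Nat.Coprime.pow_right _ (by norm_num))
  obtain ⟨m, hm⟩ := exists_pow_eq_self_of_coprime hcop
  have h3 : Commute ((t * t') ^ 3) o' := by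
    change (t * t') ^ 3 * o' = o' * (t * t') ^ 3
    calc (t * t') ^ 3 * o' = (t * t') ^ 3 * o' * ((t * t') ^ 3)⁻¹ * (t * t') ^ 3 := by group
      _ = o' * (t * t') ^ 3 := by rw [b3]
  have h4 := h3.pow_left m
  rw [hm] at h4
  have h5 : t * t' * o' * (t * t')⁻¹ = o' := by rw [h4.eq]; group
  rw [b1] at h5
  exact h.pt_ne_one F ho (mul_eq_left.1 h5)

/-- **(4) of #18145** -/
theorem hyp [Finite G] (hT2 : IsPGroup 2 T) (hna : B x₀ a = -1)
    (hfix : ∀ n ∈ N, (∀ t ∈ T, t * n * t⁻¹ = n) → n = 1 ∨ n = x₀ ∨ n = v ∨ n = x₀ * v) :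
    ∀ n ∈ N, n = 1 ∨ n = x₀ ∨ n = a ∨ n = x₀ * a := by
  classical
  have haN := h.pt_mem h.a_pt
  have hxN := h.x_mem
  by_cases hc1 : ∀ p ∈ Pts C x₀, B x₀ p = 1 → p = x₀
  · -- all pairs of points are not perpendicular
    have hall : ∀ p ∈ Pts C x₀, ∀ q ∈ Pts C x₀, B p q = 1 → q = p := by
      rintro _ ⟨g, hg, rfl⟩ q hq h1
      have h2 := F.inv g hg x₀ hxN _ (h.conj_N' hg (h.pt_mem hq))
      have e1 : g * (g⁻¹ * q * g) * g⁻¹ = q := by group
      rw [e1, h1] at h2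
      rw [← e1, hc1 _ (h.conj_pt' hq hg) h2.symm]
    have hpts : ∀ p ∈ Pts C x₀, p = x₀ ∨ p = a ∨ p = x₀ * a := by
      intro p hp
      by_contra hcon
      push Not at hcon
      have h1 : B x₀ p = -1 := ne_of fun h1 => hcon.1 (hall x₀ h.x_pt p hp h1)
      have h2 : B a p = -1 := ne_of fun h1 => hcon.2.1 (hall a h.a_pt p hp h1)
      have h3 : B (x₀ * a) p = -1 := ne_of fun h1 => hcon.2.2 (hall _ h.xa_pt p hp h1)
      rw [h.mul_left F hxN haN (h.pt_mem hp), h1, h2] at h3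
      exact absurd h3 (by decide)
    intro n hn
    have hxx := h.sq x₀ hxN
    have haa := h.sq a haN
    have hc := h.comm x₀ hxN a haN
    have e1 : a * x₀ = x₀ * a := hc.symm
    have e2 : x₀ * (x₀ * a) = a := by rw [← mul_assoc, hxx, one_mul]
    have e3 : a * (x₀ * a) = x₀ := by rw [← mul_assoc, e1, mul_assoc, haa, mul_one]
    have e4 : x₀ * a * x₀ = a := by rw [← e1, mul_assoc, hxx, mul_one]
    have e5 : x₀ * a * a = x₀ := by rw [mul_assoc, haa, mul_one]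
    have e6 : x₀ * a * (x₀ * a) = 1 := by rw [← mul_assoc, e4, haa]
    refine closure_induction (p := fun x _ => x = 1 ∨ x = x₀ ∨ x = a ∨ x = x₀ * a)
      (fun q hq => Or.inr (hpts q hq)) (Or.inl rfl) ?_ ?_ (h.gen hn)
    · rintro x y _ _ (rfl | rfl | rfl | rfl) (rfl | rfl | rfl | rfl) <;>
        simp only [one_mul, mul_one, hxx, haa, e1, e2, e3, e4, e5, e6, true_or, or_true]
    · rintro x _ (rfl | rfl | rfl | rfl)
      · exact Or.inl inv_one
      · exact Or.inr (Or.inl (h.inv_eq hxN))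
      · exact Or.inr (Or.inr (Or.inl (h.inv_eq haN)))
      · exact Or.inr (Or.inr (Or.inr (h.inv_eq (mul_mem hxN haN))))
  exfalso
  push Not at hc1
  obtain ⟨p₀, hp₀, hp₀x, hp₀n⟩ := hc1
  obtain ⟨p, hp, hpx, t, htT, ht⟩ := h.exists_T F he1 hTn hT2 hp₀ hp₀n hp₀x
  have hTC : T ≤ C := h.TD.trans fun _ hd => ((h.D_iff _).1 hd).1
  have hTx : ∀ τ ∈ T, τ * x₀ * τ⁻¹ = x₀ := fun τ hτ => by
    rw [((h.D_iff τ).1 (h.TD hτ)).2]; group
  -- the orbit
  set OO : Set N := {o | ∃ τ ∈ T, (o : G) = τ * p * τ⁻¹} with hOO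
  have hO : ∀ o : N, o ∈ OO → (o : G) ∈ Pts C x₀ ∧ (o : G) ≠ x₀ ∧ (∃ s ∈ T, Tr C N e o s) ∧ B o a = 1 ∧ B o x₀ = 1 := by
    rintro o ⟨τ, hτ, h1⟩
    rw [h1]
    have hne : τ * p * τ⁻¹ ≠ x₀ := fun h2 => hpx (by
      calc p = τ⁻¹ * (τ * p * τ⁻¹) * τ := by group
        _ = τ⁻¹ * (τ * x₀ * τ⁻¹) * τ := by rw [h2, hTx τ hτ]
        _ = x₀ := by group)
    have hpt := h.conj_pt hp (hTC hτ)
    have htr := h.conj_tr ht (hTC hτ)
    have hmem := mul_mem (mul_mem hτ htT) (inv_mem hτ)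
    exact ⟨hpt, hne, ⟨_, hmem, htr⟩, h.claimA F he1 hTn hpt hne htr hmem,
      (F.tv _ hpt _ htr x₀ hxN).2 (hTx _ hmem)⟩
  letI : CommGroup N :=
    { (inferInstance : Group N) with
      mul_comm := fun a b => Subtype.ext (h.comm a a.2 b b.2) }
  set O : Finset N := (Set.toFinite OO).toFinset with hOdef
  have hOmem : ∀ o, o ∈ O ↔ o ∈ OO := fun o => by rw [hOdef, Set.Finite.mem_toFinset]
  set s : N := ∏ o ∈ O, o with hs
  -- `s` is fixed by `T`
  have hsT : ∀ τ ∈ T, τ * (s : G) * τ⁻¹ = s := by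
    intro τ hτ
    let c : N →* N :=
      { toFun := fun n => ⟨τ * n * τ⁻¹, h.conj_N (hTC hτ) n.2⟩
        map_one' := Subtype.ext (by simp)
        map_mul' := fun m n => Subtype.ext (by
          change τ * ((m : G) * n) * τ⁻¹ = τ * m * τ⁻¹ * (τ * n * τ⁻¹)
          group) }
    have h1 : c s = s := by
      rw [hs, map_prod]
      refine Finset.prod_nbij (fun n => c n) ?_ ?_ ?_ (fun _ _ => rfl)
      · intro o ho
        rw [hOmem] at ho ⊢
        obtain ⟨τ', hτ', h2⟩ := ho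
        refine ⟨τ * τ', mul_mem hτ hτ', ?_⟩
        change τ * (o : G) * τ⁻¹ = _
        rw [h2]; group
      · intro m _ n _ h2
        have h3 : τ * (m : G) * τ⁻¹ = τ * (n : G) * τ⁻¹ := congrArg Subtype.val h2
        exact Subtype.ext (mul_left_cancel (mul_right_cancel h3))
      · intro o ho
        rw [Finset.mem_coe, hOmem] at ho
        obtain ⟨τ', hτ', h2⟩ := ho
        refine ⟨⟨τ⁻¹ * o * τ, h.conj_N' (hTC hτ) o.2⟩, ?_, ?_⟩
        · rw [Finset.mem_coe, hOmem]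
          refine ⟨τ⁻¹ * τ', mul_mem (inv_mem hτ) hτ', ?_⟩
          change τ⁻¹ * (o : G) * τ = _
          rw [h2]; group
        · apply Subtype.ext
          change τ * (τ⁻¹ * (o : G) * τ) * τ⁻¹ = o
          group
    exact congrArg Subtype.val h1
  -- products of values of the form
  have hprod : ∀ q ∈ N, B s q = ∏ o ∈ O, B (o : G) q := by
    intro q hq
    let φ : N →* ℤˣ :=
      { toFun := fun n => B n q
        map_one' := h.one_l F hq
        map_mul' := fun m n => h.mul_left F m.2 n.2 hq }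
    exact map_prod φ _ _
  have hsa : B s a = 1 := by
    rw [hprod a haN]
    exact Finset.prod_eq_one fun o ho => (hO o ((hOmem o).1 ho)).2.2.2.1
  have hxa : B x₀ a ≠ 1 := by rw [hna]; exact neg_ne
  have hs1 : ∀ q ∈ N, B s q = 1 := by
    rcases hfix s s.2 hsT with h1 | h1 | h1 | h1
    · intro q hq
      rw [h1]; exact h.one_l F hq
    · exact absurd (h1 ▸ hsa) hxa
    · intro q hq
      have hvN : v ∈ N := h1 ▸ s.2
      rw [h1]; exact h.v_l F hvN hq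
    · have h2 : x₀ * v ∈ N := h1 ▸ s.2
      have hvN : v ∈ N := (N.mul_mem_cancel_left hxN).1 h2
      rw [h1, h.mul_left F hxN hvN haN, h.v_l F hvN haN, mul_one] at hsa
      exact absurd hsa hxa
  -- the element `q`
  obtain ⟨g, hg, hgp⟩ := hp
  have hDC : ∀ d ∈ D, d ∈ C := fun d hd => ((h.D_iff d).1 hd).1
  have hDx : ∀ d ∈ D, d * x₀ * d⁻¹ = x₀ := fun d hd => by rw [((h.D_iff d).1 hd).2]; group
  have hTo : ¬ 2 ∣ T.relIndex D := fun h3 =>
    h.T_odd (h3.trans (Dvd.intro _ (relIndex_mul_relIndex T D C h.TD fun d hd => hDC d hd)))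
  let A : Subgroup G :=
    { carrier := {x | x ∈ D ∧ g * x * g⁻¹ ∈ T}
      one_mem' := ⟨one_mem _, by simp⟩
      mul_mem' := by
        rintro x y ⟨hx, hx'⟩ ⟨hy, hy'⟩
        refine ⟨mul_mem hx hy, ?_⟩
        have e1 : g * (x * y) * g⁻¹ = g * x * g⁻¹ * (g * y * g⁻¹) := by group
        rw [e1]; exact mul_mem hx' hy'
      inv_mem' := by
        rintro x ⟨hx, hx'⟩
        refine ⟨inv_mem hx, ?_⟩
        have e1 : g * x⁻¹ * g⁻¹ = (g * x * g⁻¹)⁻¹ := by group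
        rw [e1]; exact inv_mem hx' }
  have hA2 : IsPGroup 2 A := by
    intro x
    obtain ⟨k, hk⟩ := hT2 ⟨g * (x : G) * g⁻¹, x.2.2⟩
    have hk' : (g * (x : G) * g⁻¹) ^ 2 ^ k = 1 := by simpa using congrArg Subtype.val hk
    rw [conj_pow] at hk'
    refine ⟨k, Subtype.ext ?_⟩
    have h1 : (x : G) ^ 2 ^ k = g⁻¹ * (g * (x : G) ^ 2 ^ k * g⁻¹) * g := by group
    push_cast
    rw [h1, hk']; group
  obtain ⟨d, hd, hdA⟩ := exists_conj_mem hT2 h.TD hTo (fun x (hx : x ∈ A) => hx.1) hA2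
  -- `g' = g d⁻¹`
  set g' := g * d⁻¹ with hg'
  have hg'C : g' ∈ C := mul_mem hg (inv_mem (hDC d hd))
  have hg'x : g' * x₀ * g'⁻¹ = p := by
    have h1 := hDx d⁻¹ (inv_mem hd)
    calc g' * x₀ * g'⁻¹ = g * (d⁻¹ * x₀ * d⁻¹⁻¹) * g⁻¹ := by rw [hg']; group
      _ = p := by rw [h1, hgp]
  set q := g' * a * g'⁻¹ with hq
  have hqN : q ∈ N := h.conj_N hg'C haN
  have hpN : p ∈ N := by rw [← hg'x]; exact h.conj_N hg'C hxN
  have hpq : B p q = -1 := by
    rw [← hg'x, hq, F.inv g' hg'C x₀ hxN a haN, hna]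
  have hoq : ∀ o : N, o ∈ OO → (o : G) ≠ p → B (o : G) q = 1 := by
    intro o ho hne
    obtain ⟨ho1, ho2, ⟨so, hsoT, hso⟩, -, -⟩ := hO o ho
    have hppt : p ∈ Pts C x₀ := ⟨g, hg, hgp⟩
    have hperp : B (o : G) p = 1 := h.perp_of_T F he1 hTn hT2 ho1 hppt hso ht hsoT htT
    have h1 : so * p * so⁻¹ = p := (F.tv _ ho1 _ hso p hpN).1 hperp
    -- `g⁻¹ so g ∈ A`
    have h2 : g⁻¹ * so * g ∈ A := by
      refine ⟨(h.D_iff _).2 ⟨mul_mem (mul_mem (inv_mem hg) (hTC hsoT)) hg, ?_⟩, ?_⟩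
      · calc g⁻¹ * so * g * x₀ = g⁻¹ * (so * (g * x₀ * g⁻¹) * so⁻¹) * so * g := by group
          _ = g⁻¹ * (g * x₀ * g⁻¹) * so * g := by rw [← hgp, h1]
          _ = x₀ * (g⁻¹ * so * g) := by group
      · have e1 : g * (g⁻¹ * so * g) * g⁻¹ = so := by group
        rw [e1]; exact hsoT
    have h3 := hdA _ h2
    have e2 : d * (g⁻¹ * so * g) * d⁻¹ = g'⁻¹ * so * g' := by rw [hg']; group
    rw [e2] at h3
    have h4 := h.conj_tr hso (inv_mem hg'C)
    rw [inv_inv] at h4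
    have h5 : g'⁻¹ * (o : G) * g' ≠ x₀ := fun h5 => hne (by
      rw [← hg'x, ← h5]; group)
    have h6 := h.claimA F he1 hTn (h.conj_pt' ho1 hg'C) h5 h4 h3
    have h7 := F.inv g' hg'C _ (h.conj_N' hg'C o.2) a haN
    have e3 : g' * (g'⁻¹ * (o : G) * g') * g'⁻¹ = o := by group
    rw [e3, h6] at h7
    exact h7
  have h1 := hs1 q hqN
  rw [hprod q hqN] at h1
  have hpO : (⟨p, hpN⟩ : N) ∈ O := by
    rw [hOmem]
    exact ⟨1, one_mem _, by simp⟩
  rw [← Finset.mul_prod_erase O _ hpO, Finset.prod_eq_one fun o ho => ?_, mul_one] at h1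
  · change B p q = 1 at h1
    rw [hpq] at h1
    exact absurd h1 neg_ne
  · rw [Finset.mem_erase, hOmem] at ho
    exact hoq o ho.2 fun h2 => ho.1 (Subtype.ext h2)

end frm

end TUn

end Cfsg.Agent.Omega.OM.KTwo.StrSp
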