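import Cfsg.Agent.Omega.IId.Big.RedTool
import Cfsg.Agent.Omega.OM.KTwo.FormOf
import Cfsg.Agent.Omega.OM.KTwo.OneSympV

/-!
# The structure lemma in the transvection case (helper918 #19487, section 0, (sp); helper118 #18644 (2), (3))

`TDat C D M T N v e x₀ a` : `C` acts on the elementary abelian group `N = ⟨x₀^C⟩`, `v` is central in `C`, `e = 1` or
`e = v`; `D = C_C(x₀)`, `C = ⟨D, M⟩`, `M` leaves the line `{x₀, a, x₀ a}` of points invariant; some element of `C` acts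
on `N` as a transvection with centre `x₀ e`, only one action of this kind exists, and it fixes `a`.

Result: an alternating `C`-invariant form `B` on `N` (`Frm`), such that
* `TDat.tv` : for every point `p` some `t ∈ C` acts as `n ↦ n` (`B p n = 1`), `n ↦ n p e` (`B p n = -1`);
* `TDat.points` : `u = 1`, `u = e`, `u` or `u e` is a point; `TDat.not_both`; `TDat.rad` : the radical is `{1, e}`;
* `TDat.perp_perp`, `TDat.eq_perp` (invariant subgroups of `x₀^⊥`), `TDat.e_mem_E`, `TDat.hyper`, `TDat.fix_T`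
  (`C_{N~}(T) = ⟨x₀⟩`), `TDat.fix_R`.
-/

set_option autoImplicit false
set_option linter.unusedSectionVars false

namespace Cfsg.Agent.Omega.OM.KTwo.StrSp

open Subgroup Cfsg.Agent.Omega.NOThreeL.RTools.Symp Cfsg.Agent.Omega.OM.KTwo.OneSymp
open Cfsg.Agent.Omega.OM.KTwo.OneSympV

universe u

variable {G : Type u} [Group G]

/-- the points: the `C`-class of `x₀` -/
def Pts (C : Subgroup G) (x₀ : G) : Set G := {p | ∃ g ∈ C, p = g * x₀ * g⁻¹}

/-- `t` acts on `N` as a transvection with centre `p e` -/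
def Tr (C N : Subgroup G) (e p t : G) : Prop :=
  t ∈ C ∧ (∀ n ∈ N, t * n * t⁻¹ = n ∨ t * n * t⁻¹ = n * (p * e)) ∧ ∃ n ∈ N, t * n * t⁻¹ ≠ n

/-- the data, first part -/
structure TBase (C D M T N : Subgroup G) (v e x₀ a : G) : Prop where
  sq : ∀ n ∈ N, n * n = 1
  comm : ∀ n ∈ N, ∀ m ∈ N, n * m = m * n
  norm : C ≤ normalizer (N : Set G)
  gen : N ≤ closure (Pts C x₀)
  x_mem : x₀ ∈ N
  vC : ∀ c ∈ C, c * v = v * c
  he : e = 1 ∨ e = v
  D_iff : ∀ d, d ∈ D ↔ d ∈ C ∧ d * x₀ = x₀ * d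
  MC : M ≤ C
  CDM : C ≤ D ⊔ M
  ML : ∀ m ∈ M, m * x₀ * m⁻¹ = x₀ ∨ m * x₀ * m⁻¹ = a ∨ m * x₀ * m⁻¹ = x₀ * a
  a_pt : a ∈ Pts C x₀
  xa_pt : x₀ * a ∈ Pts C x₀
  a_ne : a ≠ x₀
  tau : ∃ d ∈ D, d * a * d⁻¹ = x₀ * a
  TD : T ≤ D
  T_odd : ¬ 2 ∣ T.relIndex C
  tr : ∃ t, Tr C N e x₀ t

/-- the data, only one transvection for every centre -/
structure TUn (C D M T N : Subgroup G) (v e x₀ a : G) : Prop extends TBase C D M T N v e x₀ a where
  uniq : ∀ t t', Tr C N e x₀ t → Tr C N e x₀ t' → ∀ n ∈ N, t * n * t⁻¹ = t' * n * t'⁻¹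

/-- the data, the line `{x₀, a, x₀ a}` is totally isotropic -/
structure TDat (C D M T N : Subgroup G) (v e x₀ a : G) : Prop extends TUn C D M T N v e x₀ a where
  ti : ∀ t, Tr C N e x₀ t → t * a * t⁻¹ = a

/-- an alternating `C`-invariant form such that the points act by transvections -/
structure Frm (C N : Subgroup G) (e x₀ : G) (B : G → G → ℤˣ) : Prop where
  tv : ∀ p ∈ Pts C x₀, ∀ t, Tr C N e p t → ∀ n ∈ N, (B p n = 1 ↔ t * n * t⁻¹ = n)
  mul : ∀ u ∈ N, ∀ w ∈ N, ∀ w' ∈ N, B u (w * w') = B u w * B u w'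
  symm : ∀ u ∈ N, ∀ w ∈ N, B u w = B w u
  self : ∀ u ∈ N, B u u = 1
  inv : ∀ c ∈ C, ∀ u ∈ N, ∀ w ∈ N, B (c * u * c⁻¹) (c * w * c⁻¹) = B u w

theorem uu (a : ℤˣ) : a * a = 1 := by
  rcases Int.units_eq_one_or a with h | h <;> simp [h]

theorem ne_of {a : ℤˣ} (h : a ≠ 1) : a = -1 := (Int.units_eq_one_or a).resolve_left h

theorem neg_ne : (-1 : ℤˣ) ≠ 1 := by decide

theorem conj_cent {N : Subgroup G} {g x : G} (hg : g ∈ normalizer (N : Set G)) (hx : x ∈ centralizer (N : Set G)) :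
    g * x * g⁻¹ ∈ centralizer (N : Set G) := by
  rw [mem_centralizer_iff] at hx ⊢
  intro n hn
  have h1 := hx _ ((mem_normalizer_iff''.1 hg n).1 hn)
  calc n * (g * x * g⁻¹) = g * (g⁻¹ * n * g * x) * g⁻¹ := by group
    _ = g * (x * (g⁻¹ * n * g)) * g⁻¹ := by rw [h1]
    _ = g * x * g⁻¹ * n := by group

/-- **A normal subgroup of `C` which is a 2-group modulo `C_C(N)` centralises `N`.** -/
theorem le_cent_of_unip [Finite G] {C T N Y : Subgroup G} {x₀ : G} (hTC : T ≤ C) (hodd : ¬ 2 ∣ T.relIndex C)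
    (hTx : ∀ t ∈ T, t * x₀ = x₀ * t) (hx : x₀ ∈ N) (hCN : C ≤ normalizer (N : Set G))
    (gen : N ≤ closure (Pts C x₀)) (hYC : Y ≤ C)
    (hCY : C ≤ normalizer (Y : Set G)) (hY : ∀ y ∈ Y, ∃ k : ℕ, y ^ 2 ^ k ∈ centralizer (N : Set G)) :
    Y ≤ centralizer (N : Set G) := by
  have hYF : Y ≤ normalizer ((Y ⊓ centralizer (N : Set G) : Subgroup G) : Set G) := by
    have key : ∀ y ∈ Y, ∀ x ∈ Y ⊓ centralizer (N : Set G), y * x * y⁻¹ ∈ Y ⊓ centralizer (N : Set G) := by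
      rintro y hy x ⟨h1, h2⟩
      exact ⟨Y.mul_mem (Y.mul_mem hy h1) (Y.inv_mem hy), conj_cent (hCN (hYC hy)) h2⟩
    intro y hy
    rw [mem_normalizer_iff]
    intro x
    refine ⟨key y hy x, fun hx => ?_⟩
    have h1 := key y⁻¹ (inv_mem hy) _ hx
    have e : y⁻¹ * (y * x * y⁻¹) * y⁻¹⁻¹ = x := by group
    rwa [e] at h1
  have h1 := IId.Big.Red.le_sup_inf (P := T) (M := Y) (C := C) (F := Y ⊓ centralizer (N : Set G)) hTC hYC
    (hTC.trans hCY) hodd inf_le_left hYF (fun m hm => by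
      obtain ⟨k, hk⟩ := hY m hm
      exact ⟨k, pow_mem hm _, hk⟩)
  have h2 : Y ≤ centralizer ({x₀} : Set G) := by
    refine h1.trans (sup_le ?_ ?_)
    · exact inf_le_right.trans (centralizer_le (Set.singleton_subset_iff.2 hx))
    · intro t ht
      rw [mem_centralizer_singleton_iff]
      exact hTx t ht.2
  have h3 : ∀ y ∈ Y, ∀ p ∈ Pts C x₀, p * y = y * p := by
    rintro y hy _ ⟨g, hg, rfl⟩
    have h4 : g⁻¹ * y * g ∈ Y := (mem_normalizer_iff''.1 (hCY hg) y).1 hy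
    have h5 : g⁻¹ * y * g * x₀ = x₀ * (g⁻¹ * y * g) := mem_centralizer_singleton_iff.1 (h2 h4)
    calc g * x₀ * g⁻¹ * y = g * (x₀ * (g⁻¹ * y * g)) * g⁻¹ := by group
      _ = g * (g⁻¹ * y * g * x₀) * g⁻¹ := by rw [h5]
      _ = y * (g * x₀ * g⁻¹) := by group
  intro y hy
  have h4 : N ≤ centralizer ({y} : Set G) := by
    refine gen.trans ((closure_le _).2 fun p hp => ?_)
    exact mem_centralizer_singleton_iff.2 (h3 y hy p hp)
  rw [mem_centralizer_iff]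
  intro n hn
  exact mem_centralizer_singleton_iff.1 (h4 hn)

namespace TBase

variable {C D M T N : Subgroup G} {v e x₀ a : G} (h : TBase C D M T N v e x₀ a)
include h

theorem e_conj {c : G} (hc : c ∈ C) : c * e * c⁻¹ = e := by
  rcases h.he with rfl | rfl
  · group
  · rw [h.vC c hc]; group

theorem conj_N {c n : G} (hc : c ∈ C) (hn : n ∈ N) : c * n * c⁻¹ ∈ N := (mem_normalizer_iff.1 (h.norm hc) n).1 hn

theorem conj_N' {c n : G} (hc : c ∈ C) (hn : n ∈ N) : c⁻¹ * n * c ∈ N := (mem_normalizer_iff''.1 (h.norm hc) n).1 hn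

theorem pt_mem {p : G} (hp : p ∈ Pts C x₀) : p ∈ N := by
  obtain ⟨g, hg, rfl⟩ := hp
  exact h.conj_N hg h.x_mem

theorem conj_pt {p c : G} (hp : p ∈ Pts C x₀) (hc : c ∈ C) : c * p * c⁻¹ ∈ Pts C x₀ := by
  obtain ⟨g, hg, rfl⟩ := hp
  exact ⟨c * g, mul_mem hc hg, by group⟩

theorem conj_pt' {p c : G} (hp : p ∈ Pts C x₀) (hc : c ∈ C) : c⁻¹ * p * c ∈ Pts C x₀ := by
  have := h.conj_pt hp (inv_mem hc)
  rwa [inv_inv] at this

theorem x_pt : x₀ ∈ Pts C x₀ := ⟨1, one_mem _, by group⟩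

theorem conj_tr {p t c : G} (ht : Tr C N e p t) (hc : c ∈ C) : Tr C N e (c * p * c⁻¹) (c * t * c⁻¹) := by
  obtain ⟨h1, h2, n₀, hn₀, h3⟩ := ht
  refine ⟨mul_mem (mul_mem hc h1) (inv_mem hc), fun n hn => ?_, c * n₀ * c⁻¹, h.conj_N hc hn₀, fun h4 => h3 ?_⟩
  · rcases h2 _ (h.conj_N' hc hn) with h4 | h4
    · left
      calc c * t * c⁻¹ * n * (c * t * c⁻¹)⁻¹ = c * (t * (c⁻¹ * n * c) * t⁻¹) * c⁻¹ := by group
        _ = n := by rw [h4]; group
    · right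
      calc c * t * c⁻¹ * n * (c * t * c⁻¹)⁻¹ = c * (t * (c⁻¹ * n * c) * t⁻¹) * c⁻¹ := by group
        _ = n * (c * p * c⁻¹ * (c * e * c⁻¹)) := by rw [h4]; group
        _ = _ := by rw [h.e_conj hc]
  · have e1 : c * t * c⁻¹ * (c * n₀ * c⁻¹) * (c * t * c⁻¹)⁻¹ = c * (t * n₀ * t⁻¹) * c⁻¹ := by group
    rw [e1] at h4
    exact mul_left_cancel (mul_right_cancel h4)

theorem exists_tr {p : G} (hp : p ∈ Pts C x₀) : ∃ t, Tr C N e p t := by
  obtain ⟨g, hg, rfl⟩ := hp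
  obtain ⟨t, ht⟩ := h.tr
  exact ⟨_, h.conj_tr ht hg⟩

theorem exists_ne {p t : G} (ht : Tr C N e p t) : ∃ n ∈ N, t * n * t⁻¹ = n * (p * e) := by
  obtain ⟨-, h2, n, hn, h3⟩ := ht
  exact ⟨n, hn, (h2 n hn).resolve_left h3⟩

theorem pe_ne {p t : G} (ht : Tr C N e p t) : p * e ≠ 1 := by
  intro h1
  obtain ⟨n, hn, h3⟩ := ht.2.2
  apply h3
  rcases ht.2.1 n hn with h4 | h4
  · exact h4
  · rw [h4, h1, mul_one]

theorem pe_mem {p t : G} (ht : Tr C N e p t) : p * e ∈ N := by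
  obtain ⟨n, hn, h3⟩ := h.exists_ne ht
  have h1 := mul_mem (inv_mem hn) (h.conj_N ht.1 hn)
  rwa [h3, inv_mul_cancel_left] at h1

theorem e_mem : e ∈ N := by
  obtain ⟨t, ht⟩ := h.tr
  have h1 := mul_mem (inv_mem h.x_mem) (h.pe_mem ht)
  rwa [inv_mul_cancel_left] at h1

theorem ee : e * e = 1 := h.sq e h.e_mem

theorem inv_eq {n : G} (hn : n ∈ N) : n⁻¹ = n := inv_eq_of_mul_eq_one_left (h.sq n hn)

/-- the image of a product of elements of `N` -/
theorem conj_mul' (t n m : G) : t * (n * m) * t⁻¹ = t * n * t⁻¹ * (t * m * t⁻¹) := by group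

/-- `{1, e, x₀, x₀ e}` -/
def XX : Subgroup G where
  carrier := {z | z = 1 ∨ z = e ∨ z = x₀ ∨ z = x₀ * e}
  one_mem' := Or.inl rfl
  mul_mem' := by
    have hee := h.ee
    have hxx := h.sq x₀ h.x_mem
    have hc := h.comm x₀ h.x_mem e h.e_mem
    have h1 : e * (x₀ * e) = x₀ := by rw [← mul_assoc, ← hc, mul_assoc, hee, mul_one]
    have h2 : x₀ * (x₀ * e) = e := by rw [← mul_assoc, hxx, one_mul]
    have h3 : x₀ * e * e = x₀ := by rw [mul_assoc, hee, mul_one]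
    have h4 : x₀ * e * x₀ = e := by rw [hc, mul_assoc, hxx, mul_one]
    have h5 : x₀ * e * (x₀ * e) = 1 := by rw [← mul_assoc, h4, hee]
    rintro u w (rfl | rfl | rfl | rfl) (rfl | rfl | rfl | rfl) <;>
      simp only [Set.mem_ofPred_eq, one_mul, mul_one, hee, hxx, h1, h2, h3, h4, h5, true_or, or_true, ← hc]
  inv_mem' := by
    rintro u (rfl | rfl | rfl | rfl)
    · left; exact inv_one
    · right; left; exact h.inv_eq h.e_mem
    · right; right; left; exact h.inv_eq h.x_mem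
    · right; right; right; exact h.inv_eq (mul_mem h.x_mem h.e_mem)

theorem mem_XX {z : G} : z ∈ h.XX ↔ z = 1 ∨ z = e ∨ z = x₀ ∨ z = x₀ * e := Iff.rfl

/-- an element `g` of `C` acting trivially on `N / I` and on `I` centralises `N`, `I` invariant under `C` -/
theorem triv_series [Finite G] {I : Subgroup G} (hIN : I ≤ N) (hIC : ∀ c ∈ C, ∀ x ∈ I, c * x * c⁻¹ ∈ I) {g : G}
    (hg : g ∈ C) (h1 : ∀ n ∈ N, n * (g * n * g⁻¹) ∈ I) (h2 : ∀ i ∈ I, g * i * g⁻¹ = i) :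
    ∀ n ∈ N, g * n * g⁻¹ = n := by
  have hIC' : ∀ c ∈ C, ∀ x ∈ I, c⁻¹ * x * c ∈ I := by
    intro c hc x hx
    have := hIC c⁻¹ (inv_mem hc) x hx
    rwa [inv_inv] at this
  -- the elements of `C` trivial on `N / I` and `I`
  let Y : Subgroup G :=
    { carrier := {y | y ∈ C ∧ (∀ n ∈ N, n * (y * n * y⁻¹) ∈ I) ∧ ∀ i ∈ I, y * i * y⁻¹ = i}
      one_mem' := ⟨one_mem _, fun n hn => by simp [h.sq n hn], fun i _ => by group⟩
      mul_mem' := by
        rintro x y ⟨hx, hx1, hx2⟩ ⟨hy, hy1, hy2⟩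
        refine ⟨mul_mem hx hy, fun n hn => ?_, fun i hi => ?_⟩
        · have h3 := hy1 n hn
          have h4 := hx1 n hn
          have e1 : x * y * n * (x * y)⁻¹ = x * n * x⁻¹ * (x * (n⁻¹ * (y * n * y⁻¹)) * x⁻¹) := by group
          rw [e1, h.inv_eq hn, hx2 _ h3, ← mul_assoc]
          exact I.mul_mem h4 h3
        · have e1 : x * y * i * (x * y)⁻¹ = x * (y * i * y⁻¹) * x⁻¹ := by group
          rw [e1, hy2 i hi, hx2 i hi]
      inv_mem' := by
        rintro x ⟨hx, hx1, hx2⟩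
        have hx2' : ∀ i ∈ I, x⁻¹ * i * x = i := by
          intro i hi
          have h3 := hx2 i hi
          calc x⁻¹ * i * x = x⁻¹ * (x * i * x⁻¹) * x := by rw [h3]
            _ = i := by group
        refine ⟨inv_mem hx, fun n hn => ?_, fun i hi => by rw [inv_inv]; exact hx2' i hi⟩
        have h3 := hx1 n hn
        have h4 := hIC' x hx _ h3
        have e1 : x⁻¹ * (n * (x * n * x⁻¹)) * x = x⁻¹ * n * x * n := by group
        rw [e1] at h4
        rw [inv_inv, h.comm n hn _ (h.conj_N' hx hn)]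
        exact h4 }
  have hCY : C ≤ normalizer (Y : Set G) := by
    have key : ∀ c ∈ C, ∀ y ∈ Y, c * y * c⁻¹ ∈ Y := by
      rintro c hc y ⟨hy, hy1, hy2⟩
      refine ⟨mul_mem (mul_mem hc hy) (inv_mem hc), fun n hn => ?_, fun i hi => ?_⟩
      · have h3 := hIC c hc _ (hy1 _ (h.conj_N' hc hn))
        have e1 : c * (c⁻¹ * n * c * (y * (c⁻¹ * n * c) * y⁻¹)) * c⁻¹ = n * (c * y * c⁻¹ * n * (c * y * c⁻¹)⁻¹) := by
          group
        rwa [e1] at h3
      · have h3 := hy2 _ (hIC' c hc i hi)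
        calc c * y * c⁻¹ * i * (c * y * c⁻¹)⁻¹ = c * (y * (c⁻¹ * i * c) * y⁻¹) * c⁻¹ := by group
          _ = i := by rw [h3]; group
    intro c hc
    rw [mem_normalizer_iff]
    intro y
    refine ⟨key c hc y, fun hy => ?_⟩
    have h3 := key c⁻¹ (inv_mem hc) _ hy
    have e1 : c⁻¹ * (c * y * c⁻¹) * c⁻¹⁻¹ = y := by group
    rwa [e1] at h3
  have hcen := le_cent_of_unip (Y := Y) (h.TD.trans fun d hd => ((h.D_iff d).1 hd).1) h.T_odd
    (fun t ht => ((h.D_iff t).1 (h.TD ht)).2) h.x_mem h.norm h.gen (fun y hy => hy.1) hCY (fun y hy => ?_)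
  · intro n hn
    have h3 := mem_centralizer_iff.1 (hcen (show g ∈ Y from ⟨hg, h1, h2⟩)) n hn
    rw [← h3]; group
  · -- squares are trivial on `N`
    refine ⟨1, ?_⟩
    rw [pow_one, pow_two, mem_centralizer_iff]
    intro n hn
    have h2 := hy.2.1 n hn
    have h3 : y * n * y⁻¹ = n * (n * (y * n * y⁻¹)) := by rw [← mul_assoc, h.sq n hn, one_mul]
    have h4 : y * y * n * (y * y)⁻¹ = n := by
      calc y * y * n * (y * y)⁻¹ = y * (y * n * y⁻¹) * y⁻¹ := by group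
        _ = y * (n * (n * (y * n * y⁻¹))) * y⁻¹ := by rw [← h3]
        _ = y * n * y⁻¹ * (y * (n * (y * n * y⁻¹)) * y⁻¹) := by group
        _ = n * (n * (y * n * y⁻¹)) * (n * (y * n * y⁻¹)) := by rw [hy.2.2 _ h2, ← h3]
        _ = n := by rw [mul_assoc, h.sq _ (hIN h2), mul_one]
    calc n * (y * y) = y * y * n * (y * y)⁻¹ * (y * y) := by rw [h4]
      _ = y * y * n := by group

end TBase

namespace TUn

variable {C D M T N : Subgroup G} {v e x₀ a : G} (h : TUn C D M T N v e x₀ a)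
include h

theorem uniq' {p t t' : G} (hp : p ∈ Pts C x₀) (ht : Tr C N e p t) (ht' : Tr C N e p t') {n : G} (hn : n ∈ N) :
    t * n * t⁻¹ = t' * n * t'⁻¹ := by
  obtain ⟨g, hg, rfl⟩ := hp
  have e0 : g⁻¹ * (g * x₀ * g⁻¹) * g⁻¹⁻¹ = x₀ := by group
  have h1 := h.conj_tr ht (inv_mem hg)
  have h2 := h.conj_tr ht' (inv_mem hg)
  rw [e0] at h1 h2
  have h3 := h.uniq _ _ h1 h2 _ (h.conj_N' hg hn)
  have e1 : ∀ s : G, g⁻¹ * s * g⁻¹⁻¹ * (g⁻¹ * n * g) * (g⁻¹ * s * g⁻¹⁻¹)⁻¹ = g⁻¹ * (s * n * s⁻¹) * g := by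
    intro s; group
  rw [e1, e1] at h3
  exact mul_left_cancel (mul_right_cancel h3)

omit h in
/-- the functional of the point `p` -/
noncomputable def ff (C N : Subgroup G) (e p n : G) : ℤˣ :=
  open Classical in if ∀ t, Tr C N e p t → t * n * t⁻¹ = n then 1 else -1

theorem ff_one {p t n : G} (hp : p ∈ Pts C x₀) (ht : Tr C N e p t) (hn : n ∈ N) :
    ff C N e p n = 1 ↔ t * n * t⁻¹ = n := by
  unfold ff
  split_ifs with h1
  · simp [h1 t ht]
  · constructor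
    · intro h2; exact absurd h2 neg_ne
    · intro h2
      exact absurd (fun t' ht' => (h.uniq' hp ht' ht hn).trans h2) h1

theorem ff_neg {p t n : G} (hp : p ∈ Pts C x₀) (ht : Tr C N e p t) (hn : n ∈ N) :
    ff C N e p n = -1 ↔ t * n * t⁻¹ = n * (p * e) := by
  constructor
  · intro h1
    rcases ht.2.1 n hn with h2 | h2
    · rw [(h.ff_one hp ht hn).2 h2] at h1
      exact absurd h1.symm neg_ne
    · exact h2
  · intro h1
    refine ne_of fun h2 => h.pe_ne ht ?_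
    rw [(h.ff_one hp ht hn).1 h2] at h1
    exact mul_eq_left.1 h1.symm

theorem ff_mul {p : G} (hp : p ∈ Pts C x₀) : ∀ n ∈ N, ∀ m ∈ N, ff C N e p (n * m) = ff C N e p n * ff C N e p m := by
  intro n hn m hm
  obtain ⟨t, ht⟩ := h.exists_tr hp
  have hpe := h.pe_mem ht
  have e1 := h.conj_mul' t n m
  rcases Int.units_eq_one_or (ff C N e p n) with h1 | h1 <;> rcases Int.units_eq_one_or (ff C N e p m) with h2 | h2
  · have h3 : ff C N e p (n * m) = 1 := by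
      rw [h.ff_one hp ht (mul_mem hn hm), e1, (h.ff_one hp ht hn).1 h1, (h.ff_one hp ht hm).1 h2]
    rw [h1, h2, h3]; decide
  · have h3 : ff C N e p (n * m) = -1 := by
      rw [h.ff_neg hp ht (mul_mem hn hm), e1, (h.ff_one hp ht hn).1 h1, (h.ff_neg hp ht hm).1 h2]
      group
    rw [h1, h2, h3]; decide
  · have h3 : ff C N e p (n * m) = -1 := by
      rw [h.ff_neg hp ht (mul_mem hn hm), e1, (h.ff_neg hp ht hn).1 h1, (h.ff_one hp ht hm).1 h2]
      rw [mul_assoc, h.comm _ hpe m hm, ← mul_assoc]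
    rw [h1, h2, h3]; decide
  · have h3 : ff C N e p (n * m) = 1 := by
      rw [h.ff_one hp ht (mul_mem hn hm), e1, (h.ff_neg hp ht hn).1 h1, (h.ff_neg hp ht hm).1 h2]
      rw [mul_assoc, ← mul_assoc (p * e), h.comm _ hpe m hm, mul_assoc m, h.sq _ hpe, mul_one]
    rw [h1, h2, h3]; decide

theorem ff_e {p : G} (hp : p ∈ Pts C x₀) : ff C N e p e = 1 := by
  obtain ⟨t, ht⟩ := h.exists_tr hp
  exact (h.ff_one hp ht h.e_mem).2 (h.e_conj ht.1)

theorem ff_self {p : G} (hp : p ∈ Pts C x₀) : ff C N e p p = 1 := by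
  obtain ⟨t, ht⟩ := h.exists_tr hp
  have hpe := h.pe_mem ht
  have h1 : ff C N e p (p * e) = 1 := by
    refine (h.ff_one hp ht hpe).2 ?_
    rcases ht.2.1 _ hpe with h2 | h2
    · exact h2
    · exfalso
      rw [h.sq _ hpe] at h2
      apply h.pe_ne ht
      have : p * e = t⁻¹ * (t * (p * e) * t⁻¹) * t := by group
      rw [this, h2]; group
  rw [h.ff_mul hp p (h.pt_mem hp) e h.e_mem, h.ff_e hp, mul_one] at h1
  exact h1

theorem ff_symm_aux {p q : G} (hp : p ∈ Pts C x₀) (hq : q ∈ Pts C x₀) (h1 : ff C N e p q = 1) :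
    ff C N e q p = 1 := by
  obtain ⟨t, ht⟩ := h.exists_tr hp
  obtain ⟨s, hs⟩ := h.exists_tr hq
  have hpe := h.pe_mem ht
  have htq : t * q * t⁻¹ = q := (h.ff_one hp ht (h.pt_mem hq)).1 h1
  -- `t` and `s` commute on `N`
  have h2 := h.conj_tr hs ht.1
  rw [htq] at h2
  have h3 : ∀ n ∈ N, t * s * n * (t * s)⁻¹ = s * t * n * (s * t)⁻¹ := by
    intro n hn
    have h4 := h.uniq' hq h2 hs (h.conj_N ht.1 hn)
    calc t * s * n * (t * s)⁻¹ = t * s * t⁻¹ * (t * n * t⁻¹) * (t * s * t⁻¹)⁻¹ := by group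
      _ = s * (t * n * t⁻¹) * s⁻¹ := h4
      _ = _ := by group
  obtain ⟨n, hn, hn1⟩ := h.exists_ne ht
  have h5 := h3 n hn
  have e1 : s * t * n * (s * t)⁻¹ = s * (t * n * t⁻¹) * s⁻¹ := by group
  have e2 : t * s * n * (t * s)⁻¹ = t * (s * n * s⁻¹) * t⁻¹ := by group
  rw [e1, e2, hn1, h.conj_mul' s n] at h5
  -- `t` fixes `q e`
  have hte : t * (q * e) * t⁻¹ = q * e := by rw [h.conj_mul' t, htq, h.e_conj ht.1]
  have hsn := h.conj_N hs.1 hn
  have h6 : t * (s * n * s⁻¹) * t⁻¹ = s * n * s⁻¹ * (p * e) := by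
    rcases hs.2.1 n hn with h7 | h7
    · rw [h7, hn1]
    · rw [h7, h.conj_mul' t n, hn1, hte, mul_assoc n, mul_assoc n, h.comm _ hpe _ (h.pe_mem hs)]
  rw [h6] at h5
  have h7 := mul_left_cancel h5
  have h8 : ff C N e q (p * e) = 1 := (h.ff_one hq hs hpe).2 h7.symm
  rw [h.ff_mul hq p (h.pt_mem hp) e h.e_mem, h.ff_e hq, mul_one] at h8
  exact h8

theorem ff_symm : ∀ p ∈ Pts C x₀, ∀ q ∈ Pts C x₀, ff C N e p q = ff C N e q p := by
  intro p hp q hq
  rcases Int.units_eq_one_or (ff C N e p q) with h1 | h1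
  · rw [h1, h.ff_symm_aux hp hq h1]
  · rw [h1, eq_comm]
    refine ne_of fun h2 => ?_
    rw [h.ff_symm_aux hq hp h2] at h1
    exact absurd h1.symm neg_ne

/-- functionals on `N` agreeing on the points -/
theorem ext {φ ψ : G → ℤˣ} (h1 : ∀ u ∈ N, ∀ w ∈ N, φ (u * w) = φ u * φ w)
    (h2 : ∀ u ∈ N, ∀ w ∈ N, ψ (u * w) = ψ u * ψ w) (h3 : ∀ q ∈ Pts C x₀, φ q = ψ q) : ∀ u ∈ N, φ u = ψ u := by
  intro u hu
  refine (closure_induction (p := fun x _ => x ∈ N ∧ φ x = ψ x) ?_ ?_ ?_ ?_ (h.gen hu)).2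
  · exact fun q hq => ⟨h.pt_mem hq, h3 q hq⟩
  · refine ⟨N.one_mem, ?_⟩
    have e1 := h1 1 N.one_mem 1 N.one_mem
    have e2 := h2 1 N.one_mem 1 N.one_mem
    rw [mul_one, uu] at e1 e2
    rw [e1, e2]
  · rintro x y _ _ ⟨hx, ex⟩ ⟨hy, ey⟩
    exact ⟨N.mul_mem hx hy, by rw [h1 x hx y hy, h2 x hx y hy, ex, ey]⟩
  · rintro x _ ⟨hx, ex⟩
    rw [h.inv_eq hx]
    exact ⟨hx, ex⟩

/-- **The form.** -/
theorem exists_frm : ∃ B : G → G → ℤˣ, Frm C N e x₀ B := by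
  obtain ⟨B, h1, h2, h3, h4⟩ := FormOf.exists_form h.sq (fun p hp => h.pt_mem hp) h.gen
    (fun p hp => h.ff_mul hp) h.ff_symm (fun p hp => h.ff_self hp)
  have h5 : ∀ p ∈ Pts C x₀, ∀ t, Tr C N e p t → ∀ n ∈ N, (B p n = 1 ↔ t * n * t⁻¹ = n) := by
    intro p hp t ht n hn
    rw [h1 p hp n hn]
    exact h.ff_one hp ht hn
  refine ⟨B, ⟨h5, h2, h3, h4, fun c hc => ?_⟩⟩
  -- invariance for a point
  have h6 : ∀ p ∈ Pts C x₀, ∀ n ∈ N, B (c * p * c⁻¹) (c * n * c⁻¹) = B p n := by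
    intro p hp n hn
    obtain ⟨t, ht⟩ := h.exists_tr hp
    have h7 := h5 _ (h.conj_pt hp hc) _ (h.conj_tr ht hc) _ (h.conj_N hc hn)
    have h8 := h5 p hp t ht n hn
    have h9 : (c * t * c⁻¹ * (c * n * c⁻¹) * (c * t * c⁻¹)⁻¹ = c * n * c⁻¹) ↔ t * n * t⁻¹ = n := by
      have e1 : c * t * c⁻¹ * (c * n * c⁻¹) * (c * t * c⁻¹)⁻¹ = c * (t * n * t⁻¹) * c⁻¹ := by group
      rw [e1]
      exact ⟨fun h => mul_left_cancel (mul_right_cancel h), fun h => by rw [h]⟩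
    rw [h9, ← h8] at h7
    rcases Int.units_eq_one_or (B p n) with h10 | h10
    · rw [h10, h7.2 h10]
    · rw [h10]
      refine ne_of fun h11 => ?_
      rw [h7.1 h11] at h10
      exact absurd h10.symm neg_ne
  intro u hu w hw
  have h7 := h.ext (φ := fun u => B (c * u * c⁻¹) (c * w * c⁻¹)) (ψ := fun u => B u w)
    (fun x hx y hy => by
      rw [h.conj_mul' c, h3 _ (mul_mem (h.conj_N hc hx) (h.conj_N hc hy)) _ (h.conj_N hc hw),
        h2 _ (h.conj_N hc hw) _ (h.conj_N hc hx) _ (h.conj_N hc hy), h3 _ (h.conj_N hc hw) _ (h.conj_N hc hx),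
        h3 _ (h.conj_N hc hw) _ (h.conj_N hc hy)])
    (fun x hx y hy => by
      rw [h3 _ (mul_mem hx hy) _ hw, h2 _ hw _ hx _ hy, h3 _ hw _ hx, h3 _ hw _ hy])
    (fun p hp => h6 p hp w hw)
  exact h7 u hu

section frm

variable {B : G → G → ℤˣ} (F : Frm C N e x₀ B)
include F

theorem neg {p t n : G} (hp : p ∈ Pts C x₀) (ht : Tr C N e p t) (hn : n ∈ N) (h1 : B p n = -1) :
    t * n * t⁻¹ = n * (p * e) := by
  refine (ht.2.1 n hn).resolve_left fun h2 => ?_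
  rw [(F.tv p hp t ht n hn).2 h2] at h1
  exact absurd h1.symm neg_ne

theorem mul_left {u w x : G} (hu : u ∈ N) (hw : w ∈ N) (hx : x ∈ N) : B (u * w) x = B u x * B w x := by
  rw [F.symm _ (N.mul_mem hu hw) x hx, F.mul x hx u hu w hw, F.symm x hx u hu, F.symm x hx w hw]

theorem one_r {u : G} (hu : u ∈ N) : B u 1 = 1 := by
  have h1 := F.mul u hu 1 N.one_mem 1 N.one_mem
  rw [mul_one, uu] at h1
  exact h1

theorem one_l {u : G} (hu : u ∈ N) : B 1 u = 1 := by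
  rw [F.symm 1 N.one_mem u hu]; exact h.one_r F hu

theorem e_r {u : G} (hu : u ∈ N) : B u e = 1 :=
  h.ext (φ := fun u => B u e) (ψ := fun _ => 1) (fun _ hx _ hy => h.mul_left F hx hy h.e_mem) (fun _ _ _ _ => by simp)
    (fun p hp => by
      obtain ⟨t, ht⟩ := h.exists_tr hp
      exact (F.tv p hp t ht e h.e_mem).2 (h.e_conj ht.1)) u hu

theorem e_l {u : G} (hu : u ∈ N) : B e u = 1 := by rw [F.symm e h.e_mem u hu]; exact h.e_r F hu

theorem mul_e {u w : G} (hu : u ∈ N) (hw : w ∈ N) : B (u * e) w = B u w := by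
  rw [h.mul_left F hu h.e_mem hw, h.e_l F hw, mul_one]

theorem mul_e' {u w : G} (hu : u ∈ N) (hw : w ∈ N) : B w (u * e) = B w u := by
  rw [F.mul w hw u hu e h.e_mem, h.e_r F hw, mul_one]

/-- `t_p` maps a point `q` not perpendicular to `p` to `q p e` -/
theorem trv {p q : G} (hp : p ∈ Pts C x₀) (hq : q ∈ Pts C x₀) (h1 : B p q = -1) : p * q * e ∈ Pts C x₀ := by
  obtain ⟨t, ht⟩ := h.exists_tr hp
  have h2 := h.neg F hp ht (h.pt_mem hq) h1
  have h3 := h.conj_pt hq ht.1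
  rw [h2] at h3
  have h4 : q * (p * e) = p * q * e := by rw [← mul_assoc, h.comm q (h.pt_mem hq) p (h.pt_mem hp)]
  rwa [h4] at h3

theorem exists_nonperp {p : G} (hp : p ∈ Pts C x₀) : ∃ q ∈ Pts C x₀, B p q = -1 := by
  by_contra hc
  push Not at hc
  obtain ⟨t, ht⟩ := h.exists_tr hp
  obtain ⟨n, hn, hn1⟩ := ht.2.2
  apply hn1
  have hpN := h.pt_mem hp
  refine (F.tv p hp t ht n hn).1 ?_
  exact h.ext (φ := fun u => B p u) (ψ := fun _ => 1) (F.mul p hpN) (fun _ _ _ _ => by simp)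
    (fun q hq => by
      by_contra h1
      exact hc q hq (ne_of h1)) n hn

/-- (INJ) -/
theorem inj [Finite G] {p q : G} (hp : p ∈ Pts C x₀) (hq : q ∈ Pts C x₀) (h1 : ∀ y ∈ N, B (p * q) y = 1) : p = q := by
  have hpN := h.pt_mem hp
  have hqN := h.pt_mem hq
  have hpq : ∀ y ∈ N, B p y = B q y := by
    intro y hy
    have h2 := h1 y hy
    rw [h.mul_left F hpN hqN hy] at h2
    rcases Int.units_eq_one_or (B p y) with h3 | h3 <;> rcases Int.units_eq_one_or (B q y) with h4 | h4 <;>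
      rw [h3, h4] at h2 ⊢
    · exact absurd h2 (by decide)
    · exact absurd h2 (by decide)
  -- the radical
  let I : Subgroup G :=
    { carrier := {u | u ∈ N ∧ ∀ w ∈ N, B u w = 1}
      one_mem' := ⟨N.one_mem, fun w hw => h.one_l F hw⟩
      mul_mem' := by
        rintro x y ⟨hx, hx'⟩ ⟨hy, hy'⟩
        exact ⟨mul_mem hx hy, fun w hw => by rw [h.mul_left F hx hy hw, hx' w hw, hy' w hw, one_mul]⟩
      inv_mem' := by
        rintro x ⟨hx, hx'⟩
        change x⁻¹ ∈ N ∧ ∀ w ∈ N, B x⁻¹ w = 1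
        rw [h.inv_eq hx]
        exact ⟨hx, hx'⟩ }
  have hI : ∀ x, x ∈ I ↔ x ∈ N ∧ ∀ w ∈ N, B x w = 1 := fun x => Iff.rfl
  have hIC : ∀ c ∈ C, ∀ x ∈ I, c * x * c⁻¹ ∈ I := by
    rintro c hc x ⟨hx, hx'⟩
    refine ⟨h.conj_N hc hx, fun w hw => ?_⟩
    have h2 := F.inv c hc x hx _ (h.conj_N' hc hw)
    have e1 : c * (c⁻¹ * w * c) * c⁻¹ = w := by group
    rw [e1] at h2
    rw [h2]
    exact hx' _ (h.conj_N' hc hw)
  -- `t_p t_q`
  obtain ⟨t, ht⟩ := h.exists_tr hp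
  obtain ⟨s, hs⟩ := h.exists_tr hq
  have hact : ∀ n ∈ N, (B p n = 1 → t * s * n * (t * s)⁻¹ = n) ∧ (B p n = -1 → t * s * n * (t * s)⁻¹ = n * (p * q)) := by
    intro n hn
    have e1 : t * s * n * (t * s)⁻¹ = t * (s * n * s⁻¹) * t⁻¹ := by group
    constructor
    · intro h2
      rw [e1, (F.tv q hq s hs n hn).1 (by rw [← hpq n hn, h2]), (F.tv p hp t ht n hn).1 h2]
    · intro h2
      have h3 : t * (q * e) * t⁻¹ = q * e := by
        refine (F.tv p hp t ht _ (h.pe_mem hs)).1 ?_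
        rw [h.mul_e' F hqN hpN, hpq q hqN, F.self q hqN]
      rw [e1, h.neg F hq hs hn (by rw [← hpq n hn, h2]), h.conj_mul' t n, h.neg F hp ht hn h2, h3, mul_assoc]
      congr 1
      rw [h.comm q hqN e h.e_mem, mul_assoc p, ← mul_assoc e e, h.ee, one_mul]
  obtain ⟨n, hn, hn1⟩ := h.exists_nonperp F hp
  have hnN := h.pt_mem hn
  have h2 := (hact n hnN).2 hn1
  rw [h.triv_series (I := I) (fun x hx => hx.1) hIC (mul_mem ht.1 hs.1) (fun n hn => ?_) (fun i hi => ?_) n hnN] at h2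
  · have h4 : p * q = 1 := mul_eq_left.1 h2.symm
    rw [mul_eq_one_iff_eq_inv, h.inv_eq hqN] at h4
    exact h4
  · rcases Int.units_eq_one_or (B p n) with h2 | h2
    · rw [(hact n hn).1 h2, h.sq n hn]
      exact I.one_mem
    · rw [(hact n hn).2 h2, ← mul_assoc, h.sq n hn, one_mul]
      exact ⟨mul_mem hpN hqN, h1⟩
  · refine (hact i hi.1).1 ?_
    rw [F.symm p hpN i hi.1]
    exact hi.2 p hpN

omit h F in
/-- two points not perpendicular to each other -/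
def Np (C : Subgroup G) (x₀ : G) (B : G → G → ℤˣ) (p q : G) : Prop :=
  p ∈ Pts C x₀ ∧ q ∈ Pts C x₀ ∧ B p q = -1

theorem Np_symm {p q : G} (h1 : Np C x₀ B p q) : Np C x₀ B q p :=
  ⟨h1.2.1, h1.1, by rw [F.symm q (h.pt_mem h1.2.1) p (h.pt_mem h1.1)]; exact h1.2.2⟩

theorem Np_conj {p q c : G} (hc : c ∈ C) (h1 : Np C x₀ B p q) : Np C x₀ B (c * p * c⁻¹) (c * q * c⁻¹) :=
  ⟨h.conj_pt h1.1 hc, h.conj_pt h1.2.1 hc, by rw [F.inv c hc p (h.pt_mem h1.1) q (h.pt_mem h1.2.1)]; exact h1.2.2⟩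

theorem path_symm {p q : G} (h1 : Relation.ReflTransGen (Np C x₀ B) p q) : Relation.ReflTransGen (Np C x₀ B) q p := by
  induction h1 with
  | refl => exact Relation.ReflTransGen.refl
  | tail _ h2 ih => exact Relation.ReflTransGen.head (h.Np_symm F h2) ih

theorem path_conj {p q c : G} (hc : c ∈ C) (h1 : Relation.ReflTransGen (Np C x₀ B) p q) :
    Relation.ReflTransGen (Np C x₀ B) (c * p * c⁻¹) (c * q * c⁻¹) := by
  induction h1 with
  | refl => exact Relation.ReflTransGen.refl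
  | tail _ h2 ih => exact ih.tail (h.Np_conj F hc h2)

theorem path_line : Relation.ReflTransGen (Np C x₀ B) x₀ a ∧ Relation.ReflTransGen (Np C x₀ B) x₀ (x₀ * a) := by
  obtain ⟨w, hw, hw1⟩ := h.exists_nonperp F h.x_pt
  have hwN := h.pt_mem hw
  have haN := h.pt_mem h.a_pt
  have h1 : Relation.ReflTransGen (Np C x₀ B) x₀ w := Relation.ReflTransGen.single ⟨h.x_pt, hw, hw1⟩
  obtain ⟨d, hd, hda⟩ := h.tau
  have hd' := (h.D_iff d).1 hd
  have hdx : d * x₀ * d⁻¹ = x₀ := by rw [hd'.2]; group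
  have hdx' : d⁻¹ * x₀ * d⁻¹⁻¹ = x₀ := by
    calc d⁻¹ * x₀ * d⁻¹⁻¹ = d⁻¹ * (x₀ * d) := by group
      _ = d⁻¹ * (d * x₀) := by rw [hd'.2]
      _ = x₀ := by group
  have hda' : d⁻¹ * (x₀ * a) * d⁻¹⁻¹ = a := by rw [← hda]; group
  rcases Int.units_eq_one_or (B w a) with h2 | h2
  · have h3 : B w (x₀ * a) = -1 := by
      rw [F.mul w hwN x₀ h.x_mem a haN, h2, mul_one, F.symm w hwN x₀ h.x_mem, hw1]
    have h4 : Relation.ReflTransGen (Np C x₀ B) x₀ (x₀ * a) := h1.tail ⟨hw, h.xa_pt, h3⟩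
    refine ⟨?_, h4⟩
    have h5 := h.path_conj F (inv_mem hd'.1) h4
    rwa [hdx', hda'] at h5
  · have h4 : Relation.ReflTransGen (Np C x₀ B) x₀ a := h1.tail ⟨hw, h.a_pt, h2⟩
    refine ⟨h4, ?_⟩
    have h5 := h.path_conj F hd'.1 h4
    rwa [hdx, hda] at h5

/-- the graph 'not perpendicular' is connected -/
theorem path {p : G} (hp : p ∈ Pts C x₀) : Relation.ReflTransGen (Np C x₀ B) x₀ p := by
  let H : Subgroup G :=
    { carrier := {c | c ∈ C ∧ Relation.ReflTransGen (Np C x₀ B) x₀ (c * x₀ * c⁻¹)}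
      one_mem' := ⟨one_mem _, by simpa using Relation.ReflTransGen.refl⟩
      mul_mem' := by
        rintro x y ⟨hx, hx'⟩ ⟨hy, hy'⟩
        refine ⟨mul_mem hx hy, ?_⟩
        have h1 := hx'.trans (h.path_conj F hx hy')
        have e1 : x * (y * x₀ * y⁻¹) * x⁻¹ = x * y * x₀ * (x * y)⁻¹ := by group
        rwa [e1] at h1
      inv_mem' := by
        rintro x ⟨hx, hx'⟩
        refine ⟨inv_mem hx, ?_⟩
        have h1 := h.path_conj F (inv_mem hx) (h.path_symm F hx')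
        have e1 : x⁻¹ * (x * x₀ * x⁻¹) * x⁻¹⁻¹ = x₀ := by group
        rwa [e1] at h1 }
  have hH : ∀ c, c ∈ H ↔ c ∈ C ∧ Relation.ReflTransGen (Np C x₀ B) x₀ (c * x₀ * c⁻¹) := fun c => Iff.rfl
  have hDH : D ≤ H := by
    intro d hd
    have h1 := (h.D_iff d).1 hd
    refine ⟨h1.1, ?_⟩
    have : d * x₀ * d⁻¹ = x₀ := by rw [h1.2]; group
    rw [this]
  have hMH : M ≤ H := by
    intro m hm
    refine ⟨h.MC hm, ?_⟩
    rcases h.ML m hm with h1 | h1 | h1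
    · rw [h1]
    · rw [h1]; exact (h.path_line F).1
    · rw [h1]; exact (h.path_line F).2
  obtain ⟨g, hg, rfl⟩ := hp
  exact ((hH g).1 ((h.CDM.trans (sup_le hDH hMH)) hg)).2

theorem conn : ∀ A : Set G, A ⊆ Pts C x₀ → A.Nonempty → (∀ p ∈ A, ∀ p' ∈ Pts C x₀, B p p' = -1 → p' ∈ A) →
    A = Pts C x₀ := by
  intro A hA ⟨q, hq⟩ hcl
  refine Set.Subset.antisymm hA fun p hp => ?_
  have h1 : Relation.ReflTransGen (Np C x₀ B) q p := (h.path_symm F (h.path F (hA hq))).trans (h.path F hp)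
  clear hp
  induction h1 with
  | refl => exact hq
  | tail _ h2 ih => exact hcl _ ih _ h2.2.1 h2.2.2

theorem form (he1 : e = 1) : Form N (Pts C x₀) B := by
  refine ⟨h.sq, h.comm, fun p hp => h.pt_mem hp, h.gen, F.mul, F.symm, F.self, fun p hp q hq h1 => ?_, h.conn F⟩
  have h2 := h.trv F hp hq h1
  rwa [he1, mul_one] at h2

end frm

end TUn

namespace TDat

variable {C D M T N : Subgroup G} {v e x₀ a : G} (h : TDat C D M T N v e x₀ a)
include h

section frm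

variable {B : G → G → ℤˣ} (F : Frm C N e x₀ B)
include F

theorem B_xa : B x₀ a = 1 := by
  obtain ⟨t, ht⟩ := h.tr
  exact (F.tv x₀ h.x_pt t ht a (h.pt_mem h.a_pt)).2 (h.ti t ht)

theorem formV [Finite G] (he1 : e ≠ 1) : FormV N e (Pts C x₀) B :=
  ⟨h.sq, h.comm, fun _ hp => h.pt_mem hp, h.gen, h.e_mem, he1, F.mul, F.symm, F.self, fun _ hu => h.e_l F hu,
    fun _ hp _ hq h1 => h.trv F hp hq h1, h.conn F, fun _ hp _ hq h1 => h.inj F hp hq h1,
    ⟨x₀, h.x_pt, a, h.a_pt, h.a_ne.symm, h.B_xa F, Or.inl h.xa_pt⟩⟩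

theorem onLine : OnLine (Pts C x₀) B x₀ := ⟨a, h.a_pt, h.a_ne, h.B_xa F, h.xa_pt⟩

/-- **all vectors are points** (modulo `e`) -/
theorem points [Finite G] {u : G} (hu : u ∈ N) : u = 1 ∨ u = e ∨ u ∈ Pts C x₀ ∨ u * e ∈ Pts C x₀ := by
  by_cases he1 : e = 1
  · by_cases hu1 : u = 1
    · exact Or.inl hu1
    · exact Or.inr (Or.inr (Or.inl (OneSymp.all_points (h.form F he1) (fun p hp q hq h1 => h.inj F hp hq h1) h.x_pt
        (h.onLine F) hu hu1)))
  · exact (h.formV F he1).all_points hu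

theorem not_both [Finite G] (he1 : e ≠ 1) {p : G} (hp : p ∈ Pts C x₀) : p * e ∉ Pts C x₀ :=
  (h.formV F he1).not_both hp

/-- **the radical is `{1, e}`** -/
theorem rad [Finite G] {u : G} (hu : u ∈ N) (h1 : ∀ w ∈ N, B u w = 1) : u = 1 ∨ u = e := by
  by_cases he1 : e = 1
  · exact Or.inl (OneSymp.rad_eq (h.form F he1) (fun p hp q hq h1 => h.inj F hp hq h1) h.x_pt (h.onLine F) hu h1)
  · exact (h.formV F he1).rad_eq hu h1

theorem pt_ne {p : G} (hp : p ∈ Pts C x₀) : p ≠ 1 ∧ p ≠ e := by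
  obtain ⟨q, hq, h1⟩ := h.exists_nonperp F hp
  have hqN := h.pt_mem hq
  constructor
  · rintro rfl
    rw [h.one_l F hqN] at h1
    exact absurd h1.symm neg_ne
  · rintro rfl
    rw [h.e_l F hqN] at h1
    exact absurd h1.symm neg_ne

/-- `(x^⊥)^⊥ = ⟨x, e⟩` for a point `x` -/
theorem perp_perp [Finite G] {x u : G} (hx : x ∈ Pts C x₀) (hu : u ∈ N) (h1 : ∀ w ∈ N, B x w = 1 → B u w = 1) :
    u = 1 ∨ u = e ∨ u = x ∨ u = x * e := by
  have hxN := h.pt_mem hx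
  obtain ⟨y, hy, hxy⟩ := h.exists_nonperp F hx
  have hyN := h.pt_mem hy
  rcases Int.units_eq_one_or (B u y) with h2 | h2
  · have h3 : ∀ w ∈ N, B u w = 1 := by
      intro w hw
      rcases Int.units_eq_one_or (B x w) with h4 | h4
      · exact h1 w hw h4
      · have h5 := h1 (w * y) (mul_mem hw hyN) (by rw [F.mul x hxN w hw y hyN, h4, hxy]; decide)
        rw [F.mul u hu w hw y hyN, h2, mul_one] at h5
        exact h5
    rcases h.rad F hu h3 with h4 | h4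
    · exact Or.inl h4
    · exact Or.inr (Or.inl h4)
  · have h3 : ∀ w ∈ N, B (x * u) w = 1 := by
      intro w hw
      rw [h.mul_left F hxN hu hw]
      rcases Int.units_eq_one_or (B x w) with h4 | h4
      · rw [h4, h1 w hw h4, one_mul]
      · have h5 := h1 (w * y) (mul_mem hw hyN) (by rw [F.mul x hxN w hw y hyN, h4, hxy]; decide)
        rw [F.mul u hu w hw y hyN, h2] at h5
        rw [h4, mul_comm]
        exact h5
    have e1 : u = x * (x * u) := by rw [← mul_assoc, h.sq x hxN, one_mul]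
    rcases h.rad F (mul_mem hxN hu) h3 with h4 | h4
    · rw [h4, mul_one] at e1
      exact Or.inr (Or.inr (Or.inl e1))
    · rw [h4] at e1
      exact Or.inr (Or.inr (Or.inr e1))

/-- elements of `C` fixing `p` and the hyperplane `p^⊥` -/
theorem tr_fix {p t n : G} (hp : p ∈ Pts C x₀) (ht : Tr C N e p t) (hn : n ∈ N) (h1 : B p n = 1) :
    t * n * t⁻¹ = n := (F.tv p hp t ht n hn).1 h1

/-- `t_p ∈ D` for a point `p` of `x₀^⊥` -/
theorem tr_mem_D {p t : G} (hp : p ∈ Pts C x₀) (ht : Tr C N e p t) (h1 : B x₀ p = 1) : t ∈ D := by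
  refine (h.D_iff t).2 ⟨ht.1, ?_⟩
  have h2 := h.tr_fix F hp ht h.x_mem (by rw [F.symm p (h.pt_mem hp) x₀ h.x_mem, h1])
  calc t * x₀ = t * x₀ * t⁻¹ * t := by group
    _ = x₀ * t := by rw [h2]

/-- **an invariant subgroup of `x₀^⊥` containing `x₀`, `e` is `⟨x₀, e⟩` or `x₀^⊥`** -/
theorem eq_perp [Finite G] {A : Subgroup G} (heA : e ∈ A) (hxA : x₀ ∈ A) (hA : ∀ b ∈ A, b ∈ N ∧ B x₀ b = 1)
    (hD : ∀ t ∈ D, ∀ b ∈ A, t * b * t⁻¹ ∈ A) :
    (∀ b ∈ A, b = 1 ∨ b = e ∨ b = x₀ ∨ b = x₀ * e) ∨ ∀ u ∈ N, B x₀ u = 1 → u ∈ A := by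
  have key : ∀ p ∈ Pts C x₀, B x₀ p = 1 → ∀ b ∈ A, B p b = -1 → b * (p * e) ∈ A := by
    intro p hp h1 b hb h2
    obtain ⟨t, ht⟩ := h.exists_tr hp
    have h3 := hD t (h.tr_mem_D F hp ht h1) b hb
    rwa [h.neg F hp ht (hA b hb).1 h2] at h3
  by_cases he1 : e = 1
  · rcases OneSymp.bot_or_perp (h.form F he1) (fun p hp q hq h1 => h.inj F hp hq h1) h.x_pt (h.onLine F) hxA hA
      (fun _ hp h1 ⟨b, hb, h2⟩ => by
        have h3 := A.mul_mem (A.inv_mem hb) (key _ hp h1 b hb h2)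
        rwa [inv_mul_cancel_left, he1, mul_one] at h3) with h1 | h1
    · left
      intro b hb
      rcases h1 b hb with h2 | h2
      · exact Or.inl h2
      · exact Or.inr (Or.inr (Or.inl h2))
    · exact Or.inr h1
  · exact (h.formV F he1).four_or_perp h.x_pt heA hxA hA key

theorem XX_le : h.XX ≤ N := by
  intro z hz
  rcases h.mem_XX.1 hz with rfl | rfl | rfl | rfl
  · exact N.one_mem
  · exact h.e_mem
  · exact h.x_mem
  · exact mul_mem h.x_mem h.e_mem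

theorem D_C {d : G} (hd : d ∈ D) : d ∈ C := ((h.D_iff d).1 hd).1

theorem D_x {d : G} (hd : d ∈ D) : d * x₀ * d⁻¹ = x₀ := by rw [((h.D_iff d).1 hd).2]; group

theorem D_XX {d z : G} (hd : d ∈ D) (hz : z ∈ h.XX) : d * z * d⁻¹ = z := by
  rcases h.mem_XX.1 hz with rfl | rfl | rfl | rfl
  · group
  · exact h.e_conj (h.D_C F hd)
  · exact h.D_x F hd
  · rw [h.conj_mul' d, h.D_x F hd, h.e_conj (h.D_C F hd)]

theorem D_B {d n : G} (hd : d ∈ D) (hn : n ∈ N) : B x₀ (d * n * d⁻¹) = B x₀ n := by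
  have h1 := F.inv d (h.D_C F hd) x₀ h.x_mem n hn
  rwa [h.D_x F hd] at h1

theorem D_B' {d n : G} (hd : d ∈ D) (hn : n ∈ N) : B x₀ (d⁻¹ * n * d) = B x₀ n := by
  have := h.D_B F (inv_mem hd) hn
  rwa [inv_inv] at this

theorem XX_perp {z : G} (hz : z ∈ h.XX) : B x₀ z = 1 := by
  rcases h.mem_XX.1 hz with rfl | rfl | rfl | rfl
  · exact h.one_r F h.x_mem
  · exact h.e_r F h.x_mem
  · exact F.self _ h.x_mem
  · rw [h.mul_e' F h.x_mem h.x_mem]; exact F.self _ h.x_mem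

/-- `a ∉ {1, e, x₀, x₀ e}` -/
theorem a_notMem [Finite G] : a ∉ h.XX := by
  intro h1
  have hp := h.pt_ne F h.a_pt
  rcases h.mem_XX.1 h1 with h2 | h2 | h2 | h2
  · exact hp.1 h2
  · exact hp.2 h2
  · exact h.a_ne h2
  · by_cases he1 : e = 1
    · rw [he1, mul_one] at h2; exact h.a_ne h2
    · apply h.not_both F he1 h.x_pt
      rw [← h2]; exact h.a_pt

/-- `E = ⟨{x₀, a}^D⟩` is `x₀^⊥`, in particular `e ∈ E` -/
theorem e_mem_E [Finite G] {E : Subgroup G} (hxE : x₀ ∈ E) (haE : a ∈ E) (hE : ∀ b ∈ E, b ∈ N ∧ B x₀ b = 1)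
    (hD : ∀ t ∈ D, ∀ b ∈ E, t * b * t⁻¹ ∈ E) : e ∈ E := by
  by_contra heE
  let A : Subgroup G :=
    { carrier := {b | b ∈ N ∧ (b ∈ E ∨ b * e ∈ E)}
      one_mem' := ⟨N.one_mem, Or.inl (one_mem _)⟩
      mul_mem' := by
        rintro u w ⟨hu, hu'⟩ ⟨hw, hw'⟩
        refine ⟨mul_mem hu hw, ?_⟩
        rcases hu' with h1 | h1 <;> rcases hw' with h2 | h2
        · exact Or.inl (mul_mem h1 h2)
        · exact Or.inr (by rw [mul_assoc]; exact mul_mem h1 h2)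
        · right
          have := mul_mem h1 h2
          rwa [mul_assoc, h.comm e h.e_mem w hw, ← mul_assoc] at this
        · left
          have := mul_mem h1 h2
          rwa [mul_assoc, h.comm w hw e h.e_mem, ← mul_assoc e, h.ee, one_mul] at this
      inv_mem' := by
        rintro u ⟨hu, hu'⟩
        change u⁻¹ ∈ N ∧ (u⁻¹ ∈ E ∨ u⁻¹ * e ∈ E)
        rw [h.inv_eq hu]
        exact ⟨hu, hu'⟩ }
  have hAm : ∀ b, b ∈ A ↔ b ∈ N ∧ (b ∈ E ∨ b * e ∈ E) := fun b => Iff.rfl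
  have hxB : ∀ b ∈ A, B x₀ b = 1 := by
    rintro b ⟨hb, h1 | h1⟩
    · exact (hE b h1).2
    · rw [← h.mul_e' F hb h.x_mem]; exact (hE _ h1).2
  rcases h.eq_perp F (A := A) ⟨h.e_mem, Or.inr (by rw [h.ee]; exact one_mem _)⟩ ⟨h.x_mem, Or.inl hxE⟩
    (fun b hb => ⟨hb.1, hxB b hb⟩) (by
      rintro t ht b ⟨hb, hb'⟩
      refine ⟨h.conj_N (h.D_C F ht) hb, ?_⟩
      rcases hb' with h1 | h1
      · exact Or.inl (hD t ht b h1)
      · right
        have h2 := hD t ht _ h1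
        rwa [h.conj_mul' t, h.e_conj (h.D_C F ht)] at h2) with h1 | h1
  · exact h.a_notMem F (h.mem_XX.2 (h1 a ⟨h.pt_mem h.a_pt, Or.inl haE⟩))
  · -- some `w ∈ x₀^⊥` is not perpendicular to `a`
    have haN := h.pt_mem h.a_pt
    obtain ⟨w, hw, hw1, hw2⟩ : ∃ w ∈ N, B x₀ w = 1 ∧ B a w = -1 := by
      by_contra hc
      push Not at hc
      refine h.a_notMem F (h.mem_XX.2 (h.perp_perp F h.x_pt haN fun w hw h2 => ?_))
      by_contra h3
      exact hc w hw h2 (ne_of h3)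
    obtain ⟨w', hw', hw'2⟩ : ∃ w' ∈ E, B a w' = -1 := by
      rcases (h1 w hw hw1).2 with h2 | h2
      · exact ⟨w, h2, hw2⟩
      · exact ⟨w * e, h2, by rw [h.mul_e' F hw haN, hw2]⟩
    obtain ⟨t, ht⟩ := h.exists_tr h.a_pt
    have h3 := hD t (h.tr_mem_D F h.a_pt ht (h.B_xa F)) w' hw'
    rw [h.neg F h.a_pt ht (hE w' hw').1 hw'2] at h3
    apply heE
    have h4 := E.mul_mem (E.inv_mem haE) (E.mul_mem (E.inv_mem hw') h3)
    rwa [inv_mul_cancel_left, inv_mul_cancel_left] at h4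

/-- **`E = x₀^⊥`** -/
theorem perp_le_E [Finite G] {E : Subgroup G} (hxE : x₀ ∈ E) (haE : a ∈ E) (hE : ∀ b ∈ E, b ∈ N ∧ B x₀ b = 1)
    (hD : ∀ t ∈ D, ∀ b ∈ E, t * b * t⁻¹ ∈ E) {u : G} (hu : u ∈ N) (h1 : B x₀ u = 1) : u ∈ E := by
  rcases h.eq_perp F (A := E) (h.e_mem_E F hxE haE hE hD) hxE hE hD with h2 | h2
  · exact absurd (h.mem_XX.2 (h2 a haE)) (h.a_notMem F)
  · exact h2 u hu h1

theorem T_le_C : T ≤ C := h.TD.trans fun _ hd => h.D_C F hd

/-- an element `g` of `C` with `[N, g] ≤ ⟨e⟩` centralises `N` -/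
theorem triv_e [Finite G] {g : G} (hg : g ∈ C) (h1 : ∀ n ∈ N, g * n * g⁻¹ = n ∨ g * n * g⁻¹ = n * e) :
    ∀ n ∈ N, g * n * g⁻¹ = n := by
  let Y : Subgroup G :=
    { carrier := {y | y ∈ C ∧ ∀ n ∈ N, y * n * y⁻¹ = n ∨ y * n * y⁻¹ = n * e}
      one_mem' := ⟨one_mem _, fun n _ => Or.inl (by group)⟩
      mul_mem' := by
        rintro x y ⟨hx, hx'⟩ ⟨hy, hy'⟩
        refine ⟨mul_mem hx hy, fun n hn => ?_⟩
        have e1 : x * y * n * (x * y)⁻¹ = x * (y * n * y⁻¹) * x⁻¹ := by group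
        rw [e1]
        rcases hy' n hn with h2 | h2 <;> rw [h2]
        · exact hx' n hn
        · rw [h.conj_mul' x, h.e_conj hx]
          rcases hx' n hn with h3 | h3 <;> rw [h3]
          · exact Or.inr rfl
          · left; rw [mul_assoc, h.ee, mul_one]
      inv_mem' := by
        rintro x ⟨hx, hx'⟩
        refine ⟨inv_mem hx, fun n hn => ?_⟩
        have h2 := hx' _ (h.conj_N' hx hn)
        have e1 : x * (x⁻¹ * n * x) * x⁻¹ = n := by group
        rw [e1] at h2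
        rw [inv_inv]
        rcases h2 with h2 | h2
        · exact Or.inl h2.symm
        · right
          calc x⁻¹ * n * x = x⁻¹ * n * x * e * e := by rw [mul_assoc _ e e, h.ee, mul_one]
            _ = n * e := by rw [← h2] }
  have hY : ∀ y, y ∈ Y ↔ y ∈ C ∧ ∀ n ∈ N, y * n * y⁻¹ = n ∨ y * n * y⁻¹ = n * e := fun y => Iff.rfl
  have hCY : C ≤ normalizer (Y : Set G) := by
    have key : ∀ c ∈ C, ∀ y ∈ Y, c * y * c⁻¹ ∈ Y := by
      rintro c hc y ⟨hy, hy1⟩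
      refine ⟨mul_mem (mul_mem hc hy) (inv_mem hc), fun n hn => ?_⟩
      have e1 : c * y * c⁻¹ * n * (c * y * c⁻¹)⁻¹ = c * (y * (c⁻¹ * n * c) * y⁻¹) * c⁻¹ := by group
      rw [e1]
      rcases hy1 _ (h.conj_N' hc hn) with h2 | h2 <;> rw [h2]
      · left; group
      · right
        rw [h.conj_mul' c, h.e_conj hc]; group
    intro c hc
    rw [mem_normalizer_iff]
    intro y
    refine ⟨key c hc y, fun hy => ?_⟩
    have h3 := key c⁻¹ (inv_mem hc) _ hy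
    have e1 : c⁻¹ * (c * y * c⁻¹) * c⁻¹⁻¹ = y := by group
    rwa [e1] at h3
  have hcen := le_cent_of_unip (Y := Y) (h.T_le_C F) h.T_odd
    (fun t ht => ((h.D_iff t).1 (h.TD ht)).2) h.x_mem h.norm h.gen (fun y hy => hy.1) hCY (fun y hy => by
      refine ⟨1, ?_⟩
      rw [pow_one, pow_two, mem_centralizer_iff]
      intro n hn
      have h4 : y * y * n * (y * y)⁻¹ = n := by
        have e1 : y * y * n * (y * y)⁻¹ = y * (y * n * y⁻¹) * y⁻¹ := by group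
        rw [e1]
        rcases hy.2 n hn with h2 | h2
        · rw [h2, h2]
        · rw [h2, h.conj_mul' y, h.e_conj hy.1, h2, mul_assoc, h.ee, mul_one]
      calc n * (y * y) = y * y * n * (y * y)⁻¹ * (y * y) := by rw [h4]
        _ = y * y * n := by group)
  intro n hn
  have h2 := mem_centralizer_iff.1 (hcen ((hY g).2 ⟨hg, h1⟩)) n hn
  rw [← h2]; group

/-- an element `g` of `C` centralising `x₀^⊥` acts on `N` as `n ↦ n m`, `m ∈ ⟨x₀, e⟩`, outside `x₀^⊥` -/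
theorem hyper_aux [Finite G] {g : G} (hg : g ∈ C) (h1 : ∀ n ∈ N, B x₀ n = 1 → g * n * g⁻¹ = n) :
    ∃ m ∈ h.XX, ∀ n ∈ N, B x₀ n = -1 → g * n * g⁻¹ = n * m := by
  obtain ⟨y, hy, hxy⟩ := h.exists_nonperp F h.x_pt
  have hyN := h.pt_mem hy
  have hgy := h.conj_N hg hyN
  refine ⟨y * (g * y * g⁻¹), h.mem_XX.2 (h.perp_perp F h.x_pt (mul_mem hyN hgy) fun w hw h2 => ?_), fun n hn h2 => ?_⟩
  · have h3 := F.inv g hg y hyN w hw
    rw [h1 w hw h2] at h3
    rw [h.mul_left F hyN hgy hw, h3, uu]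
  · have h3 : B x₀ (y * n) = 1 := by rw [F.mul x₀ h.x_mem y hyN n hn, hxy, h2]; decide
    have h4 := h1 _ (mul_mem hyN hn) h3
    have e1 : n = y * (y * n) := by rw [← mul_assoc, h.sq y hyN, one_mul]
    calc g * n * g⁻¹ = g * y * g⁻¹ * (g * (y * n) * g⁻¹) := by
          rw [← h.conj_mul' g, ← e1]
      _ = n * (y * (g * y * g⁻¹)) := by
          rw [h4, ← mul_assoc n, h.comm n hn y hyN, h.comm _ (mul_mem hyN hn) _ hgy]

/-- **an element of `C` centralising the hyperplane `x₀^⊥` acts trivially or as `t_{x₀}`** -/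
theorem hyper [Finite G] {g : G} (hg : g ∈ C) (h1 : ∀ n ∈ N, B x₀ n = 1 → g * n * g⁻¹ = n) :
    (∀ n ∈ N, g * n * g⁻¹ = n) ∨ ∀ n ∈ N, B x₀ n = -1 → g * n * g⁻¹ = n * (x₀ * e) := by
  obtain ⟨m, hm, h2⟩ := h.hyper_aux F hg h1
  have hall : ∀ n ∈ N, g * n * g⁻¹ = n ∨ g * n * g⁻¹ = n * m := by
    intro n hn
    rcases Int.units_eq_one_or (B x₀ n) with h3 | h3
    · exact Or.inl (h1 n hn h3)
    · exact Or.inr (h2 n hn h3)
  rcases h.mem_XX.1 hm with rfl | rfl | rfl | rfl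
  · left
    intro n hn
    rcases hall n hn with h3 | h3
    · exact h3
    · rw [h3, mul_one]
  · exact Or.inl (h.triv_e F hg hall)
  · -- `m = x₀`: `g t₀` acts as `n ↦ n e`
    obtain ⟨t, ht⟩ := h.tr
    have h3 : ∀ n ∈ N, g * t * n * (g * t)⁻¹ = n ∨ g * t * n * (g * t)⁻¹ = n * e := by
      intro n hn
      have e1 : g * t * n * (g * t)⁻¹ = g * (t * n * t⁻¹) * g⁻¹ := by group
      rw [e1]
      rcases Int.units_eq_one_or (B m n) with h4 | h4
      · left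
        rw [h.tr_fix F h.x_pt ht hn h4, h1 n hn h4]
      · right
        rw [h.neg F h.x_pt ht hn h4, h.conj_mul' g, h2 n hn h4, h.conj_mul' g m, h1 m h.x_mem (F.self m h.x_mem),
          h.e_conj hg, mul_assoc, ← mul_assoc m m, h.sq m h.x_mem, one_mul]
    have h4 := h.triv_e F (mul_mem hg ht.1) h3
    right
    intro n hn h5
    have h6 := h4 n hn
    have e1 : g * t * n * (g * t)⁻¹ = g * (t * n * t⁻¹) * g⁻¹ := by group
    rw [e1, h.neg F h.x_pt ht hn h5, h.conj_mul' g, h2 n hn h5, h.conj_mul' g m, h1 m h.x_mem (F.self m h.x_mem),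
      h.e_conj hg, mul_assoc, ← mul_assoc m m, h.sq m h.x_mem, one_mul] at h6
    have h7 : e = 1 := mul_eq_left.1 h6
    rw [h2 n hn h5, h7, mul_one]
  · exact Or.inr h2

/-- the elements of `D` acting trivially on `x₀^⊥ / ⟨x₀, e⟩` -/
def MM : Subgroup G where
  carrier := {g | g ∈ D ∧ ∀ n ∈ N, B x₀ n = 1 → n * (g * n * g⁻¹) ∈ h.XX}
  one_mem' := ⟨one_mem _, fun n hn _ => by simp [h.sq n hn]⟩
  mul_mem' := by
    rintro x y ⟨hx, hx'⟩ ⟨hy, hy'⟩
    refine ⟨mul_mem hx hy, fun n hn h1 => ?_⟩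
    have h3 := hy' n hn h1
    have h4 := hx' n hn h1
    have e1 : x * y * n * (x * y)⁻¹ = x * n * x⁻¹ * (x * (n⁻¹ * (y * n * y⁻¹)) * x⁻¹) := by group
    rw [e1, h.inv_eq hn, h.D_XX F hx h3, ← mul_assoc]
    exact mul_mem h4 h3
  inv_mem' := by
    rintro x ⟨hx, hx'⟩
    refine ⟨inv_mem hx, fun n hn h1 => ?_⟩
    have hxC := h.D_C F hx
    have h3 := hx' _ (h.conj_N' hxC hn) (by rw [h.D_B' F hx hn, h1])
    have e1 : x * (x⁻¹ * n * x) * x⁻¹ = n := by group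
    rw [e1] at h3
    rw [inv_inv, h.comm n hn _ (h.conj_N' hxC hn)]
    exact h3

theorem mem_MM {g : G} : g ∈ h.MM F ↔ g ∈ D ∧ ∀ n ∈ N, B x₀ n = 1 → n * (g * n * g⁻¹) ∈ h.XX := Iff.rfl

theorem D_norm_MM : D ≤ normalizer (h.MM F : Set G) := by
  have key : ∀ d ∈ D, ∀ y ∈ h.MM F, d * y * d⁻¹ ∈ h.MM F := by
    rintro d hd y ⟨hy, hy1⟩
    have hdC := h.D_C F hd
    refine ⟨mul_mem (mul_mem hd hy) (inv_mem hd), fun n hn h1 => ?_⟩
    have h3 := hy1 _ (h.conj_N' hdC hn) (by rw [h.D_B' F hd hn, h1])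
    have h4 := h.D_XX F hd h3
    have e1 : d * (d⁻¹ * n * d * (y * (d⁻¹ * n * d) * y⁻¹)) * d⁻¹ = n * (d * y * d⁻¹ * n * (d * y * d⁻¹)⁻¹) := by
      group
    rw [← e1, h4]
    exact h3
  intro c hc
  rw [mem_normalizer_iff]
  intro y
  refine ⟨key c hc y, fun hy => ?_⟩
  have h3 := key c⁻¹ (inv_mem hc) _ hy
  have e1 : c⁻¹ * (c * y * c⁻¹) * c⁻¹⁻¹ = y := by group
  rwa [e1] at h3

/-- fourth powers of elements of `MM` centralise `N` -/
theorem MM_pow [Finite G] {g : G} (hg : g ∈ h.MM F) : g ^ 2 ^ 2 ∈ centralizer (N : Set G) := by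
  obtain ⟨hgD, h1⟩ := (h.mem_MM F).1 hg
  have hgC := h.D_C F hgD
  have hggD := mul_mem hgD hgD
  have hgg := mul_mem hgC hgC
  -- `g²` centralises `x₀^⊥`
  have h2 : ∀ n ∈ N, B x₀ n = 1 → g * g * n * (g * g)⁻¹ = n := by
    intro n hn hx
    have h3 := h1 n hn hx
    have h4 : g * n * g⁻¹ = n * (n * (g * n * g⁻¹)) := by rw [← mul_assoc, h.sq n hn, one_mul]
    have h5 := h.D_XX F hgD h3
    calc g * g * n * (g * g)⁻¹ = g * (g * n * g⁻¹) * g⁻¹ := by group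
      _ = g * (n * (n * (g * n * g⁻¹))) * g⁻¹ := by rw [← h4]
      _ = g * n * g⁻¹ * (g * (n * (g * n * g⁻¹)) * g⁻¹) := by group
      _ = g * n * g⁻¹ * (n * (g * n * g⁻¹)) := by rw [h5]
      _ = n * (n * (g * n * g⁻¹)) * (n * (g * n * g⁻¹)) := by rw [← h4]
      _ = n := by rw [mul_assoc, h.sq _ (h.XX_le F h3), mul_one]
  obtain ⟨m, hm, h3⟩ := h.hyper_aux F hgg h2
  have h4 : ∀ n ∈ N, g * g * (g * g) * n * (g * g * (g * g))⁻¹ = n := by
    intro n hn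
    have e1 : g * g * (g * g) * n * (g * g * (g * g))⁻¹ = g * g * (g * g * n * (g * g)⁻¹) * (g * g)⁻¹ := by group
    rw [e1]
    rcases Int.units_eq_one_or (B x₀ n) with h5 | h5
    · rw [h2 n hn h5, h2 n hn h5]
    · rw [h3 n hn h5, h.conj_mul' (g * g), h3 n hn h5, h.D_XX F hggD hm, mul_assoc, h.sq _ (h.XX_le F hm), mul_one]
  have e2 : g ^ 2 ^ 2 = g * g * (g * g) := by norm_num [pow_succ, mul_assoc]
  rw [e2, mem_centralizer_iff]
  intro n hn
  calc n * (g * g * (g * g)) = g * g * (g * g) * n * (g * g * (g * g))⁻¹ * (g * g * (g * g)) := by rw [h4 n hn]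
    _ = g * g * (g * g) * n := by group

/-- **`MM` is covered by `T`** -/
theorem MM_le [Finite G] {g : G} (hg : g ∈ h.MM F) : ∃ t ∈ T, ∀ n ∈ N, g * n * g⁻¹ = t * n * t⁻¹ := by
  let K : Subgroup G :=
    { carrier := {g | g ∈ C ∧ ∃ t ∈ T, ∀ n ∈ N, g * n * g⁻¹ = t * n * t⁻¹}
      one_mem' := ⟨one_mem _, 1, one_mem _, fun _ _ => rfl⟩
      mul_mem' := by
        rintro x y ⟨hx, s, hs, hx'⟩ ⟨hy, t, ht, hy'⟩
        refine ⟨mul_mem hx hy, s * t, mul_mem hs ht, fun n hn => ?_⟩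
        have htn := h.conj_N (h.T_le_C F ht) hn
        calc x * y * n * (x * y)⁻¹ = x * (y * n * y⁻¹) * x⁻¹ := by group
          _ = s * (t * n * t⁻¹) * s⁻¹ := by rw [hy' n hn, hx' _ htn]
          _ = _ := by group
      inv_mem' := by
        rintro x ⟨hx, s, hs, hx'⟩
        refine ⟨inv_mem hx, s⁻¹, inv_mem hs, fun n hn => ?_⟩
        have h1 := hx' _ (h.conj_N' hx hn)
        have e1 : x * (x⁻¹ * n * x) * x⁻¹ = n := by group
        rw [e1] at h1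
        calc x⁻¹ * n * x⁻¹⁻¹ = s⁻¹ * (s * (x⁻¹ * n * x) * s⁻¹) * s := by group
          _ = s⁻¹ * n * s⁻¹⁻¹ := by rw [← h1, inv_inv] }
  have hMD : h.MM F ≤ D := fun y hy => hy.1
  have hDC : D ≤ C := fun d hd => h.D_C F hd
  have hTo : ¬ 2 ∣ T.relIndex D := fun h1 =>
    h.T_odd (h1.trans (Dvd.intro _ (relIndex_mul_relIndex T D C h.TD hDC)))
  have hYF : h.MM F ≤ normalizer ((h.MM F ⊓ centralizer (N : Set G) : Subgroup G) : Set G) := by
    have key : ∀ y ∈ h.MM F, ∀ x ∈ h.MM F ⊓ centralizer (N : Set G), y * x * y⁻¹ ∈ h.MM F ⊓ centralizer (N : Set G) := by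
      rintro y hy x ⟨h1, h2⟩
      exact ⟨(h.MM F).mul_mem ((h.MM F).mul_mem hy h1) ((h.MM F).inv_mem hy),
        conj_cent (h.norm (h.D_C F hy.1)) h2⟩
    intro y hy
    rw [mem_normalizer_iff]
    intro x
    refine ⟨key y hy x, fun hx => ?_⟩
    have h1 := key y⁻¹ (inv_mem hy) _ hx
    have e : y⁻¹ * (y * x * y⁻¹) * y⁻¹⁻¹ = x := by group
    rwa [e] at h1
  have h1 := IId.Big.Red.le_sup_inf (P := T) (M := h.MM F) (C := D) (F := h.MM F ⊓ centralizer (N : Set G)) h.TD hMD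
    (h.TD.trans (h.D_norm_MM F)) hTo inf_le_left hYF (fun m hm => ⟨2, pow_mem hm _, h.MM_pow F hm⟩)
  have h2 : h.MM F ≤ K := by
    refine h1.trans (sup_le ?_ ?_)
    · rintro x ⟨hx, hx'⟩
      refine ⟨hDC (hMD hx), 1, one_mem _, fun n hn => ?_⟩
      have := mem_centralizer_iff.1 hx' n hn
      rw [← this]; group
    · rintro x ⟨hx, hx'⟩
      exact ⟨hDC (hMD hx), x, hx', fun _ _ => rfl⟩
  exact (h2 hg).2

/-- **`C_{N~}(T) = ⟨x₀⟩`** -/
theorem fix_T [Finite G] {n : G} (hn : n ∈ N) (hT : ∀ t ∈ T, t * n * t⁻¹ = n ∨ t * n * t⁻¹ = n * e) : n ∈ h.XX := by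
  have hpx := h.pt_ne F h.x_pt
  -- an element of `MM` moving `n` by an element of `x₀ ⟨e⟩`
  have key : ∀ g ∈ h.MM F, ∀ z, (z = x₀ ∨ z = x₀ * e) → g * n * g⁻¹ ≠ n * z := by
    intro g hg z hz h1
    obtain ⟨t, ht, h2⟩ := h.MM_le F hg
    rw [h2 n hn] at h1
    have h3 : z = 1 ∨ z = e := by
      rcases hT t ht with h3 | h3 <;> rw [h3] at h1
      · exact Or.inl (mul_eq_left.1 h1.symm)
      · exact Or.inr (mul_left_cancel h1).symm
    rcases hz with rfl | rfl <;> rcases h3 with h3 | h3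
    · exact hpx.1 h3
    · exact hpx.2 h3
    · rw [mul_eq_one_iff_eq_inv, h.inv_eq h.e_mem] at h3; exact hpx.2 h3
    · exact hpx.1 (mul_eq_right.1 h3)
  rcases Int.units_eq_one_or (B x₀ n) with hx | hx
  · by_contra hc
    -- a point `u` of `x₀^⊥` not perpendicular to `n`
    obtain ⟨u, hu, hxu, hnu⟩ : ∃ u ∈ Pts C x₀, B x₀ u = 1 ∧ B n u = -1 := by
      obtain ⟨w, hw, hw1, hw2⟩ : ∃ w ∈ N, B x₀ w = 1 ∧ B n w = -1 := by
        by_contra hc2
        push Not at hc2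
        refine hc (h.mem_XX.2 (h.perp_perp F h.x_pt hn fun w hw h2 => ?_))
        by_contra h3
        exact hc2 w hw h2 (ne_of h3)
      rcases h.points F hw with h2 | h2 | h2 | h2
      · rw [h2, h.one_r F hn] at hw2; exact absurd hw2.symm neg_ne
      · rw [h2, h.e_r F hn] at hw2; exact absurd hw2.symm neg_ne
      · exact ⟨w, h2, hw1, hw2⟩
      · exact ⟨w * e, h2, by rw [h.mul_e' F hw h.x_mem, hw1], by rw [h.mul_e' F hw hn, hw2]⟩
    have huN := h.pt_mem hu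
    have hxuN := mul_mem h.x_mem huN
    have hnxu : B n (x₀ * u) = -1 := by rw [F.mul n hn x₀ h.x_mem u huN, F.symm n hn x₀ h.x_mem, hx, hnu, one_mul]
    obtain ⟨u', hu', e', he', hue⟩ : ∃ u' ∈ Pts C x₀, ∃ e', (e' = 1 ∨ e' = e) ∧ u' = x₀ * u * e' := by
      rcases h.points F hxuN with h2 | h2 | h2 | h2
      · rw [h2, h.one_r F hn] at hnxu; exact absurd hnxu.symm neg_ne
      · rw [h2, h.e_r F hn] at hnxu; exact absurd hnxu.symm neg_ne
      · exact ⟨_, h2, 1, Or.inl rfl, by rw [mul_one]⟩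
      · exact ⟨_, h2, e, Or.inr rfl, rfl⟩
    have hu'N := h.pt_mem hu'
    have he'N : e' ∈ N := by
      rcases he' with rfl | rfl
      · exact N.one_mem
      · exact h.e_mem
    -- `B u' m = B u m` for `m ∈ x₀^⊥`
    have hB : ∀ m ∈ N, B u' m = B x₀ m * B u m := by
      intro m hm
      have h2 : B (x₀ * u * e') m = B (x₀ * u) m := by
        rcases he' with rfl | rfl
        · rw [mul_one]
        · exact h.mul_e F hxuN hm
      rw [hue, h2, h.mul_left F h.x_mem huN hm]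
    have huu' : B u u' = 1 := by
      rw [F.symm u huN u' hu'N, hB u huN, hxu, F.self u huN, one_mul]
    have hxu' : B x₀ u' = 1 := by
      rw [F.symm x₀ h.x_mem u' hu'N, hB x₀ h.x_mem, F.self x₀ h.x_mem, F.symm u huN x₀ h.x_mem, hxu, one_mul]
    obtain ⟨t, ht⟩ := h.exists_tr hu
    obtain ⟨s, hs⟩ := h.exists_tr hu'
    have hact : ∀ m ∈ N, B x₀ m = 1 → (B u m = 1 → t * s * m * (t * s)⁻¹ = m) ∧
        (B u m = -1 → t * s * m * (t * s)⁻¹ = m * (x₀ * e')) := by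
      intro m hm hxm
      have e1 : t * s * m * (t * s)⁻¹ = t * (s * m * s⁻¹) * t⁻¹ := by group
      have h2 := hB m hm
      rw [hxm, one_mul] at h2
      constructor
      · intro h3
        rw [e1, h.tr_fix F hu' hs hm (by rw [h2, h3]), h.tr_fix F hu ht hm h3]
      · intro h3
        have h4 : t * (u' * e) * t⁻¹ = u' * e := by
          rw [h.conj_mul' t, h.tr_fix F hu ht hu'N huu', h.e_conj ht.1]
        rw [e1, h.neg F hu' hs hm (by rw [h2, h3]), h.conj_mul' t m, h.neg F hu ht hm h3, h4, mul_assoc]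
        congr 1
        calc u * e * (u' * e) = u * (e * u') * e := by group
          _ = u * (u' * e) * e := by rw [h.comm e h.e_mem u' hu'N]
          _ = u * u' * (e * e) := by group
          _ = u * (u * x₀ * e') := by rw [h.ee, mul_one, hue, h.comm x₀ h.x_mem u huN]
          _ = (u * u) * (x₀ * e') := by group
          _ = x₀ * e' := by rw [h.sq u huN, one_mul]
    have hmem : t * s ∈ h.MM F := by
      refine ⟨mul_mem (h.tr_mem_D F hu ht hxu) (h.tr_mem_D F hu' hs hxu'), fun m hm hxm => ?_⟩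
      rcases Int.units_eq_one_or (B u m) with h2 | h2
      · rw [(hact m hm hxm).1 h2, h.sq m hm]
        exact one_mem _
      · rw [(hact m hm hxm).2 h2, ← mul_assoc, h.sq m hm, one_mul]
        rcases he' with rfl | rfl
        · rw [mul_one]; exact h.mem_XX.2 (Or.inr (Or.inr (Or.inl rfl)))
        · exact h.mem_XX.2 (Or.inr (Or.inr (Or.inr rfl)))
    refine key _ hmem (x₀ * e') ?_ ((hact n hn hx).2 (by rw [F.symm u huN n hn, hnu]))
    rcases he' with rfl | rfl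
    · left; rw [mul_one]
    · right; rfl
  · obtain ⟨t, ht⟩ := h.tr
    have h1 := h.neg F h.x_pt ht hn hx
    refine absurd h1 (key t ⟨h.tr_mem_D F h.x_pt ht (F.self _ h.x_mem), fun m hm hxm => ?_⟩ _ (Or.inr rfl))
    rw [h.tr_fix F h.x_pt ht hm hxm, h.sq m hm]
    exact one_mem _

/-- **`C_{N~}(R) = 1`** if `R` contains all transvections -/
theorem fix_R [Finite G] {R : Subgroup G}
    (hR : ∀ p ∈ Pts C x₀, ∃ r ∈ R, ∃ t, Tr C N e p t ∧ ∀ m ∈ N, r * m * r⁻¹ = t * m * t⁻¹) {n : G} (hn : n ∈ N)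
    (h1 : ∀ r ∈ R, r * n * r⁻¹ = n ∨ r * n * r⁻¹ = n * e) : n = 1 ∨ n = e := by
  refine h.rad F hn fun w hw => ?_
  rw [F.symm n hn w hw]
  refine h.ext (φ := fun w => B w n) (ψ := fun _ => 1) (fun _ hx _ hy => h.mul_left F hx hy hn)
    (fun _ _ _ _ => by simp) (fun p hp => ?_) w hw
  obtain ⟨r, hr, t, ht, hrt⟩ := hR p hp
  by_contra h2
  have h3 := h.neg F hp ht hn (ne_of h2)
  rw [← hrt n hn] at h3
  have hpx := h.pt_ne F hp
  rcases h1 r hr with h4 | h4 <;> rw [h4] at h3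
  · have h5 := mul_eq_left.1 h3.symm
    rw [mul_eq_one_iff_eq_inv, h.inv_eq h.e_mem] at h5
    exact hpx.2 h5
  · exact hpx.1 (mul_eq_right.1 (mul_left_cancel h3).symm)

end frm

end TDat

end Cfsg.Agent.Omega.OM.KTwo.StrSp
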